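import Mathlib
import Cfsg.Prelude.Def_CaseTheorems
import Cfsg.Agent.Lib.PGroups.UniqueOrderP
import Cfsg.Agent.Lib.Involutions.SylowGLTwo

set_option autoImplicit false

namespace CfsgLib.Rec.TransVec

/-- a prime power `2 ^ n - 1` is a prime -/
lemma exp_one_of_two_pow_sub_one {n p a : ℕ} (hp : p.Prime) (hn : 2 ≤ n) (ha : a ≠ 0)
    (h : 2 ^ n - 1 = p ^ a) : a = 1 := by
  have h1 : p ^ a + 1 = 2 ^ n := by have := Nat.one_le_two_pow (n := n); omega
  have hpodd : Odd p := by
    rcases hp.eq_two_or_odd' with rfl | ho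
    · exfalso
      have e1 : (2:ℕ) ∣ 2 ^ n := dvd_pow_self 2 (by omega)
      have e2 : (2:ℕ) ∣ 2 ^ a := dvd_pow_self 2 ha
      omega
    · exact ho
  have h4 : 4 ∣ 2 ^ n := pow_dvd_pow 2 hn
  rcases Nat.even_or_odd a with ⟨b, rfl⟩ | hodd
  · exfalso
    obtain ⟨c, hc⟩ := hpodd.pow (n := b)
    rw [pow_add, hc] at h1
    have : (2 * c + 1) * (2 * c + 1) + 1 = 4 * (c * c + c) + 2 := by ring
    omega
  · have hZ : (-(p : ℤ)) ^ a - 1 = -(2 : ℤ) ^ n := by
      rw [hodd.neg_pow]
      have : ((p : ℤ) ^ a + 1) = 2 ^ n := by exact_mod_cast h1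
      linarith
    set S := ∑ i ∈ Finset.range a, (-(p : ℤ)) ^ i with hS
    have hmul : S * ((-(p : ℤ)) - 1) = -(2 : ℤ) ^ n := by rw [hS, geom_sum_mul, hZ]
    have hSodd : (S : ZMod 2) = 1 := by
      rw [hS]; push_cast
      have : (p : ZMod 2) = 1 := (ZMod.natCast_eq_one_iff_odd).mpr hpodd
      simp only [this, ZMod.neg_eq_self_mod_two, one_pow, Finset.sum_const, Finset.card_range,
        nsmul_eq_mul, mul_one]
      exact (ZMod.natCast_eq_one_iff_odd).mpr hodd
    have hSdvd : S.natAbs ∣ 2 ^ n := by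
      have := congrArg Int.natAbs hmul
      rw [Int.natAbs_mul, Int.natAbs_neg, Int.natAbs_pow] at this
      exact ⟨_, this.symm⟩
    obtain ⟨i, -, hi⟩ := (Nat.dvd_prime_pow Nat.prime_two).mp hSdvd
    have hi0 : i = 0 := by
      by_contra hne
      have h2 : (2:ℕ) ∣ S.natAbs := hi ▸ dvd_pow_self 2 hne
      have := (ZMod.intCast_zmod_eq_zero_iff_dvd S 2).mpr (Int.natCast_dvd.mpr h2)
      rw [hSodd] at this
      exact one_ne_zero this
    rw [hi0, pow_zero] at hi
    have hfin : p ^ a = p ^ 1 := by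
      have := congrArg Int.natAbs hmul
      rw [Int.natAbs_mul, Int.natAbs_neg, Int.natAbs_pow, hi, one_mul] at this
      have h2 : ((-(p : ℤ)) - 1).natAbs = p + 1 := by omega
      rw [h2] at this
      have h3 : Int.natAbs 2 = 2 := rfl
      rw [h3] at this
      rw [pow_one]
      omega
    exact Nat.pow_right_injective hp.two_le hfin

lemma odd_geom_sum {q n : ℕ} (hq : Odd q) (hn : Odd n) : Odd (∑ i ∈ Finset.range n, q ^ i) := by
  rw [← ZMod.natCast_eq_one_iff_odd]
  push_cast
  simp only [(ZMod.natCast_eq_one_iff_odd).mpr hq, one_pow, Finset.sum_const, Finset.card_range,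
    nsmul_eq_mul, mul_one]
  exact (ZMod.natCast_eq_one_iff_odd).mpr hn

/-- the exponents when an odd prime power exceeds a power of two by one -/
lemma odd_prime_pow_eq {q n a : ℕ} (hq : q.Prime) (hodd : Odd q) (hn : n ≠ 0)
    (h : q ^ n - 1 = 2 ^ a) : n = 1 ∨ (q = 3 ∧ n = 2) := by
  rcases Nat.even_or_odd n with ⟨m, rfl⟩ | hno
  · right
    have hm : m ≠ 0 := by omega
    have hfac : (q ^ m + 1) * (q ^ m - 1) = 2 ^ a := by
      rw [← h, pow_add, ← Nat.sq_sub_sq, one_pow, sq]
    obtain ⟨i, -, hi⟩ := (Nat.dvd_prime_pow Nat.prime_two).mp ⟨_, hfac.symm⟩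
    obtain ⟨j, -, hj⟩ := (Nat.dvd_prime_pow Nat.prime_two).mp
      (show q ^ m - 1 ∣ 2 ^ a from ⟨_, (mul_comm _ _).trans hfac |>.symm⟩)
    have h3 : 3 ≤ q := by
      have := hq.two_le
      obtain ⟨c, hc⟩ := hodd
      omega
    have hqm : 3 ≤ q ^ m := le_trans h3 (Nat.le_self_pow hm q)
    have hj1 : j = 1 := by
      match j, i with
      | 0, _ => simp at hj; omega
      | 1, _ => rfl
      | j + 2, 0 => simp at hi; omega
      | j + 2, 1 => simp at hi; omega
      | j + 2, i + 2 =>
        have e1 : 4 ∣ 2 ^ (j + 2) := pow_dvd_pow 2 (show 2 ≤ j + 2 by omega)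
        have e2 : 4 ∣ 2 ^ (i + 2) := pow_dvd_pow 2 (show 2 ≤ i + 2 by omega)
        omega
    subst hj1
    have hq3 : q ^ m = 3 := by omega
    have hm1 : m = 1 := by
      by_contra hne
      have : q ^ 2 ≤ q ^ m := Nat.pow_le_pow_right (by omega) (by omega)
      nlinarith
    subst hm1
    rw [pow_one] at hq3
    exact ⟨hq3, rfl⟩
  · left
    have hgs := (odd_geom_sum hodd hno)
    have h2 : (∑ i ∈ Finset.range n, q ^ i) * (q - 1) = 2 ^ a := by
      rw [← h, Nat.geomSum_eq hq.two_le, Nat.div_mul_cancel]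
      simpa using Nat.sub_dvd_pow_sub_pow q 1 n
    obtain ⟨i, -, hi⟩ := (Nat.dvd_prime_pow Nat.prime_two).mp ⟨_, h2.symm⟩
    have hi0 : i = 0 := by
      by_contra hne
      rw [hi] at hgs
      exact absurd ((Nat.even_pow.mpr ⟨even_two, hne⟩)) (Nat.not_even_iff_odd.mpr hgs)
    rw [hi0, pow_zero] at hi
    by_contra hne
    have hle : ∑ i ∈ Finset.range 2, q ^ i ≤ ∑ i ∈ Finset.range n, q ^ i :=
      Finset.sum_le_sum_of_subset (Finset.range_mono (by omega))
    simp [Finset.sum_range_succ] at hle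
    have := hq.two_le
    omega

lemma isQuasiDihedral_congr {S T : Type*} [Group S] [Group T] (e : S ≃* T)
    (h : Cfsg.IsQuasiDihedral S) : Cfsg.IsQuasiDihedral T := by
  obtain ⟨n, hn, hc, x, y, hx, hy, hr⟩ := h
  exact ⟨n, hn, by rw [← Nat.card_congr e.toEquiv, hc], e x, e y, by rw [e.orderOf_eq, hx],
    by rw [e.orderOf_eq, hy], by rw [← map_inv, ← map_mul, ← map_mul, hr, map_pow]⟩

variable (q : ℕ) [Fact q.Prime] {V : Type*} [AddCommGroup V] [Module (ZMod q) V] [Finite V]
    {G : Type*} [Group G] [Finite G] (p : ℕ) [Fact p.Prime]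

theorem main [Nontrivial V] [Nontrivial G] (hG : IsPGroup p G)
    (ρ : G →* (V ≃ₗ[ZMod q] V)) (hρ : Function.Injective ρ)
    (htrans : ∀ v w : V, v ≠ 0 → w ≠ 0 → ∃ g : G, ρ g v = w) :
    (q = 2 ∧ p = Nat.card V - 1 ∧ Nat.card G = p) ∨
    (p = 2 ∧ Nat.card V = q ∧ (∃ m : ℕ, q = 2 ^ m + 1 ∧ Nat.card G = 2 ^ m) ∧ IsCyclic G) ∨
    (p = 2 ∧ q = 3 ∧ Nat.card V = 9 ∧
      ((IsCyclic G ∧ Nat.card G = 8) ∨ Nonempty (G ≃* QuaternionGroup 2) ∨
        (Cfsg.IsQuasiDihedral G ∧ Nat.card G = 16))) := by
  classical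
  have hq : q.Prime := Fact.out
  have hp : p.Prime := Fact.out
  let act : MulAction G V := MulAction.compHom V ρ
  have hsmul : ∀ (g : G) (v : V), g • v = ρ g v := fun g v => rfl
  haveI : FiniteDimensional (ZMod q) V := Module.Finite.of_finite
  set n := Module.finrank (ZMod q) V with hn
  have hN : Nat.card V = q ^ n := by
    rw [hn, Module.natCard_eq_pow_finrank (K := ZMod q), Nat.card_zmod]
  have hn1 : 1 ≤ n := Module.finrank_pos
  have h0 : ∀ g : G, ρ g 0 = 0 := fun g => map_zero _
  have horb : ∀ v : V, v ≠ 0 → MulAction.orbit G v = {w | w ≠ 0} := by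
    intro v hv; ext w; constructor
    · rintro ⟨g, rfl⟩
      simp only [Set.mem_ofPred_eq, hsmul]
      exact fun h => hv ((ρ g).map_eq_zero_iff.mp h)
    · intro hw; obtain ⟨g, hg⟩ := htrans v w hv hw; exact ⟨g, hg⟩
  obtain ⟨v₀, hv₀⟩ := exists_ne (0 : V)
  have hcnt : (MulAction.stabilizer G v₀).index = q ^ n - 1 := by
    rw [MulAction.index_stabilizer, horb v₀ hv₀, ← hN]
    have : ({w : V | w ≠ 0}) = ({0} : Set V)ᶜ := rfl
    rw [this, Set.ncard_compl, Set.ncard_singleton]
  obtain ⟨a, ha⟩ := IsPGroup.iff_card.mp hG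
  have hdvd : q ^ n - 1 ∣ p ^ a := hcnt ▸ ha ▸ Subgroup.index_dvd_card _
  obtain ⟨b, hb, hbq⟩ := (Nat.dvd_prime_pow hp).mp hdvd
  have hsemi_card : (∀ g : G, ρ g v₀ = v₀ → g = 1) → Nat.card G = q ^ n - 1 := by
    intro h
    have hbot : MulAction.stabilizer G v₀ = ⊥ := (Subgroup.eq_bot_iff_forall _).mpr fun g hg => h g hg
    rw [← hcnt, hbot, Subgroup.index_bot]
  have hb0 : b ≠ 0 := by
    intro h; subst h
    obtain ⟨g, hg⟩ := exists_ne (1 : G)
    refine hg (hρ (LinearEquiv.ext fun v => ?_))
    rw [map_one]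
    show ρ g v = v
    by_cases hv : v = 0
    · rw [hv, h0]
    · by_contra hne
      have hz : ρ g v ≠ 0 := fun h => hv ((ρ g).map_eq_zero_iff.mp h)
      have h3 : 3 ≤ ({0, v, ρ g v} : Set V).ncard := by
        rw [Set.ncard_insert_of_notMem, Set.ncard_pair (Ne.symm hne)]
        simp [Ne.symm hv, Ne.symm hz]
      have := le_trans h3 (le_trans (Set.ncard_le_ncard (Set.subset_univ _)) (le_of_eq (Set.ncard_univ V)))
      rw [hN] at this; simp at hbq; omega
  rcases hq.eq_two_or_odd' with hq2 | hqodd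
  · left
    subst hq2
    have hn2 : 2 ≤ n := by
      by_contra h
      have : n = 1 := by omega
      rw [this] at hbq
      exact hb0 (Nat.pow_eq_one.mp (by simpa using hbq.symm) |>.resolve_left hp.ne_one)
    have hb1 := exp_one_of_two_pow_sub_one hp hn2 hb0 hbq
    subst hb1
    rw [pow_one] at hbq
    refine ⟨rfl, by rw [hN]; exact hbq.symm, ?_⟩
    rw [hsemi_card ?_, hbq]
    intro g hg
    let W : Submodule (ZMod 2) V := LinearMap.ker ((ρ g : V →ₗ[ZMod 2] V) - LinearMap.id)
    have hW : ∀ v, v ∈ W ↔ ρ g v = v := fun v => by simp [W, sub_eq_zero]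
    by_contra hg1
    have hWtop : W ≠ ⊤ := fun h => hg1 (hρ (LinearEquiv.ext fun v => by
      rw [map_one]; exact (hW v).mp (h ▸ Submodule.mem_top)))
    have hfix : MulAction.fixedPoints (Subgroup.zpowers g) V = (W : Set V) := by
      ext v; constructor
      · intro h; exact (hW v).mpr (h ⟨g, Subgroup.mem_zpowers g⟩)
      · rintro h ⟨x, hx⟩
        show x • v = v
        have : g ∈ MulAction.stabilizer G v := (hW v).mp h
        exact (Subgroup.zpowers_le.mpr this) hx
    have hmod := (hG.to_subgroup (Subgroup.zpowers g)).card_modEq_card_fixedPoints V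
    rw [hfix, hN] at hmod
    have hWc : Nat.card W = 2 ^ Module.finrank (ZMod 2) W := by
      rw [Module.natCard_eq_pow_finrank (K := ZMod 2), Nat.card_zmod]
    change 2 ^ n ≡ Nat.card W [MOD p] at hmod
    rw [hWc] at hmod
    set d := Module.finrank (ZMod 2) W with hd
    have hdn : d < n := Submodule.finrank_lt hWtop
    have hd1 : 1 ≤ d := Submodule.one_le_finrank_iff.mpr fun h => hv₀ (by
      have := (hW v₀).mpr hg; rw [h] at this; simpa using this)
    have hpe : p + 1 = 2 ^ n := by have := Nat.one_le_two_pow (n := n); omega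
    have h21 : 2 ^ n ≡ 1 [MOD p] := by rw [← hpe]; simp [Nat.ModEq]
    have hdvd : p ∣ 2 ^ d - 1 :=
      (Nat.modEq_iff_dvd' Nat.one_le_two_pow).mp (h21.symm.trans hmod)
    have hlt : 2 ^ d - 1 < p := by
      have : 2 ^ (d + 1) ≤ 2 ^ n := Nat.pow_le_pow_right (by omega) hdn
      rw [pow_succ] at this
      have := Nat.one_le_two_pow (n := d)
      omega
    have h2d : 2 ≤ 2 ^ d := Nat.le_self_pow (by omega) 2
    have := Nat.le_of_dvd (by omega) hdvd
    omega
  · right
    have hp2 : p = 2 := by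
      have : Even (q ^ n - 1) := by
        obtain ⟨c, hc⟩ := hqodd.pow (n := n)
        exact ⟨c, by omega⟩
      rw [hbq, Nat.even_pow] at this
      exact hp.even_iff.mp this.1
    subst hp2
    rcases odd_prime_pow_eq hq hqodd (by omega) hbq with hn1' | ⟨rfl, hn2⟩
    · left
      rw [hn1', pow_one] at hN hbq
      have hq' : q = 2 ^ b + 1 := by have := hq.two_le; omega
      have hspan : ∀ w : V, ∃ c : ZMod q, c • v₀ = w := by
        have : Function.Bijective (fun c : ZMod q => c • v₀) :=
          (Nat.bijective_iff_injective_and_card _).mpr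
            ⟨fun a b h => smul_left_injective (ZMod q) hv₀ h, by rw [Nat.card_zmod, hN]⟩
        exact this.2
      have hsemi : ∀ g : G, ρ g v₀ = v₀ → g = 1 := fun g hg => hρ (LinearEquiv.ext fun w => by
        obtain ⟨c, rfl⟩ := hspan w
        rw [map_smul, hg, map_one]; rfl)
      refine ⟨rfl, hN, ⟨b, hq', ?_⟩, ?_⟩
      · rw [hsemi_card hsemi, hn1', pow_one]; exact hbq
      · choose c hc using hspan
        let χ : G →* ZMod q :=
          { toFun := fun g => c (ρ g v₀)
            map_one' := smul_left_injective (ZMod q) hv₀ (by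
              show c (ρ 1 v₀) • v₀ = (1 : ZMod q) • v₀
              rw [hc, map_one, one_smul]; rfl)
            map_mul' := fun g h => smul_left_injective (ZMod q) hv₀ (by
              show c (ρ (g * h) v₀) • v₀ = (c (ρ g v₀) * c (ρ h v₀)) • v₀
              rw [hc, map_mul, mul_comm, mul_smul, hc (ρ g v₀), ← map_smul, hc]; rfl) }
        refine isCyclic_of_injective_ringHom χ ?_
        intro g h hgh
        have e : ρ g v₀ = ρ h v₀ := by
          rw [← hc (ρ g v₀), ← hc (ρ h v₀)]; exact congrArg (· • v₀) hgh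
        refine inv_mul_eq_one.mp ?_ |>.symm
        refine hsemi _ ?_
        rw [map_mul]
        show ρ h⁻¹ (ρ g v₀) = v₀
        rw [e, map_inv]; exact (ρ h).symm_apply_apply v₀
    · right
      rw [hn2] at hN hbq hcnt hsemi_card
      refine ⟨rfl, rfl, by simpa using hN, ?_⟩
      let e : V ≃ₗ[ZMod 3] (Fin 2 → ZMod 3) := (Module.finBasisOfFinrankEq (ZMod 3) V hn2).equivFun
      let φ : G →* GL (Fin 2) (ZMod 3) :=
        (Matrix.GeneralLinearGroup.toLin.symm.toMonoidHom).comp
          ((LinearMap.GeneralLinearGroup.generalLinearEquiv (ZMod 3) (Fin 2 → ZMod 3)).symm.toMonoidHom.comp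
            (MonoidHom.mk' (fun g => e.symm.trans ((ρ g).trans e)) (fun g h => by
              ext v; simp [map_mul])))
      have hφ : Function.Injective φ := by
        intro g h hgh
        have h1 : e.symm.trans ((ρ g).trans e) = e.symm.trans ((ρ h).trans e) :=
          (LinearMap.GeneralLinearGroup.generalLinearEquiv _ _).symm.injective
            (Matrix.GeneralLinearGroup.toLin.symm.injective hgh)
        refine hρ (LinearEquiv.ext fun v => e.injective ?_)
        simpa using LinearEquiv.congr_fun h1 (e v)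
      have hGL : Nat.card (GL (Fin 2) (ZMod 3)) = 48 := by
        rw [Matrix.card_GL_field]; simp [Fin.prod_univ_two, ZMod.card]
      have hle : a ≤ 4 := by
        have h48 := Subgroup.card_dvd_of_injective φ hφ
        rw [ha, hGL] at h48
        by_contra hlt
        have := (pow_dvd_pow 2 (show 5 ≤ a by omega)).trans h48
        norm_num at this
      have hge : 3 ≤ a := by
        have h8 : (3 ^ 2 - 1 : ℕ) ∣ 2 ^ a := by rw [← hcnt, ← ha]; exact Subgroup.index_dvd_card _
        exact (Nat.pow_dvd_pow_iff_le_right (x := 2) (k := 3) (by norm_num)).mp (by simpa using h8)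
      have ha' : a = 3 ∨ a = 4 := by omega
      rcases ha' with rfl | rfl
      · have hsemi : ∀ (g : G) (v : V), v ≠ 0 → ρ g v = v → g = 1 := by
          intro g v hv hgv
          have hidx := MulAction.index_stabilizer (G := G) (x := v)
          rw [horb v hv, show ({w : V | w ≠ 0}) = ({0} : Set V)ᶜ from rfl, Set.ncard_compl,
            Set.ncard_singleton, hN] at hidx
          have hcard := (MulAction.stabilizer G v).card_mul_index
          rw [hidx, ha] at hcard
          have : MulAction.stabilizer G v = ⊥ := Subgroup.eq_bot_of_card_eq _ (by omega)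
          exact (Subgroup.eq_bot_iff_forall _).mp this g hgv
        obtain ⟨z, hz⟩ := exists_prime_orderOf_dvd_card' 2 (G := G) (by rw [ha]; norm_num)
        have hz2 : z ^ 2 = 1 := by rw [← hz]; exact pow_orderOf_eq_one z
        have hneg : ∀ y : G, y ^ 2 = 1 → y ≠ 1 → ∀ v, ρ y v = -v := by
          intro y hy hy1 v
          by_contra hne
          have hw0 : ρ y v + v ≠ 0 := fun h => hne (eq_neg_of_add_eq_zero_left h)
          refine hy1 (hsemi y _ hw0 ?_)
          have : ρ y (ρ y v) = v := by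
            show (ρ y * ρ y) v = v
            rw [← map_mul, ← pow_two, hy, map_one]; rfl
          rw [map_add, this, add_comm]
        have huniq : ∀ y : G, y ^ 2 = 1 → y ∈ Subgroup.zpowers z := by
          intro y hy
          by_cases hy1 : y = 1
          · rw [hy1]; exact one_mem _
          · have : y = z := hρ (LinearEquiv.ext fun v => by
              rw [hneg y hy hy1, hneg z hz2 (fun h => by simp [h] at hz)])
            rw [this]; exact Subgroup.mem_zpowers z
        rcases CfsgLib.PGroups.isCyclic_or_quaternion_of_unique hG hz2 huniq with h | ⟨-, m, hm, ⟨e'⟩⟩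
        · exact Or.inl ⟨h, by rw [ha]; rfl⟩
        · have hc := Nat.card_congr e'.toEquiv
          rw [ha, Nat.card_eq_fintype_card (α := QuaternionGroup (2 ^ m)), QuaternionGroup.card] at hc
          have hm1 : m = 1 := by
            refine Nat.pow_right_injective (le_refl 2) ?_
            show 2 ^ m = 2 ^ 1
            omega
          subst hm1
          exact Or.inr (Or.inl ⟨e'⟩)
      · refine Or.inr (Or.inr ⟨?_, by rw [ha]; rfl⟩)
        obtain ⟨P, hP⟩ := ((hG.to_subgroup ⊤).map φ : IsPGroup 2 ((⊤ : Subgroup G).map φ)).exists_le_sylow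
        have hcP : Nat.card (P : Subgroup (GL (Fin 2) (ZMod 3))) = 16 := by
          rw [Sylow.card_eq_multiplicity, hGL,
            show Nat.factorization 48 2 = 4 from ?_]
          · rfl
          · rw [Nat.factorization_def _ Nat.prime_two]
            rw [show (48 : ℕ) = 2 ^ 4 * 3 from rfl, padicValNat.mul (by norm_num) (by norm_num),
              padicValNat.prime_pow, padicValNat.eq_zero_of_not_dvd (by norm_num)]
        have hcm : Nat.card ((⊤ : Subgroup G).map φ) = 16 := by
          rw [Subgroup.card_map_of_injective hφ, Nat.card_congr Subgroup.topEquiv.toEquiv, ha]; rfl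
        have heq := Subgroup.eq_of_le_of_card_ge hP (le_of_eq (hcP.trans hcm.symm))
        refine isQuasiDihedral_congr ?_ (CfsgLib.Involutions.isQuasiDihedral_sylow_GL
          (F := ZMod 3) (by simp) P)
        exact (MulEquiv.subgroupCongr heq.symm).trans
          (((⊤ : Subgroup G).equivMapOfInjective φ hφ).symm.trans Subgroup.topEquiv)

end CfsgLib.Rec.TransVec
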