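import Mathlib
import Cfsg.Prelude.Def_Classical
import Cfsg.Agent.Lib.Classical.UnitarySU

/-!
The spectra of `PSL₃(3)` and `PSU₃(3)`.
-/

set_option autoImplicit false

namespace CfsgLib.Rec.ThreeSpectrum

open Matrix

/-- The coefficients of `x ^ k` modulo `x ^ 3 - t x ^ 2 + s x - 1`. -/
def red {R : Type*} [CommRing R] (t s : R) : ℕ → R × R × R
  | 0 => (0, 0, 1)
  | k + 1 => let r := red t s k; (r.1 * t + r.2.1, r.2.2 - r.1 * s, r.1)

theorem red_map {R S : Type*} [CommRing R] [CommRing S] (φ : R →+* S) (t s : R) (k : ℕ) :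
    red (φ t) (φ s) k = (φ (red t s k).1, φ (red t s k).2.1, φ (red t s k).2.2) := by
  induction k with
  | zero => simp [red]
  | succ k ih => simp [red, ih]

variable {R : Type*} [CommRing R]

theorem cube_eq (A : Matrix (Fin 3) (Fin 3) R) :
    A * A * A = A.trace • (A * A) - A.adjugate.trace • A + A.det • 1 := by
  rw [Matrix.det_fin_three, Matrix.adjugate_fin_three]
  ext i j
  fin_cases i <;> fin_cases j <;>
    simp [Matrix.mul_apply, Fin.sum_univ_three, Matrix.trace] <;> ring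

theorem pow_eq_red (A : Matrix (Fin 3) (Fin 3) R) (hd : A.det = 1) (k : ℕ) :
    A ^ k = (red A.trace A.adjugate.trace k).1 • (A * A) +
      (red A.trace A.adjugate.trace k).2.1 • A + (red A.trace A.adjugate.trace k).2.2 • 1 := by
  induction k with
  | zero => simp [red]
  | succ k ih =>
    rw [pow_succ, ih]
    simp only [red, add_mul, Matrix.smul_mul, one_mul, cube_eq, hd, one_smul]
    module

theorem pow_eq_one_of_red (A : Matrix (Fin 3) (Fin 3) R) (hd : A.det = 1) {k : ℕ}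
    (h : red A.trace A.adjugate.trace k = (0, 0, 1)) : A ^ k = 1 := by
  rw [pow_eq_red A hd k, h]; simp

theorem red_ZMod : ∀ t s : ZMod 3, red t s 13 = (0, 0, 1) ∨ red t s 8 = (0, 0, 1) ∨
    red t s 6 = (0, 0, 1) := by decide +kernel

/-- `GF(9)`. -/
abbrev K9 : Type := QuadraticAlgebra (ZMod 3) (-1) 0

theorem red_K9 : ∀ a b : ZMod 3,
    red (⟨a, b⟩ : K9) ((⟨a, b⟩ : K9) * ⟨a, b⟩ * ⟨a, b⟩) 7 = (0, 0, 1) ∨
    red (⟨a, b⟩ : K9) ((⟨a, b⟩ : K9) * ⟨a, b⟩ * ⟨a, b⟩) 8 = (0, 0, 1) ∨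
    red (⟨a, b⟩ : K9) ((⟨a, b⟩ : K9) * ⟨a, b⟩ * ⟨a, b⟩) 12 = (0, 0, 1) := by decide +kernel

theorem exists_ringEquiv_K9 {F : Type*} [Field F] [Fintype F] (hF : Fintype.card F = 9) :
    Nonempty (K9 ≃+* F) := by
  haveI : Fact (∀ r : ZMod 3, r ^ 2 ≠ (-1 : ZMod 3) + 0 * r) := ⟨by decide⟩
  haveI : Finite K9 := Finite.of_equiv _ (QuadraticAlgebra.equivProd (-1 : ZMod 3) 0).symm
  letI := Fintype.ofFinite K9
  have h : Fintype.card K9 = 9 := by
    rw [← Nat.card_eq_fintype_card, Nat.card_congr (QuadraticAlgebra.equivProd (-1 : ZMod 3) 0),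
      Nat.card_prod, Nat.card_zmod]
  exact ⟨FiniteField.ringEquivOfCardEq (h.trans hF.symm)⟩

theorem range_orderOf_of_bij {G H : Type*} [Group G] [Group H] (e : G ≃* H) :
    Set.range (orderOf : G → ℕ) = Set.range (orderOf : H → ℕ) := by
  ext n
  exact ⟨fun ⟨g, hg⟩ => ⟨e g, by rw [e.orderOf_eq, hg]⟩,
    fun ⟨g, hg⟩ => ⟨e.symm g, by rw [e.symm.orderOf_eq, hg]⟩⟩

theorem mem_range_of_dvd {G : Type*} [Group G] {g : G} {m n : ℕ} (hm : m ≠ 0) (hg : orderOf g = m)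
    (hn : n ∣ m) : n ∈ Set.range (orderOf : G → ℕ) := by
  refine ⟨g ^ (m / n), ?_⟩
  rw [orderOf_pow' _ (Nat.div_ne_zero_iff_of_dvd hn |>.2 ⟨hm, ne_zero_of_dvd_ne_zero hm hn⟩), hg,
    Nat.gcd_eq_right (Nat.div_dvd_of_dvd hn), Nat.div_div_self hn hm]

/-- The witnesses in `SL₃(3)`. -/
def wit : Fin 3 → Matrix (Fin 3) (Fin 3) (ZMod 3) :=
  ![!![0, 0, 1; 1, 0, 1; 0, 1, 0], !![0, 0, 1; 1, 0, 2; 0, 1, 0], !![0, 0, 1; 1, 0, 1; 0, 1, 2]]

theorem wit_spec : ∀ i : Fin 3, (wit i).det = 1 ∧ wit i ^ (![13, 8, 6] i) = 1 ∧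
    ∀ k < (![13, 8, 6] i : ℕ), 0 < k → wit i ^ k ≠ 1 := by decide +kernel

theorem range_orderOf_PSL {F : Type*} [Field F] [Fintype F] (hF : Fintype.card F = 3) :
    Set.range (orderOf : Matrix.ProjectiveSpecialLinearGroup (Fin 3) F → ℕ) =
      {n | n ∣ 13 ∨ n ∣ 8 ∨ n ∣ 6} := by
  haveI : CharP F 3 := by
    obtain ⟨p, hc⟩ := CharP.exists F
    haveI := hc
    obtain ⟨n, hp, hn⟩ := FiniteField.card F p
    rw [hF] at hn
    have : p = 3 := (Nat.prime_dvd_prime_iff_eq hp Nat.prime_three).1 (hn ▸ dvd_pow_self p n.ne_zero)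
    rwa [this] at hc
  let ψ := ZMod.castHom (dvd_refl 3) F
  have hψ : Function.Bijective ψ := (Fintype.bijective_iff_injective_and_card ψ).2
    ⟨ψ.injective, by rw [ZMod.card, hF]⟩
  have hc : Subgroup.center (Matrix.SpecialLinearGroup (Fin 3) F) = ⊥ := by
    refine (Subgroup.eq_bot_iff_forall _).2 fun A hA => ?_
    obtain ⟨r, hr, hrA⟩ := Matrix.SpecialLinearGroup.mem_center_iff.1 hA
    have h3 : (r - 1) ^ 3 = 0 := by
      rw [sub_pow_char, one_pow, show r ^ 3 = 1 by simpa using hr, sub_self]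
    rw [sub_eq_zero.1 (eq_zero_of_pow_eq_zero h3)] at hrA
    exact Subtype.ext (by rw [← hrA]; simp)
  rw [show Set.range (orderOf : Matrix.ProjectiveSpecialLinearGroup (Fin 3) F → ℕ) =
      Set.range (orderOf : Matrix.SpecialLinearGroup (Fin 3) F → ℕ) from
    (range_orderOf_of_bij ((QuotientGroup.quotientMulEquivOfEq hc).trans QuotientGroup.quotientBot)),]
  ext n
  constructor
  · rintro ⟨A, rfl⟩
    obtain ⟨t, ht⟩ := hψ.2 A.1.trace
    obtain ⟨s, hs⟩ := hψ.2 A.1.adjugate.trace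
    have key : ∀ k, red t s k = (0, 0, 1) → orderOf A ∣ k := fun k h => by
      refine orderOf_dvd_of_pow_eq_one (Subtype.ext ?_)
      rw [Matrix.SpecialLinearGroup.coe_pow]
      refine pow_eq_one_of_red _ A.2 ?_
      rw [← ht, ← hs, red_map, h]
      simp
    exact (red_ZMod t s).imp (key _) fun h => h.imp (key _) (key _)
  · intro h
    obtain ⟨i, hi⟩ : ∃ i : Fin 3, n ∣ (![13, 8, 6] i : ℕ) := by
      rcases h with h | h | h
      exacts [⟨0, h⟩, ⟨1, h⟩, ⟨2, h⟩]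
    obtain ⟨hd, h1, h2⟩ := wit_spec i
    let g : Matrix.SpecialLinearGroup (Fin 3) (ZMod 3) := ⟨wit i, hd⟩
    have hpos : 0 < (![13, 8, 6] i : ℕ) := by fin_cases i <;> simp
    have hg : orderOf g = ![13, 8, 6] i := (orderOf_eq_iff hpos).2
      ⟨Subtype.ext (by rw [Matrix.SpecialLinearGroup.coe_pow]; exact h1), fun k hk hk0 e =>
        h2 k hk hk0 (by simpa using congrArg Subtype.val e)⟩
    refine mem_range_of_dvd (g := Matrix.SpecialLinearGroup.map ψ g) hpos.ne' ?_ hi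
    rw [orderOf_injective _ ?_ g, hg]
    intro x y hxy
    refine Subtype.ext (Matrix.map_injective ψ.injective ?_)
    simpa using congrArg Subtype.val hxy

/-- The witnesses in `SU₃(3)`. -/
def witU : Fin 3 → Matrix (Fin 3) (Fin 3) K9 :=
  ![!![0, ⟨1, 1⟩, ⟨1, 1⟩; 0, ⟨1, 1⟩, ⟨2, 2⟩; ⟨0, 1⟩, 0, 0],
    !![0, 0, 1; 0, ⟨0, 1⟩, 0; ⟨0, 1⟩, 0, 0],
    !![0, ⟨1, 1⟩, ⟨1, 2⟩; 0, ⟨2, 1⟩, ⟨2, 2⟩; ⟨0, 1⟩, 0, 0]]

theorem witU_spec : ∀ i : Fin 3, (witU i).det = 1 ∧
    (witU i).transpose * (witU i).map (fun x => x * x * x) = 1 ∧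
    witU i ^ (![7, 8, 12] i) = 1 ∧
    ∀ k < (![7, 8, 12] i : ℕ), 0 < k → witU i ^ k ≠ 1 := by decide +kernel

theorem hermForm_mulVec {n : ℕ} {F : Type*} [Field F] [CharP F 3] (A : Matrix (Fin n) (Fin n) F)
    (u v : Fin n → F) :
    Cfsg.hermForm n F 3 (A *ᵥ u) (A *ᵥ v) =
      u ⬝ᵥ ((A.transpose * A.map (fun x => x * x * x)) *ᵥ fun i => v i ^ 3) := by
  rw [← Matrix.mulVec_mulVec, Matrix.dotProduct_mulVec, Matrix.vecMul_transpose]
  show ∑ i, (A *ᵥ u) i * (A *ᵥ v) i ^ 3 = ∑ i, _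
  refine Finset.sum_congr rfl fun i _ => ?_
  congr 1
  show (∑ j, A i j * v j) ^ 3 = ∑ j, (A i j * A i j * A i j) * v j ^ 3
  rw [sum_pow_char]
  exact Finset.sum_congr rfl fun j _ => by ring

theorem range_orderOf_PSU {F : Type*} [Field F] [Fintype F] (hF : Fintype.card F = 9) :
    Set.range (orderOf : Cfsg.PSU 3 F 3 → ℕ) = {n | n ∣ 7 ∨ n ∣ 8 ∨ n ∣ 12} := by
  obtain ⟨φ⟩ := exists_ringEquiv_K9 hF
  haveI : CharP F 3 := by
    obtain ⟨p, hc⟩ := CharP.exists F
    haveI := hc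
    obtain ⟨n, hp, hn⟩ := FiniteField.card F p
    rw [hF] at hn
    have : p ∣ 3 := hp.dvd_of_dvd_pow (show p ∣ 3 ^ 2 from (show (3:ℕ) ^ 2 = p ^ (n : ℕ) from hn) ▸ dvd_pow_self p n.ne_zero)
    rwa [(Nat.prime_dvd_prime_iff_eq hp Nat.prime_three).1 this] at hc
  have hF' : Nat.card F = 3 ^ 2 := by rw [Nat.card_eq_fintype_card, hF]; norm_num
  have hc : Subgroup.center (Cfsg.SU 3 F 3) = ⊥ :=
    Subgroup.eq_bot_of_card_eq _ (by rw [CfsgLib.Classical.card_center_SU hF' (by norm_num)]; norm_num)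
  rw [show Set.range (orderOf : Cfsg.PSU 3 F 3 → ℕ) = Set.range (orderOf : Cfsg.SU 3 F 3 → ℕ) from
    range_orderOf_of_bij ((QuotientGroup.quotientMulEquivOfEq hc).trans QuotientGroup.quotientBot)]
  ext n
  constructor
  · rintro ⟨A, rfl⟩
    let M := A.1.1
    obtain ⟨⟨a, b⟩, ht⟩ := φ.surjective M.trace
    have horth : M.transpose * M.map (fun x => x * x * x) = 1 := by
      ext i j
      have h := A.2 (Pi.single i 1) (Pi.single j 1)
      change Cfsg.hermForm 3 F 3 (M *ᵥ Pi.single i 1) (M *ᵥ Pi.single j 1) = _ at h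
      rw [hermForm_mulVec] at h
      have e : (fun k => (Pi.single j 1 : Fin 3 → F) k ^ 3) = Pi.single j 1 := by
        funext k
        rcases eq_or_ne k j with rfl | hk
        · simp
        · simp [hk]
      rw [e, Matrix.mulVec_single_one, single_one_dotProduct] at h
      refine h.trans ?_
      show ∑ k, (Pi.single i 1 : Fin 3 → F) k * (Pi.single j 1 : Fin 3 → F) k ^ 3 = _
      rw [Finset.sum_eq_single i (fun k _ hk => by simp [hk]) (by simp)]
      rcases eq_or_ne i j with rfl | hij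
      · simp
      · simp [hij]
    have hadj : M.adjugate = (M.map (fun x => x * x * x)).transpose := by
      have h1 : (M.map (fun x => x * x * x)).transpose * M = 1 := by
        rw [← Matrix.transpose_transpose M, ← Matrix.transpose_mul, Matrix.transpose_transpose, horth,
          Matrix.transpose_one]
      have h2 : M * M.adjugate = 1 := by rw [Matrix.mul_adjugate, A.1.2, one_smul]
      exact (left_inv_eq_right_inv h1 h2).symm
    have hs : M.adjugate.trace = M.trace * M.trace * M.trace := by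
      rw [hadj, Matrix.trace_transpose]
      simp only [Matrix.trace, Matrix.diag, Matrix.map_apply, Fin.sum_univ_three]
      have h3 : (3 : F) = 0 := CharP.cast_eq_zero F 3
      linear_combination (-(M 0 0 + M 1 1) * (M 1 1 + M 2 2) * (M 2 2 + M 0 0)) * h3
    have key : ∀ k, red (⟨a, b⟩ : K9) ((⟨a, b⟩ : K9) * ⟨a, b⟩ * ⟨a, b⟩) k = (0, 0, 1) →
        orderOf A ∣ k := fun k h => by
      refine orderOf_dvd_of_pow_eq_one (Subtype.ext (Subtype.ext ?_))
      rw [SubgroupClass.coe_pow, Matrix.SpecialLinearGroup.coe_pow]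
      refine pow_eq_one_of_red _ A.1.2 ?_
      show red M.trace M.adjugate.trace k = _
      rw [hs, ← ht, ← map_mul, ← map_mul]
      show red ((φ : K9 →+* F) _) ((φ : K9 →+* F) _) k = _
      rw [red_map, h]
      simp
    exact (red_K9 a b).imp (key _) fun h => h.imp (key _) (key _)
  · intro h
    obtain ⟨i, hi⟩ : ∃ i : Fin 3, n ∣ (![7, 8, 12] i : ℕ) := by
      rcases h with h | h | h
      exacts [⟨0, h⟩, ⟨1, h⟩, ⟨2, h⟩]
    obtain ⟨hd, horth, h1, h2⟩ := witU_spec i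
    let g : Matrix.SpecialLinearGroup (Fin 3) F := ⟨(witU i).map φ, by
      rw [← RingEquiv.coe_toRingHom, ← RingHom.mapMatrix_apply, ← RingHom.map_det, hd, map_one]⟩
    have hgU : g ∈ Cfsg.SU 3 F 3 := by
      intro u v
      show Cfsg.hermForm 3 F 3 ((witU i).map φ *ᵥ u) ((witU i).map φ *ᵥ v) = _
      rw [hermForm_mulVec]
      have e : ((witU i).map φ).transpose * ((witU i).map φ).map (fun x => x * x * x) = 1 := by
        have h0 := congrArg (fun X => (φ : K9 →+* F).mapMatrix X) horth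
        simp only [map_mul, map_one] at h0
        rw [← h0]
        congr 1
        ext p r; simp
      rw [e, Matrix.one_mulVec]; rfl
    have hpos : 0 < (![7, 8, 12] i : ℕ) := by fin_cases i <;> simp
    refine mem_range_of_dvd (g := (⟨g, hgU⟩ : Cfsg.SU 3 F 3)) hpos.ne' ?_ hi
    rw [Subgroup.orderOf_mk, orderOf_eq_iff hpos]
    have hpow : ∀ k, ((g ^ k).1 : Matrix (Fin 3) (Fin 3) F) = (φ : K9 →+* F).mapMatrix (witU i ^ k) := fun k => by
      rw [Matrix.SpecialLinearGroup.coe_pow, map_pow]; rfl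
    refine ⟨Subtype.ext (by rw [hpow, h1, map_one]; rfl), fun k hk hk0 e => h2 k hk hk0 ?_⟩
    have e1 := congrArg Subtype.val e
    rw [hpow] at e1
    exact Matrix.map_injective φ.injective (e1.trans (Matrix.map_one φ (map_zero φ) (map_one φ)).symm)

end CfsgLib.Rec.ThreeSpectrum
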