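import Cfsg.Agent.Lib.Rec.MaxVecStab
import Cfsg.Agent.Lib.Recog.PrimitiveSocle

/-!
Affine extremely primitive groups.
-/

set_option autoImplicit false

namespace CfsgLib.Rec.ExtremelyPrimitive

open MulAction CfsgLib.Recog

universe u

theorem main (hFT : CfsgLib.FT.OddOrderThm.{u}) {G : Type u} [Group G] [Finite G] {Ω : Type*}
    [Fintype Ω] [MulAction G Ω] [FaithfulSMul G Ω] (p d : ℕ) (hp : p.Prime)
    (hcard : Fintype.card Ω = p ^ d) (hsol : ¬ Group.IsSolvable G)
    (N : Subgroup G) [N.Normal] (hN : N ≠ ⊥) (hNc : IsMulCommutative N)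
    (hNreg : ∀ ω : Ω, stabilizer N ω = ⊥)
    (hprim : IsPreprimitive G Ω) (hH : ∀ α : Ω, stabilizer G α ≠ ⊥)
    (hep : ∀ (α : Ω) (ω : Ω), IsPreprimitive (stabilizer G α) (orbit (stabilizer G α) ω)) (α : Ω) :
    p = 2 ∧ ∃ T : Subgroup (stabilizer G α), T.Normal ∧ IsSimpleGroup T ∧ ¬ IsMulCommutative T ∧
      Subgroup.centralizer (T : Set (stabilizer G α)) = ⊥ := by
  classical
  haveI := hprim
  haveI := isPretransitive_of_normal_ne_bot (Ω := Ω) N hN
  letI : CommGroup N := { (inferInstance : Group N) with mul_comm := fun a b => hNc.is_comm.comm a b }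
  let f : stabilizer G α →* MulAut N := MulAut.conjNormal.comp (stabilizer G α).subtype
  letI act : MulDistribMulAction (stabilizer G α) N := MulDistribMulAction.compHom N f
  have hcoe : ∀ (h : stabilizer G α) (n : N), ((h • n : N) : G) = h * n * (h : G)⁻¹ :=
    fun h n => MulAut.conjNormal_apply _ _
  have hbij : Function.Bijective fun n : N => (n : G) • α := by
    refine ⟨fun m n h => ?_, fun ω => MulAction.exists_smul_eq N α ω⟩
    have hm : n⁻¹ * m ∈ stabilizer N α := by
      show (n⁻¹ * m) • α = α
      rw [mul_smul, Subgroup.smul_def m, show ((m : G) • α) = (n : G) • α from h, ← Subgroup.smul_def,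
        inv_smul_smul]
    rw [hNreg, Subgroup.mem_bot, inv_mul_eq_one] at hm
    exact hm.symm
  have hpt : ∀ (h : stabilizer G α) (n : N), ((h • n : N) : G) • α = (h : G) • ((n : G) • α) := by
    intro h n
    rw [hcoe, mul_smul, mul_smul, show ((h : G)⁻¹) • α = α from inv_smul_eq_iff.2 h.2.symm]
  have hcardN : Nat.card N = p ^ d := by
    rw [Nat.card_congr (Equiv.ofBijective _ hbij), Nat.card_eq_fintype_card, hcard]
  haveI : Nontrivial N := (Subgroup.nontrivial_iff_ne_bot N).2 hN
  -- faithfulness
  haveI : FaithfulSMul (stabilizer G α) N := ⟨fun {x y} h => Subtype.ext <|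
    FaithfulSMul.eq_of_smul_eq_smul fun ω : Ω => by
      obtain ⟨n, rfl⟩ := hbij.2 ω
      show (x : G) • (n : G) • α = (y : G) • (n : G) • α
      rw [← hpt, ← hpt, h n]⟩
  -- irreducibility
  have hirr : ∀ W : Subgroup N, (∀ h : stabilizer G α, ∀ w ∈ W, h • w ∈ W) → W = ⊥ ∨ W = ⊤ := by
    intro W hW
    let M := W.map N.subtype
    have hWn : M.Normal := by
      refine ⟨?_⟩
      rintro _ ⟨w, hw, rfl⟩ g
      obtain ⟨n, hn⟩ := MulAction.exists_smul_eq N α (g • α)
      have hh : (n : G)⁻¹ * g ∈ stabilizer G α := by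
        show ((n : G)⁻¹ * g) • α = α
        rw [mul_smul, ← hn, Subgroup.smul_def, inv_smul_smul]
      refine ⟨n * (⟨_, hh⟩ : stabilizer G α) • w * n⁻¹, ?_, ?_⟩
      · rw [mul_comm n, mul_assoc, mul_inv_cancel, mul_one]
        exact hW _ w hw
      · show ((n : G) * ((⟨_, hh⟩ : stabilizer G α) • w : N) * (n : G)⁻¹) = g * (w : G) * g⁻¹
        rw [hcoe]; group
    by_cases hM : M = ⊥
    · exact Or.inl ((Subgroup.map_eq_bot_iff_of_injective _ N.subtype_injective).1 hM)
    · right
      haveI := isPretransitive_of_normal_ne_bot (Ω := Ω) M hM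
      refine (Subgroup.eq_top_iff' W).2 fun n => ?_
      obtain ⟨⟨_, w, hw, rfl⟩, hm⟩ := MulAction.exists_smul_eq M α ((n : G) • α)
      rwa [hbij.1 (show (fun n : N => (n : G) • α) w = (fun n : N => (n : G) • α) n from hm)] at hw
  haveI : Nontrivial (stabilizer G α) := (Subgroup.nontrivial_iff_ne_bot _).2 (hH α)
  -- maximal stabilisers
  have hmax : ∀ v : N, v ≠ 1 → IsCoatom (stabilizer (stabilizer G α) v) := by
    intro v hv
    have heq : ∀ h : stabilizer G α, h • ((v : G) • α) = (v : G) • α ↔ h • v = v := fun h => by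
      rw [Subgroup.smul_def, ← hpt]
      exact hbij.1.eq_iff
    have hnfix : ¬ ∀ h : stabilizer G α, h • v = v := by
      intro hall
      let W : Subgroup N :=
        { carrier := {w | ∀ h : stabilizer G α, h • w = w}
          one_mem' := fun h => smul_one h
          mul_mem' := fun {a b} ha hb h => by rw [smul_mul', ha h, hb h]
          inv_mem' := fun {a} ha h => by rw [smul_inv', ha h] }
      rcases hirr W (fun h w hw k => by rw [hw h]; exact hw k) with hW | hW
      · exact hv (Subgroup.mem_bot.1 (hW ▸ (hall : v ∈ W)))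
      · obtain ⟨x, hx⟩ := exists_ne (1 : stabilizer G α)
        refine hx (FaithfulSMul.eq_of_smul_eq_smul (α := N) fun w => ?_)
        rw [(hW ▸ Subgroup.mem_top w : w ∈ W) x, one_smul]
    haveI : Nontrivial (orbit (stabilizer G α) ((v : G) • α)) := by
      push Not at hnfix
      obtain ⟨h, hh⟩ := hnfix
      exact ⟨⟨_, mem_orbit _ h⟩, ⟨_, mem_orbit_self _⟩,
        fun e => hh ((heq h).1 (congrArg Subtype.val e))⟩
    haveI := hep α ((v : G) • α)
    convert (isCoatom_stabilizer_iff_preprimitive (stabilizer G α)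
      (⟨_, mem_orbit_self _⟩ : orbit (stabilizer G α) ((v : G) • α))).2 inferInstance using 1
    ext h
    rw [mem_stabilizer_iff, mem_stabilizer_iff, ← heq h]
    exact ⟨fun e => Subtype.ext e, fun e => congrArg Subtype.val e⟩
  -- the stabiliser is not solvable
  have hnsH : ¬ Group.IsSolvable (stabilizer G α) := by
    intro hs
    refine hsol ?_
    have hNs : Group.IsSolvable N := Group.isSolvable_of_comm fun a b => hNc.is_comm.comm a b
    haveI := hs
    refine (Group.isSolvable_iff_subgroup_quotient N).2 ⟨hNs, ?_⟩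
    refine Group.isSolvable_of_surjective (f := (QuotientGroup.mk' N).comp (stabilizer G α).subtype)
      fun x => ?_
    induction x using QuotientGroup.induction_on with | H g => ?_
    obtain ⟨n, hn⟩ := MulAction.exists_smul_eq N α (g • α)
    refine ⟨⟨(n : G)⁻¹ * g, ?_⟩, ?_⟩
    · show ((n : G)⁻¹ * g) • α = α
      rw [mul_smul, ← hn, Subgroup.smul_def, inv_smul_smul]
    · show (((n : G)⁻¹ * g : G) : G ⧸ N) = g
      rw [QuotientGroup.mk_mul, (QuotientGroup.eq_one_iff _).2 (inv_mem n.2), one_mul]
  -- the exponent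
  have hexp : ∀ v : N, v ^ p = 1 := by
    have hd : d ≠ 0 := fun h => by
      rw [h, pow_zero] at hcardN
      exact (Finite.one_lt_card (α := N)).ne' hcardN
    obtain ⟨z, hz⟩ := exists_prime_orderOf_dvd_card' (hp := ⟨hp⟩) p
      (hcardN ▸ dvd_pow_self p hd : p ∣ Nat.card N)
    let W : Subgroup N :=
      { carrier := {w | w ^ p = 1}
        one_mem' := one_pow p
        mul_mem' := fun {a b} ha hb => by
          show (a * b) ^ p = 1
          rw [mul_pow, show a ^ p = 1 from ha, show b ^ p = 1 from hb, mul_one]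
        inv_mem' := fun {a} ha => by
          show a⁻¹ ^ p = 1
          rw [inv_pow, show a ^ p = 1 from ha, inv_one] }
    rcases hirr W (fun h w hw => show (h • w) ^ p = 1 by
      rw [← smul_pow', show w ^ p = 1 from hw, smul_one]) with hW | hW
    · have hzW : z ∈ W := by show z ^ p = 1; rw [← hz]; exact pow_orderOf_eq_one z
      rw [hW, Subgroup.mem_bot] at hzW
      rw [hzW, orderOf_one] at hz
      exact absurd hz.symm hp.ne_one
    · exact fun v => (hW ▸ Subgroup.mem_top v : v ∈ W)
  -- the prime is two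
  have hp2 : p = 2 := by
    by_contra hne
    have hodd : Odd p := hp.odd_of_ne_two hne
    have hnoinv : ∀ v : N, v ≠ 1 → ∀ h : stabilizer G α, h • v ≠ v⁻¹ := by
      intro v hv h hh
      have hvv : v⁻¹ ≠ v := fun e => hv (by
        obtain ⟨m, hm⟩ := hodd
        have := hexp v
        rw [hm, pow_succ, pow_mul, pow_two, mul_eq_one_iff_eq_inv.2 e.symm, one_pow, one_mul] at this
        exact this)
      let L : Subgroup (stabilizer G α) :=
        { carrier := {k | k • v = v ∨ k • v = v⁻¹}
          one_mem' := Or.inl (one_smul _ v)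
          mul_mem' := fun {a b} ha hb => by
            show (a * b) • v = v ∨ (a * b) • v = v⁻¹
            rcases hb with hb | hb <;> rcases ha with ha | ha <;>
              simp [mul_smul, hb, smul_inv', ha]
          inv_mem' := fun {a} ha => by
            show a⁻¹ • v = v ∨ a⁻¹ • v = v⁻¹
            rcases ha with ha | ha
            · left; rw [inv_smul_eq_iff, ha]
            · right; rw [inv_smul_eq_iff, smul_inv', ha, inv_inv] }
      have hle : stabilizer (stabilizer G α) v ≤ L := fun k hk => Or.inl hk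
      rcases (hmax v hv).le_iff.1 hle with hL | hL
      · -- the orbit of `v` spans a line
        have hWtop : Subgroup.zpowers v = ⊤ := by
          refine (hirr _ fun k w hw => ?_).resolve_left (fun hb => hv (Subgroup.zpowers_eq_bot.1 hb))
          obtain ⟨i, rfl⟩ := Subgroup.mem_zpowers_iff.1 hw
          rw [smul_zpow']
          refine Subgroup.zpow_mem _ ?_ _
          rcases (hL ▸ Subgroup.mem_top k : k ∈ L) with e | e <;> rw [e]
          · exact Subgroup.mem_zpowers v
          · exact inv_mem (Subgroup.mem_zpowers v)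
        refine hnsH (Group.isSolvable_of_comm fun a b => FaithfulSMul.eq_of_smul_eq_smul (α := N) fun w => ?_)
        have key : ∀ k : stabilizer G α, ∀ w : N, k • w = w ∨ k • w = w⁻¹ := fun k => by
          rcases (hL ▸ Subgroup.mem_top k : k ∈ L) with e | e <;>
          · intro w
            obtain ⟨i, rfl⟩ := Subgroup.mem_zpowers_iff.1 (hWtop ▸ Subgroup.mem_top w)
            simp [smul_zpow', e]
        rcases key a w with ea | ea <;> rcases key b w with eb | eb <;>
          simp [mul_smul, ea, eb, smul_inv']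
      · exact hvv (hh.symm.trans (hL.le (show h ∈ L from Or.inr hh)))
    refine hnsH (hFT _ (Nat.odd_iff.2 (Nat.two_dvd_ne_zero.1 fun h2 => ?_)))
    obtain ⟨t, ht⟩ := exists_prime_orderOf_dvd_card' 2 h2
    have htt : t * t = 1 := by
      have := pow_orderOf_eq_one t; rwa [ht, pow_two] at this
    obtain ⟨w, hw⟩ : ∃ w : N, t • w ≠ w := by
      by_contra hall
      push Not at hall
      have : t = 1 := FaithfulSMul.eq_of_smul_eq_smul (α := N) fun w => by rw [hall w, one_smul]
      simp [this] at ht
    refine hnoinv (t • w * w⁻¹) (fun e => hw (mul_inv_eq_one.1 e)) t ?_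
    rw [smul_mul', smul_inv', smul_smul, htt, one_smul, mul_inv, inv_inv, mul_comm]
  refine ⟨hp2, CfsgLib.Rec.MaxVecStab.almostSimple hFT (fun v => ?_) hirr hmax hnsH⟩
  have := hexp v
  rwa [hp2, pow_two] at this

end CfsgLib.Rec.ExtremelyPrimitive
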