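import Mathlib
import Cfsg.Prelude.Def_CaseTheorems
import Cfsg.Prelude.Def_Solvable
import Cfsg.Agent.Lib.PGroups.MaximalClassTwo
import Cfsg.Agent.Lib.Involutions.ZStar.BrauerSuzuki
import Cfsg.Agent.Lib.Base.Frobenius

/-!
Sylow 2-subgroups of transitive groups of fixity two.
-/

set_option autoImplicit false

namespace CfsgLib.Rec.FixityTwo

open MulAction

universe u

theorem dihedral_or_quasi {S : Type u} [Group S] [Finite S] (hS : IsPGroup 2 S) {t : S}
    (ht : orderOf t = 2) (hC : Nat.card (Subgroup.centralizer ({t} : Set S)) = 4)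
    (hncyc : ¬ IsCyclic S) :
    (∃ n : ℕ, Nonempty (S ≃* DihedralGroup n)) ∨ Cfsg.IsQuasiDihedral S := by
  haveI : Fact (Nat.Prime 2) := ⟨Nat.prime_two⟩
  obtain ⟨n, hn⟩ := IsPGroup.iff_card.1 hS
  set A := Subgroup.centralizer ({t} : Set S) with hA
  have htA : t ∈ A := Subgroup.mem_centralizer_singleton_iff.2 rfl
  rcases le_or_gt n 2 with hn2 | hn2
  · left
    have h4 : Nat.card S = 4 := by
      have := Subgroup.card_le_card_group A
      rw [hC, hn] at this
      rw [hn]
      interval_cases n <;> simp_all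
    haveI : IsKleinFour S := ⟨h4, by
      refine Nat.dvd_antisymm (Monoid.exponent_dvd_of_forall_pow_eq_one fun g => ?_) ?_
      · have hd : orderOf g ∣ 2 ^ 2 := by rw [show (2 : ℕ) ^ 2 = 4 from rfl, ← h4]; exact orderOf_dvd_natCard g
        obtain ⟨i, hi, he⟩ := (Nat.dvd_prime_pow Nat.prime_two).1 hd
        refine orderOf_dvd_iff_pow_eq_one.1 ?_
        rcases lt_or_eq_of_le hi with hi | rfl
        · rw [he]; exact pow_dvd_pow 2 (by omega : i ≤ 1)
        · exact absurd (isCyclic_of_orderOf_eq_card g (by rw [he, h4]; rfl)) hncyc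
      · exact ht ▸ Monoid.order_dvd_exponent t⟩
    exact ⟨2, IsKleinFour.nonempty_mulEquiv⟩
  · have hA2 : Nat.card A = 2 ^ 2 := hC
    have hAc := IsPGroup.isMulCommutative_of_card_eq_prime_sq hA2
    have hAA : Subgroup.centralizer (A : Set S) = A := by
      refine le_antisymm (fun g hg => ?_) (Subgroup.le_centralizer_iff_isMulCommutative.2 hAc)
      exact Subgroup.mem_centralizer_singleton_iff.2 (Subgroup.mem_centralizer_iff.1 hg t htA).symm
    have hcl := CfsgLib.PGroups.maximalClass_of_centralizer_eq (p := 2) hn hA2 hAA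
    rcases CfsgLib.PGroups.maximalClass_two_classification hn2 hn hcl with ⟨k, hk⟩ | ⟨k, hc, a, b, ha, hb, hab⟩ | ⟨k, ⟨e⟩⟩
    · exact Or.inl ⟨_, hk⟩
    · exact Or.inr ⟨k + 3, by omega, by rw [hc], a, b, ha, hb, by rw [hab]; rfl⟩
    · exfalso
      haveI : NeZero (2 ^ (k + 1)) := ⟨pow_ne_zero _ two_ne_zero⟩
      have hcent : ∀ g : S, g * t = t * g := by
        intro g
        have h1 : ∀ y : S, y * y = 1 → y ≠ 1 → e y = .a ((2 ^ (k + 1) : ℕ) : ZMod (2 * 2 ^ (k + 1))) := by
          intro y hy hy1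
          refine ((CfsgLib.Involutions.ZStar.quaternion_mul_self_eq_one (x := e y) ?_)).resolve_left ?_
          · rw [← map_mul, hy, map_one]
          · exact fun h => hy1 (e.injective (h.trans (map_one e).symm))
        have htt : t * t = 1 := by have := pow_orderOf_eq_one t; rwa [ht, pow_two] at this
        have ht1 : t ≠ 1 := fun h => by simp [h] at ht
        have e1 := h1 t htt ht1
        have e2 := h1 (g * t * g⁻¹) (by rw [show g * t * g⁻¹ * (g * t * g⁻¹) = g * (t * t) * g⁻¹ by group, htt]; group)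
          (fun h => ht1 (by simpa using h))
        have := e.injective (e2.trans e1.symm)
        exact mul_inv_eq_iff_eq_mul.1 this
      have htop : A = ⊤ := (Subgroup.eq_top_iff' _).2 fun g => Subgroup.mem_centralizer_singleton_iff.2 (hcent g)
      rw [htop, Subgroup.card_top, hn, show (4 : ℕ) = 2 ^ 2 from rfl] at hC
      have := Nat.pow_right_injective (le_refl 2) hC
      omega

variable {G : Type u} [Group G] [Finite G] {Ω : Type*} [Fintype Ω] [MulAction G Ω] [FaithfulSMul G Ω]

omit [Finite G] [FaithfulSMul G Ω] in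
theorem eq_one_of_three (hfix : ∀ g : G, g ≠ 1 → Nat.card (fixedBy Ω g) ≤ 2) {g : G} {a b c : Ω}
    (hab : a ≠ b) (hac : a ≠ c) (hbc : b ≠ c) (ha : g • a = a) (hb : g • b = b) (hc : g • c = c) :
    g = 1 := by
  by_contra hg
  have hsub : ({a, b, c} : Set Ω) ⊆ fixedBy Ω g := by
    rintro x (rfl | rfl | rfl) <;> assumption
  have h3 : ({a, b, c} : Set Ω).ncard = 3 := by
    rw [Set.ncard_insert_of_notMem (by simp [hab, hac]), Set.ncard_pair hbc]
  have h4 := Set.ncard_le_ncard hsub
  rw [h3, ← Nat.card_coe_set_eq] at h4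
  have := hfix g hg
  omega

omit [Finite G] [FaithfulSMul G Ω] in
/-- In a free action an element of order less than a Sylow bound is an even permutation. -/
theorem sign_free {A X : Type*} [Group A] [Finite A] [MulAction A X] [Fintype X] [DecidableEq X]
    (hfree : ∀ (a : A) (ω : X), a • ω = ω → a = 1) (y : A) (hy : 2 * orderOf y ∣ Nat.card A) :
    Equiv.Perm.sign (toPermHom A X y) = 1 := by
  by_cases hy1 : y = 1
  · rw [hy1, map_one, map_one]
  set π := toPermHom A X y with hπ
  have hpow : ∀ (i : ℕ) (ω : X), (π ^ i) ω = (y ^ i) • ω := fun i ω => by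
    rw [hπ, ← map_pow]; rfl
  have hlen : ∀ m ∈ π.cycleType, m = orderOf y := by
    intro m hm
    rw [Equiv.Perm.cycleType_def] at hm
    obtain ⟨c, hc, rfl⟩ := Multiset.mem_map.1 hm
    have hc' : c ∈ π.cycleFactorsFinset := hc
    obtain ⟨hcyc, -⟩ := Equiv.Perm.mem_cycleFactorsFinset_iff.1 hc'
    show c.support.card = orderOf y
    rw [← hcyc.orderOf]
    obtain ⟨ω, hω⟩ : ∃ ω, ω ∈ c.support := Finset.card_pos.1 (lt_of_lt_of_le two_pos hcyc.two_le_card_support)
    have hcω : c = π.cycleOf ω := Equiv.Perm.cycle_is_cycleOf hω hc'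
    have hci : ∀ i : ℕ, (c ^ i) ω = (y ^ i) • ω := fun i => by
      rw [hcω, Equiv.Perm.cycleOf_pow_apply_self, hpow]
    refine Nat.dvd_antisymm (orderOf_dvd_of_pow_eq_one ?_) (orderOf_dvd_of_pow_eq_one (hfree _ ω ?_))
    · refine hcyc.pow_eq_one_iff.2 ⟨ω, Equiv.Perm.mem_support.1 hω, ?_⟩
      rw [hci, pow_orderOf_eq_one, one_smul]
    · rw [← hci, pow_orderOf_eq_one]; rfl
  have hrep : π.cycleType = Multiset.replicate (Multiset.card π.cycleType) (orderOf y) :=
    Multiset.eq_replicate.2 ⟨rfl, hlen⟩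
  have hsupp : π.support = Finset.univ := Finset.eq_univ_of_forall fun ω => by
    rw [Equiv.Perm.mem_support]; exact fun h => hy1 (hfree y ω h)
  have hsum := Equiv.Perm.sum_cycleType π
  rw [hsupp, Finset.card_univ, ← Nat.card_eq_fintype_card] at hsum
  obtain ⟨c, hc⟩ := CfsgLib.Base.card_dvd_of_free hfree
  obtain ⟨d, hd⟩ := hy
  have hcard : Multiset.card π.cycleType = 2 * (d * c) := by
    refine Nat.eq_of_mul_eq_mul_right (orderOf_pos y) ?_
    have e : π.cycleType.sum = Multiset.card π.cycleType * orderOf y := by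
      conv_lhs => rw [hrep]
      rw [Multiset.sum_replicate, smul_eq_mul]
    rw [← e, hsum, hc, hd]; ring
  rw [Equiv.Perm.sign_of_cycleType, hsum, hcard, hc, hd,
    show 2 * orderOf y * d * c + 2 * (d * c) = 2 * (orderOf y * d * c + d * c) by ring, pow_mul]
  simp

/-- A normal subgroup of index two meeting `S` in the stabiliser has a Frobenius complement. -/
theorem frobenius_of_index_two (htr : IsPretransitive G Ω)
    (hfix : ∀ g : G, g ≠ 1 → Nat.card (fixedBy Ω g) ≤ 2) (S : Sylow 2 G) (α β : Ω) (hne : α ≠ β)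
    (hTne : (S : Subgroup G) ⊓ stabilizer G α ≠ ⊥)
    (hTβ : (S : Subgroup G) ⊓ stabilizer G α ≤ stabilizer G β)
    (s : G) (hsS : s ∈ (S : Subgroup G)) (hs : s • α = β) (heven : Even (Fintype.card Ω))
    (N : Subgroup G) [hN : N.Normal] (hidx : N.index = 2)
    (hTN : (S : Subgroup G) ⊓ stabilizer G α ≤ N)
    (hrel : ((S : Subgroup G) ⊓ stabilizer G α).relIndex (S : Subgroup G) = 2) :
    ∃ H : Subgroup N, Cfsg.IsFrobeniusComplement H := by
  classical
  haveI : Fact (Nat.Prime 2) := ⟨Nat.prime_two⟩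
  set T := (S : Subgroup G) ⊓ stabilizer G α with hT
  have hT2 : IsPGroup 2 T := S.isPGroup'.to_le inf_le_left
  -- T is Sylow in N
  have hodd : ¬ 2 ∣ (T.subgroupOf N).index := by
    intro hd
    have h1 : (T.subgroupOf N).index * 2 = (S : Subgroup G).index * 2 := by
      have e1 := T.relIndex_mul_index (hTN)
      have e2 := T.relIndex_mul_index (inf_le_left : T ≤ (S : Subgroup G))
      rw [hidx] at e1
      rw [hrel] at e2
      rw [show (T.subgroupOf N).index = T.relIndex N from rfl, e1, ← e2, mul_comm]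
    have : 2 ∣ (S : Subgroup G).index := Nat.eq_of_mul_eq_mul_right two_pos h1 ▸ hd
    exact S.not_dvd_index this
  let P : Sylow 2 N := (hT2.comap_subtype (K := N)).toSylow hodd
  set Hs := stabilizer N α with hHs
  have hTH : (P : Subgroup N) ≤ Hs := fun x hx => by
    have hx' : (x : G) ∈ T := hx
    exact hx'.2
  have horb : ¬ 2 ∣ Nat.card (orbit N α) := by
    intro hd
    rw [Nat.card_coe_set_eq, ← MulAction.index_stabilizer] at hd
    exact P.not_dvd_index (hd.trans (Subgroup.index_dvd_of_le hTH))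
  have hsN : s ∉ N := by
    intro hsN
    have hle : (S : Subgroup G) ≤ N := by
      intro x hx
      by_cases hxa : x • α = α
      · exact hTN ⟨hx, hxa⟩
      · have h2 : (T.subgroupOf (S : Subgroup G)).index = 2 := hrel
        have hmem := (Subgroup.mul_mem_iff_of_index_two h2 (a := (⟨s, hsS⟩ : (S : Subgroup G))⁻¹)
          (b := ⟨x, hx⟩)).2 ⟨fun h => ?_, fun h => ?_⟩
        · have : s⁻¹ * x ∈ T := hmem
          have := N.mul_mem hsN (hTN this)
          simpa using this
        · exfalso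
          have hh : s⁻¹ ∈ T := h
          have hh2 : s ∈ T := by simpa using inv_mem hh
          exact hne ((show s • α = α from hh2.2).symm.trans hs)
        · exact absurd (show x • α = α from (show x ∈ T from h).2) hxa
    have hd := Subgroup.index_dvd_of_le hle
    rw [hidx] at hd
    exact S.not_dvd_index hd
  have hcases : ∀ g : G, g ∈ N ∨ s⁻¹ * g ∈ N := fun g => by
    by_cases hg : g ∈ N
    · exact Or.inl hg
    · exact Or.inr ((Subgroup.mul_mem_iff_of_index_two hidx).2
        ⟨fun h => absurd (by simpa using h) hsN, fun h => absurd h hg⟩)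
  have hcover : ∀ ω : Ω, ω ∈ orbit N α ∨ ω ∈ orbit N β := by
    intro ω
    obtain ⟨g, rfl⟩ := htr.exists_smul_eq α ω
    rcases hcases g with hg | hg
    · exact Or.inl ⟨⟨g, hg⟩, rfl⟩
    · refine Or.inr ⟨⟨s * (s⁻¹ * g) * s⁻¹, hN.conj_mem _ hg s⟩, ?_⟩
      show (s * (s⁻¹ * g) * s⁻¹) • β = g • α
      rw [← hs, smul_smul]; congr 1; group
  have hcard : Nat.card (orbit N β) = Nat.card (orbit N α) := by
    symm
    refine Nat.card_congr ((Equiv.subtypeEquiv (MulAction.toPerm s) fun ω => ?_))
    constructor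
    · rintro ⟨n, rfl⟩
      refine ⟨⟨s * n * s⁻¹, hN.conj_mem _ n.2 s⟩, ?_⟩
      show (s * n * s⁻¹ : G) • β = s • (n : G) • α
      rw [← hs, smul_smul, smul_smul]; congr 1; group
    · rintro ⟨n, hn⟩
      have hn' := hN.conj_mem _ n.2 s⁻¹
      refine ⟨⟨_, hn'⟩, ?_⟩
      show (s⁻¹ * n * s⁻¹⁻¹ : G) • α = ω
      have e : (n : G) • β = s • ω := hn
      rw [inv_inv, mul_smul, mul_smul, hs, e, inv_smul_smul]
  have hβ : β ∉ orbit N α := by
    intro hb
    have htop : ∀ ω, ω ∈ orbit N α := fun ω => (hcover ω).elim id fun h => by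
      rw [← MulAction.orbit_eq_iff.2 hb]; exact h
    apply horb
    rw [show orbit N α = Set.univ from Set.eq_univ_of_forall htop, Nat.card_coe_set_eq, Set.ncard_univ,
      Nat.card_eq_fintype_card]
    exact heven.two_dvd
  refine ⟨Hs, fun hb => hTne ((Subgroup.eq_bot_iff_forall _).2 fun x hx => ?_), fun htop => ?_, ?_⟩
  · have : (⟨x, hTN hx⟩ : N) ∈ Hs := hx.2
    rw [hb, Subgroup.mem_bot] at this
    exact congrArg Subtype.val this
  · refine hTne ((Subgroup.eq_bot_iff_forall _).2 fun x hx => ?_)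
    refine FaithfulSMul.eq_of_smul_eq_smul fun ω : Ω => ?_
    obtain ⟨g, rfl⟩ := htr.exists_smul_eq α ω
    have hm : (⟨g⁻¹ * x * g, by simpa using hN.conj_mem x (hTN hx) g⁻¹⟩ : N) ∈ Hs := htop ▸ Subgroup.mem_top _
    have he : (g⁻¹ * x * g) • α = α := hm
    rw [mul_smul, mul_smul, inv_smul_eq_iff] at he
    rw [one_smul]; exact he
  · intro g hg
    rw [Subgroup.eq_bot_iff_forall]
    intro x hx
    obtain ⟨hx1, hx2⟩ := Subgroup.mem_inf.1 hx
    rw [CfsgLib.Base.Frobenius.mem_conj_iff] at hx2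
    set γ := g • α with hγ
    have hγα : α ≠ γ := fun h => hg h.symm
    have hxγ : x • γ = γ := by
      have h : (g⁻¹ * x * g) • α = α := hx2
      rwa [mul_smul, mul_smul, inv_smul_eq_iff] at h
    by_contra hx0
    obtain ⟨p, hp, hpd⟩ := Nat.exists_prime_and_dvd (fun h => hx0 (orderOf_eq_one_iff.1 h) : orderOf x ≠ 1)
    set y := x ^ (orderOf x / p) with hy
    have hyo : orderOf y = p := by
      rw [hy, orderOf_pow_of_dvd (Nat.div_ne_zero_iff_of_dvd hpd |>.2 ⟨(orderOf_pos x).ne', hp.ne_zero⟩)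
        (Nat.div_dvd_of_dvd hpd), Nat.div_div_self hpd (orderOf_pos x).ne']
    have hy1 : (y : G) ≠ 1 := fun h => hp.ne_one (by rw [← hyo, ← Subgroup.orderOf_coe, h, orderOf_one])
    have hyα : y • α = α := (Hs.pow_mem (show x ∈ Hs from hx1) _ : y ∈ Hs)
    have hyγ : y • γ = γ := ((stabilizer N γ).pow_mem (show x ∈ stabilizer N γ from hxγ) _ :
      y ∈ stabilizer N γ)
    have hγo : γ ∈ orbit N α := ⟨g, rfl⟩
    have honly : ∀ ω, y • ω = ω → ω = α ∨ ω = γ := by
      intro ω hω
      by_contra hcon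
      push Not at hcon
      exact hy1 (eq_one_of_three hfix hγα hcon.1.symm hcon.2.symm hyα hyγ hω)
    haveI : Fact p.Prime := ⟨hp⟩
    have hyp : IsPGroup p (Subgroup.zpowers y) :=
      IsPGroup.of_card (n := 1) (by rw [Nat.card_zpowers, hyo, pow_one])
    rcases hp.eq_two_or_odd' with rfl | hpodd
    · obtain ⟨Q, hQ⟩ := hyp.exists_le_sylow
      obtain ⟨m, hm⟩ := MulAction.exists_smul_eq N Q P
      have hmem : m * y * m⁻¹ ∈ (P : Subgroup N) := by
        rw [← hm, Sylow.coe_subgroup_smul, CfsgLib.Base.Frobenius.mem_conj_iff]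
        rw [show m⁻¹ * (m * y * m⁻¹) * m = y by group]
        exact hQ (Subgroup.mem_zpowers y)
      have hmT : ((m * y * m⁻¹ : N) : G) ∈ T := hmem
      have hfx : ∀ ω : Ω, y • ω = ω → ((m * y * m⁻¹ : N) : G) • (m • ω) = m • ω := fun ω hω => by
        show ((m * y * m⁻¹ : N) : N) • (m • ω) = m • ω
        rw [mul_smul, mul_smul, inv_smul_smul, hω]
      have hy' : ((m * y * m⁻¹ : N) : G) ≠ 1 := fun h => hy1 (by
        have : m * y * m⁻¹ = 1 := Subtype.ext h
        rw [conj_eq_one_iff] at this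
        rw [this]; rfl)
      have hor : ∀ ω ∈ orbit N α, y • ω = ω → m • ω = α := by
        intro ω hω hyω
        by_contra hne'
        refine hy' (eq_one_of_three hfix (a := α) (b := β) (c := m • ω) hne (Ne.symm hne') ?_ hmT.2
          (hTβ hmT) (hfx ω hyω))
        intro h
        exact hβ (h ▸ MulAction.mem_orbit_of_mem_orbit m hω)
      have e1 := hor α (mem_orbit_self α) hyα
      have e2 := hor γ hγo hyγ
      exact hγα (MulAction.injective m (e1.trans e2.symm))
    · have hA := hyp.card_modEq_card_fixedPoints (orbit N α)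
      have hB := hyp.card_modEq_card_fixedPoints (orbit N β)
      have hfA : fixedPoints (Subgroup.zpowers y) (orbit N α) =
          {⟨α, mem_orbit_self α⟩, ⟨γ, hγo⟩} := by
        ext ⟨ω, hω⟩
        constructor
        · intro h
          have := congrArg Subtype.val (h ⟨y, Subgroup.mem_zpowers y⟩)
          rcases honly ω this with rfl | rfl <;> simp
        · intro h z
          obtain ⟨z, hz⟩ := z
          have : y ∈ stabilizer N ω := by
            rcases h with h | h
            · rw [show ω = α from congrArg Subtype.val h]; exact hyα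
            · rw [show ω = γ from congrArg Subtype.val h]; exact hyγ
          exact Subtype.ext ((Subgroup.zpowers_le.2 this) hz)
      have hfB : fixedPoints (Subgroup.zpowers y) (orbit N β) = ∅ := by
        ext ⟨ω, hω⟩
        simp only [Set.mem_empty_iff_false, iff_false]
        intro h
        have := congrArg Subtype.val (h ⟨y, Subgroup.mem_zpowers y⟩)
        have hωα : ω ∈ orbit N α := by
          rcases honly ω this with rfl | rfl
          · exact mem_orbit_self _
          · exact hγo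
        exact hβ ((MulAction.orbit_eq_iff.2 hωα) ▸ (MulAction.orbit_eq_iff.2 hω).symm ▸ mem_orbit_self β)
      rw [hfA, Nat.card_coe_set_eq, Nat.card_coe_set_eq, Set.ncard_pair (by simp [hγα])] at hA
      rw [hfB, Nat.card_coe_set_eq, Nat.card_coe_set_eq, Set.ncard_empty, ← Nat.card_coe_set_eq, hcard,
        Nat.card_coe_set_eq] at hB
      have h20 := hA.symm.trans hB
      have h2p := Nat.le_of_dvd two_pos ((Nat.modEq_zero_iff_dvd).1 h20)
      have := hp.two_le
      obtain ⟨c, hc⟩ := hpodd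
      omega

set_option maxHeartbeats 800000 in
/-- The main statement. -/
theorem main (htr : IsPretransitive G Ω) (hfix : ∀ g : G, g ≠ 1 → Nat.card (fixedBy Ω g) ≤ 2)
    (α : Ω) (S : Sylow 2 G) :
    (S : Subgroup G) ⊓ stabilizer G α = ⊥ ∨
    (((∃ n : ℕ, Nonempty (↥(S : Subgroup G) ≃* DihedralGroup n)) ∨ Cfsg.IsQuasiDihedral ↥(S : Subgroup G)) ∧
       (Nat.card ↥((S : Subgroup G) ⊓ stabilizer G α) = 2 ∨
        ((S : Subgroup G) ⊓ stabilizer G α).relIndex (S : Subgroup G) = 2)) ∨
    (4 ≤ Nat.card (S : Subgroup G) ∧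
       (∃ ω : Ω, Nat.card (orbit ↥(S : Subgroup G) ω) = 2 ∧
          ∀ ω' : Ω, ω' ∉ orbit ↥(S : Subgroup G) ω →
            Nat.card (orbit ↥(S : Subgroup G) ω') = Nat.card (S : Subgroup G)) ∧
       ∃ N : Subgroup G, N.Normal ∧ (N.index = 2 ∨ N.index = Nat.card (S : Subgroup G)) ∧
        (∃ H : Subgroup ↥N, Cfsg.IsFrobeniusComplement H)) ∨
    (S : Subgroup G) ≤ stabilizer G α := by
  classical
  haveI : Fact (Nat.Prime 2) := ⟨Nat.prime_two⟩
  set T := (S : Subgroup G) ⊓ stabilizer G α with hT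
  by_cases hTb : T = ⊥
  · exact Or.inl hTb
  by_cases hSA : (S : Subgroup G) ≤ stabilizer G α
  · exact Or.inr (Or.inr (Or.inr hSA))
  refine Or.inr ?_
  -- inside S
  let T₀ : Subgroup (S : Subgroup G) := stabilizer (S : Subgroup G) α
  have hT₀ : T.subgroupOf (S : Subgroup G) = T₀ := by
    ext x; simp [hT, T₀, Subgroup.mem_subgroupOf, MulAction.mem_stabilizer_iff, Subgroup.smul_def]
  have hcT : Nat.card T = Nat.card T₀ := by
    rw [← hT₀, Nat.card_congr (Subgroup.subgroupOfEquivOfLe (inf_le_left : T ≤ _)).toEquiv]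
  have hT₀top : T₀ ≠ ⊤ := fun h => hSA fun x hx => (h ▸ Subgroup.mem_top (⟨x, hx⟩ : (S : Subgroup G)) :)
  haveI := S.isPGroup'.isNilpotent
  have hnc := Group.normalizerCondition_of_isNilpotent (G := (S : Subgroup G))
  have hlt := hnc T₀ (lt_top_iff_ne_top.2 hT₀top)
  obtain ⟨s, hsN, hsT⟩ := SetLike.exists_of_lt hlt
  set β := s • α with hβ
  have hne : α ≠ β := fun h => hsT h.symm
  have hTβ : ∀ x ∈ T₀, x • β = β := by
    intro x hx
    have := (Subgroup.mem_normalizer_iff''.1 hsN x).1 hx
    have e : (s⁻¹ * x * s) • α = α := this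
    rwa [mul_smul, mul_smul, inv_smul_eq_iff] at e
  obtain ⟨t₀, ht₀, ht₀1⟩ : ∃ t ∈ T₀, t ≠ 1 := by
    obtain ⟨x, hx, hx1⟩ := (Subgroup.bot_or_exists_ne_one T).resolve_left hTb
    exact ⟨⟨x, hx.1⟩, hx.2, fun h => hx1 (congrArg Subtype.val h)⟩
  have hone : ∀ (x : (S : Subgroup G)) {a b c : Ω}, a ≠ b → a ≠ c → b ≠ c → x • a = a → x • b = b →
      x • c = c → x = 1 := fun x a b c h1 h2 h3 e1 e2 e3 =>
    Subtype.ext (eq_one_of_three hfix h1 h2 h3 e1 e2 e3)
  have hU : ∀ x : (S : Subgroup G), x ∈ Subgroup.normalizer (T₀ : Set (S : Subgroup G)) →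
      x ∈ T₀ ∨ s⁻¹ * x ∈ T₀ := by
    intro x hx
    by_contra hcon
    push Not at hcon
    have hxα : x • α ≠ α := hcon.1
    have hxβ : x • α ≠ β := fun h => hcon.2 (by
      show (s⁻¹ * x) • α = α
      rw [mul_smul, h, hβ, inv_smul_smul])
    refine ht₀1 (hone t₀ hne (Ne.symm hxα) (Ne.symm hxβ) ht₀ (hTβ _ ht₀) ?_)
    have := (Subgroup.mem_normalizer_iff''.1 hx t₀).1 ht₀
    have e : (x⁻¹ * t₀ * x) • α = α := this
    rwa [mul_smul, mul_smul, inv_smul_eq_iff] at e
  have hcardU : Nat.card (Subgroup.normalizer (T₀ : Set (S : Subgroup G))) = 2 * Nat.card T₀ := by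
    have hidx : (T₀.subgroupOf (Subgroup.normalizer (T₀ : Set (S : Subgroup G)))).index = 2 := by
      refine Subgroup.index_eq_two_iff.2 ⟨⟨s⁻¹, inv_mem hsN⟩, fun b => ?_⟩
      show Xor' ((b : (S : Subgroup G)) * s⁻¹ ∈ T₀) ((b : (S : Subgroup G)) ∈ T₀)
      rcases hU b b.2 with hb | hb
      · exact Or.inr ⟨hb, fun h => hsT (by
          have := mul_mem (inv_mem hb) h; simpa using this)⟩
      · refine Or.inl ⟨?_, fun h => hsT ?_⟩
        · have := (Subgroup.mem_normalizer_iff.1 hsN _).1 hb
          simpa [mul_assoc] using this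
        · have := mul_mem h (inv_mem hb)
          simpa using this
    have := (T₀.subgroupOf (Subgroup.normalizer (T₀ : Set (S : Subgroup G)))).card_mul_index
    rw [hidx, Nat.card_congr (Subgroup.subgroupOfEquivOfLe Subgroup.le_normalizer).toEquiv] at this
    omega
  have hncyc_of_not_normal : Subgroup.normalizer (T₀ : Set (S : Subgroup G)) ≠ ⊤ →
      ¬ IsCyclic (S : Subgroup G) := by
    intro hne' hcyc
    apply hne'
    haveI := hcyc
    letI := IsCyclic.commGroup (α := (S : Subgroup G))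
    exact Subgroup.normalizer_eq_top_iff.2 inferInstance
  by_cases hnorm : Subgroup.normalizer (T₀ : Set (S : Subgroup G)) = ⊤
  swap
  · -- the orbit is long
    left
    set U := Subgroup.normalizer (T₀ : Set (S : Subgroup G)) with hUdef
    obtain ⟨r, hrN, hrU⟩ := SetLike.exists_of_lt
      (hnc U (lt_top_iff_ne_top.2 hnorm))
    have hsα : s • β = α := by
      rcases hU (s * s) (mul_mem hsN hsN) with h | h
      · rw [hβ, smul_smul]; exact h
      · rw [← mul_assoc, inv_mul_cancel, one_mul] at h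
        exact absurd h hsT
    have hrα : r • α ≠ α := fun h => hrU (Subgroup.le_normalizer (show r ∈ T₀ from h))
    have hrβ : r • α ≠ β := fun h => hrU (by
      have h1 : s⁻¹ * r ∈ T₀ := by show (s⁻¹ * r) • α = α; rw [mul_smul, h, hβ, inv_smul_smul]
      have := mul_mem hsN (Subgroup.le_normalizer h1)
      rwa [mul_inv_cancel_left] at this)
    have hinj : Function.Injective (fun p : T₀ × T₀ =>
        (⟨(p.1 : (S : Subgroup G)) * (r * p.2 * r⁻¹), mul_mem (Subgroup.le_normalizer p.1.2)
          ((Subgroup.mem_normalizer_iff.1 hrN _).1 (Subgroup.le_normalizer p.2.2))⟩ : U)) := by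
      rintro ⟨a, b⟩ ⟨c, d⟩ h
      have h' : (a : (S : Subgroup G)) * (r * b * r⁻¹) = c * (r * d * r⁻¹) := congrArg Subtype.val h
      have hz : (c : (S : Subgroup G))⁻¹ * a = r * (d * (b : (S : Subgroup G))⁻¹) * r⁻¹ := by
        rw [inv_mul_eq_iff_eq_mul]
        calc (a : (S : Subgroup G)) = (a : (S : Subgroup G)) * (r * b * r⁻¹) * (r * b * r⁻¹)⁻¹ := by group
          _ = _ := by rw [h']; group
      have h1 : (c : (S : Subgroup G))⁻¹ * a = 1 := by
        refine hone _ hne (Ne.symm hrα) (Ne.symm hrβ) (mul_mem (inv_mem c.2) a.2) (hTβ _ (mul_mem (inv_mem c.2) a.2)) ?_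
        rw [hz]
        have hd : ((d : (S : Subgroup G)) * (b : (S : Subgroup G))⁻¹) • α = α := mul_mem d.2 (inv_mem b.2)
        rw [mul_smul, mul_smul, inv_smul_smul, hd]
      have hac : a = c := Subtype.ext (inv_mul_eq_one.1 h1).symm
      subst hac
      have : (b : (S : Subgroup G)) = d := mul_left_cancel (mul_right_cancel (mul_left_cancel h'))
      exact Prod.ext rfl (Subtype.ext this)
    have hle := Nat.card_le_card_of_injective _ hinj
    rw [Nat.card_prod, hcardU] at hle
    have hT2 : Nat.card T₀ = 2 := by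
      have hpos : 0 < Nat.card T₀ := Nat.card_pos
      have h1 : Nat.card T₀ ≠ 1 := fun h => ht₀1 (by
        have := (Subgroup.card_eq_one.1 h); rw [this] at ht₀; exact ht₀)
      have : Nat.card T₀ ≤ 2 := by nlinarith
      omega
    have hto : orderOf t₀ = 2 := by
      have hd : orderOf t₀ ∣ 2 := (Subgroup.orderOf_dvd_natCard _ ht₀).trans hT2.dvd
      exact ((Nat.dvd_prime Nat.prime_two).1 hd).resolve_left fun h => ht₀1 (orderOf_eq_one_iff.1 h)
    have hTeq : T₀ = Subgroup.zpowers t₀ :=
      (Subgroup.eq_of_le_of_card_ge (Subgroup.zpowers_le.2 ht₀) (by rw [Nat.card_zpowers, hto, hT2])).symm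
    have hCU : Subgroup.centralizer ({t₀} : Set (S : Subgroup G)) = U := by
      refine le_antisymm (fun x hx => ?_) fun x hx => ?_
      · rw [hUdef, Subgroup.mem_normalizer_iff]
        intro y
        have hc : ∀ z ∈ T₀, x * z * x⁻¹ = z := by
          intro z hz
          rw [hTeq] at hz
          obtain ⟨k, rfl⟩ := Subgroup.mem_zpowers_iff.1 hz
          rw [((show Commute t₀ x from (Subgroup.mem_centralizer_singleton_iff.1 hx).symm).zpow_left k).symm.eq, mul_inv_cancel_right]
        refine ⟨fun hy => (hc y hy).symm ▸ hy, fun hy => ?_⟩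
        have h2 := hc _ hy
        exact (mul_left_cancel (mul_right_cancel h2)) ▸ hy
      · have := (Subgroup.mem_normalizer_iff.1 hx t₀).1 ht₀
        have hcases : x * t₀ * x⁻¹ = 1 ∨ x * t₀ * x⁻¹ = t₀ := by
          rw [hTeq, mem_zpowers_iff_mem_range_orderOf, hto] at this
          simpa [Finset.range_add_one, or_comm, eq_comm] using this
        refine Subgroup.mem_centralizer_singleton_iff.2 ?_
        rcases hcases with h | h
        · exact absurd (by simpa using h) ht₀1
        · exact mul_inv_eq_iff_eq_mul.1 h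
    refine ⟨dihedral_or_quasi S.isPGroup' hto ?_ (hncyc_of_not_normal hnorm), Or.inl (by rw [hcT, hT2])⟩
    rw [hCU, hcardU, hT2]
  -- the orbit has length two
  have hall : ∀ x : (S : Subgroup G), x ∈ T₀ ∨ s⁻¹ * x ∈ T₀ := fun x => hU x (hnorm ▸ Subgroup.mem_top x)
  have hrel : T.relIndex (S : Subgroup G) = 2 := by
    show (T.subgroupOf (S : Subgroup G)).index = 2
    rw [hT₀]
    have h1 := T₀.card_mul_index
    have h2 := hcardU
    rw [hnorm, Subgroup.card_top] at h2
    rw [h2, mul_comm 2] at h1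
    exact Nat.eq_of_mul_eq_mul_left Nat.card_pos h1
  by_cases hD : (∃ n : ℕ, Nonempty (↥(S : Subgroup G) ≃* DihedralGroup n)) ∨
      Cfsg.IsQuasiDihedral ↥(S : Subgroup G)
  · exact Or.inl ⟨hD, Or.inr hrel⟩
  refine Or.inr (Or.inl ?_)
  have hsα : ∀ x : (S : Subgroup G), x • α = α ∨ x • α = β := fun x => (hall x).imp id fun h => by
    have e : (s⁻¹ * x) • α = α := h
    rwa [mul_smul, inv_smul_eq_iff] at e
  -- the other points are regular
  have hreg : ∀ ω, ω ≠ α → ω ≠ β → ∀ x : (S : Subgroup G), x • ω = ω → x = 1 := by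
    intro ω hωα hωβ x hx
    by_contra hx1
    obtain ⟨k, hk⟩ := S.isPGroup' x
    have hx' : orderOf x ∣ 2 ^ k := orderOf_dvd_of_pow_eq_one hk
    obtain ⟨i, -, hi⟩ := (Nat.dvd_prime_pow Nat.prime_two).1 hx'
    have hi0 : i ≠ 0 := fun h => hx1 (orderOf_eq_one_iff.1 (by rw [hi, h, pow_zero]))
    set u := x ^ (2 ^ (i - 1)) with hu
    have huo : orderOf u = 2 := by
      rw [hu, orderOf_pow_of_dvd (pow_ne_zero _ two_ne_zero) (hi ▸ pow_dvd_pow 2 (by omega)), hi,
        Nat.pow_div (by omega) two_pos, show i - (i - 1) = 1 by omega, pow_one]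
    have huω : u • ω = ω := (pow_mem (show x ∈ stabilizer (S : Subgroup G) ω from hx) _ : u ∈ stabilizer _ ω)
    have hu1 : u ≠ 1 := fun h => by rw [h, orderOf_one] at huo; omega
    have huT : u ∉ T₀ := fun h => hu1 (hone u hne (Ne.symm hωα) (Ne.symm hωβ) h (hTβ u h) huω)
    set C := Subgroup.centralizer ({u} : Set (S : Subgroup G)) with hC
    have hleC : Nat.card C ≤ 4 := by
      let F : C → (Prop × Prop) := fun c =>
        ((c : (S : Subgroup G)) • α = α, (c : (S : Subgroup G)) • ω = ω)
      have hinj : Function.Injective F := by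
        intro c d hcd
        simp only [F, Prod.mk.injEq, eq_iff_iff] at hcd
        have heα : (c : (S : Subgroup G)) • α = (d : (S : Subgroup G)) • α := by
          rcases hsα c with h | h <;> rcases hsα d with h' | h'
          · rw [h, h']
          · rw [hcd.1.1 h] at h'; exact absurd h' hne
          · rw [hcd.1.2 h'] at h; exact absurd h hne
          · rw [h, h']
        have hmap : ∀ e : C, u • ((e : (S : Subgroup G)) • ω) = (e : (S : Subgroup G)) • ω := fun e => by
          rw [smul_smul, ← Subgroup.mem_centralizer_singleton_iff.1 e.2, mul_smul, huω]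
        have heω : (c : (S : Subgroup G)) • ω = (d : (S : Subgroup G)) • ω := by
          by_cases h : (c : (S : Subgroup G)) • ω = ω
          · rw [h, hcd.2.1 h]
          · have h' : (d : (S : Subgroup G)) • ω ≠ ω := fun e => h (hcd.2.2 e)
            by_contra hne'
            exact hu1 (hone u (Ne.symm h) (Ne.symm h') hne' huω (hmap c) (hmap d))
        refine Subtype.ext (inv_mul_eq_one.1 ?_)
        have e1 : ((c : (S : Subgroup G))⁻¹ * d) • α = α := by rw [mul_smul, ← heα, inv_smul_smul]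
        exact hone _ hne (Ne.symm hωα) (Ne.symm hωβ) e1 (hTβ _ e1) (by rw [mul_smul, ← heω, inv_smul_smul])
      refine (Nat.card_le_card_of_injective F hinj).trans ?_
      simp
    obtain ⟨m, hm⟩ := IsPGroup.iff_card.1 (S.isPGroup'.to_subgroup C)
    have hC2 : 2 ≤ Nat.card C := huo.symm.le.trans (Nat.le_of_dvd Nat.card_pos
      (Subgroup.orderOf_dvd_natCard C (Subgroup.mem_centralizer_singleton_iff.2 rfl)))
    have hC4 : Nat.card C = 4 := by
      by_contra hC4
      have hm1 : m = 1 := by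
        match m, hm with
        | 0, hm => rw [hm] at hC2; norm_num at hC2
        | 1, _ => rfl
        | 2, hm => exact absurd hm hC4
        | m + 3, hm =>
          have : 2 ^ 3 ≤ 2 ^ (m + 3) := Nat.pow_le_pow_right two_pos (by omega)
          omega
      rw [hm1, pow_one] at hm
      have hCz : C = Subgroup.zpowers u := (Subgroup.eq_of_le_of_card_ge
        (Subgroup.zpowers_le.2 (Subgroup.mem_centralizer_singleton_iff.2 rfl))
        (by rw [Nat.card_zpowers, huo, hm])).symm
      haveI : Nontrivial (S : Subgroup G) := ⟨⟨u, 1, hu1⟩⟩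
      obtain ⟨⟨z, hz⟩, hz1⟩ := @exists_ne _ (S.isPGroup'.center_nontrivial) 1
      have hzC : z ∈ C := Subgroup.mem_centralizer_singleton_iff.2 (Subgroup.mem_center_iff.1 hz u).symm
      rw [hCz, mem_zpowers_iff_mem_range_orderOf, huo] at hzC
      have hzu : z = u := by
        simp [Finset.range_add_one] at hzC
        rcases hzC with h | h
        · exact h
        · exact absurd (Subtype.ext h) hz1
      subst hzu
      have hTle : ∀ y : (S : Subgroup G), y ∈ C := fun y =>
        Subgroup.mem_centralizer_singleton_iff.2 (Subgroup.mem_center_iff.1 hz y)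
      have h3 := hTle t₀
      rw [hCz, mem_zpowers_iff_mem_range_orderOf, huo] at h3
      simp [Finset.range_add_one] at h3
      rcases h3 with h | h
      · exact huT (h ▸ ht₀)
      · exact ht₀1 h
    refine hD (dihedral_or_quasi S.isPGroup' huo hC4 fun hcyc => ?_)
    haveI := hcyc
    -- in a cyclic group there is only one involution
    obtain ⟨j, hj⟩ := IsPGroup.iff_card.1 S.isPGroup'
    have ht2 : ∃ v ∈ T₀, orderOf v = 2 := by
      have hT1 : Nat.card T₀ ≠ 1 := fun h => ht₀1 (by
        have := Subgroup.card_eq_one.1 h; rw [this] at ht₀; exact ht₀)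
      obtain ⟨l, hl⟩ := IsPGroup.iff_card.1 (S.isPGroup'.to_subgroup T₀)
      have hl0 : l ≠ 0 := fun h => hT1 (by rw [hl, h, pow_zero])
      obtain ⟨v, hv⟩ := exists_prime_orderOf_dvd_card' 2 (G := T₀) (hl ▸ dvd_pow_self 2 hl0)
      exact ⟨v, v.2, by rw [Subgroup.orderOf_coe]; exact hv⟩
    obtain ⟨v, hvT, hv⟩ := ht2
    haveI := Fintype.ofFinite (S : Subgroup G)
    have hcard2 := IsCyclic.card_pow_eq_one_le (α := (S : Subgroup G)) two_pos
    have hv1 : v ≠ 1 := fun h => by rw [h, orderOf_one] at hv; omega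
    have hsub : ({1, u, v} : Finset (S : Subgroup G)) ⊆ Finset.univ.filter fun a => a ^ 2 = 1 := by
      intro a ha
      simp only [Finset.mem_insert, Finset.mem_singleton] at ha
      rcases ha with rfl | rfl | rfl
      · simp
      · simpa [← orderOf_dvd_iff_pow_eq_one] using dvd_of_eq huo
      · simpa [← orderOf_dvd_iff_pow_eq_one] using dvd_of_eq hv
    have h3 := (Finset.card_le_card hsub).trans hcard2
    rw [Finset.card_insert_of_notMem (by simp [Ne.symm hu1, Ne.symm hv1]), Finset.card_pair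
      (fun h => huT (by rw [h]; exact hvT))] at h3
    omega
  have horbα : orbit (S : Subgroup G) α = {α, β} := by
    ext ω
    constructor
    · rintro ⟨x, rfl⟩; exact hsα x
    · rintro (rfl | rfl)
      · exact mem_orbit_self _
      · exact ⟨s, rfl⟩
  have hother : ∀ ω, ω ∉ orbit (S : Subgroup G) α →
      Nat.card (orbit (S : Subgroup G) ω) = Nat.card (S : Subgroup G) := by
    intro ω hω
    rw [horbα, Set.mem_insert_iff, Set.mem_singleton_iff] at hω
    push Not at hω
    rw [Nat.card_coe_set_eq, ← MulAction.index_stabilizer,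
      show stabilizer (S : Subgroup G) ω = ⊥ from (Subgroup.eq_bot_iff_forall _).2 fun x hx =>
        hreg ω hω.1 hω.2 x hx, Subgroup.index_bot]
  have hT₀ge : 2 ≤ Nat.card T₀ := by
    have hpos : 0 < Nat.card T₀ := Nat.card_pos
    have h1 : Nat.card T₀ ≠ 1 := fun h => ht₀1 (by
      have := Subgroup.card_eq_one.1 h; rw [this] at ht₀; exact ht₀)
    omega
  have hScard : Nat.card (S : Subgroup G) = 2 * Nat.card T₀ := by
    rw [← hcardU, hnorm, Subgroup.card_top]
  obtain ⟨lT, hlT⟩ := IsPGroup.iff_card.1 (S.isPGroup'.to_subgroup T₀)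
  have hlT1 : 1 ≤ lT := by
    by_contra h
    rw [hlT, show lT = 0 by omega, pow_zero] at hT₀ge; omega
  refine ⟨by omega, ⟨α, by rw [horbα, Nat.card_coe_set_eq, Set.ncard_pair hne], hother⟩, ?_⟩
  -- the degree
  let X := {ω : Ω // ω ≠ α ∧ ω ≠ β}
  have hinv : ∀ (x : (S : Subgroup G)) (ω : Ω), ω ≠ α ∧ ω ≠ β → x • ω ≠ α ∧ x • ω ≠ β := by
    intro x ω hω
    have hmem : ∀ ω' ∈ orbit (S : Subgroup G) α, x • ω ≠ ω' := by
      intro ω' hω' h
      have : ω ∈ orbit (S : Subgroup G) α := by
        rw [show ω = x⁻¹ • ω' by rw [← h, inv_smul_smul]]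
        exact MulAction.mem_orbit_of_mem_orbit _ hω'
      rw [horbα] at this
      rcases this with h' | h'
      · exact hω.1 h'
      · exact hω.2 h'
    exact ⟨hmem α (mem_orbit_self _), hmem β ⟨s, rfl⟩⟩
  letI : MulAction (S : Subgroup G) X :=
    { smul := fun x ω => ⟨x • ω.1, hinv x ω.1 ω.2⟩
      one_smul := fun ω => Subtype.ext (one_smul _ _)
      mul_smul := fun x y ω => Subtype.ext (mul_smul _ _ _) }
  have hdvd : Nat.card (S : Subgroup G) ∣ Nat.card X :=
    CfsgLib.Base.card_dvd_of_free (fun x ω h => hreg ω.1 ω.2.1 ω.2.2 x (congrArg Subtype.val h))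
  have hcardX : Nat.card X + 2 = Fintype.card Ω := by
    have : Nat.card X = ({α, β} : Set Ω)ᶜ.ncard := by
      rw [← Nat.card_coe_set_eq]
      exact Nat.card_congr (Equiv.subtypeEquivRight fun ω => by simp)
    rw [this, Set.ncard_compl, Set.ncard_pair hne, Nat.card_eq_fintype_card]
    have : 2 ≤ Fintype.card Ω := Fintype.one_lt_card_iff.2 ⟨α, β, hne⟩
    omega
  obtain ⟨k, hk⟩ := hdvd
  have heven : Even (Fintype.card Ω) := ⟨Nat.card T₀ * k + 1, by rw [← hcardX, hk, hScard]; ring⟩
  have hTβ' : T ≤ stabilizer G β := fun x hx => hTβ ⟨x, hx.1⟩ hx.2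
  suffices hN : ∃ N : Subgroup G, ∃ _ : N.Normal, N.index = 2 ∧ T ≤ N by
    obtain ⟨N, hNn, hNi, hTN⟩ := hN
    exact ⟨N, hNn, Or.inl hNi,
      frobenius_of_index_two htr hfix S α β hne hTb hTβ' s s.2 rfl heven N hNi hTN hrel⟩
  by_cases hcyc : IsCyclic (S : Subgroup G)
  · -- normal complement
    have hmin : (Nat.card G).minFac = 2 := (Nat.minFac_eq_two_iff _).2
      ((show 2 ∣ Nat.card (S : Subgroup G) from hScard ▸ dvd_mul_right 2 _).trans
        (Subgroup.card_subgroup_dvd_card _))
    have hle := hcyc.normalizer_le_centralizer hmin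
    have hc := MonoidHom.ker_transferSylow_isComplement' S hle
    obtain ⟨f, hf⟩ : ∃ f : G →* (S : Subgroup G), f = MonoidHom.transferSylow S hle := ⟨_, rfl⟩
    rw [← hf] at hc
    have hsurj : Function.Surjective f := by
      intro y
      have hcr := f.ker.card_mul_index
      rw [Subgroup.index_ker, ← hc.card_mul] at hcr
      have : Nat.card f.range = Nat.card (S : Subgroup G) := Nat.eq_of_mul_eq_mul_left Nat.card_pos hcr
      exact MonoidHom.range_eq_top.1 (Subgroup.eq_top_of_card_eq _ this) y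
    letI := hcyc.commGroup
    have hinj : Function.Injective (fun x : (S : Subgroup G) => f x) := by
      intro x y h
      have hm : ((x⁻¹ * y : (S : Subgroup G)) : G) ∈ f.ker := by
        simp only at h; rw [MonoidHom.mem_ker, Subgroup.coe_mul, Subgroup.coe_inv, map_mul, map_inv, h, inv_mul_cancel]
      have := Subgroup.disjoint_def.1 hc.disjoint hm (x⁻¹ * y).2
      exact inv_mul_eq_one.1 (Subtype.ext this)
    let fr : (S : Subgroup G) →* (S : Subgroup G) := f.comp (S : Subgroup G).subtype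
    have hfr : Function.Bijective fr := Finite.injective_iff_bijective.1 hinj
    haveI hnm : ((T₀.map fr).comap f).Normal := Subgroup.Normal.comap ⟨fun a ha g => by
      rwa [mul_comm g a, mul_inv_cancel_right]⟩ f
    refine ⟨(T₀.map fr).comap f, hnm, ?_, fun x hx => ?_⟩
    · rw [Subgroup.index_comap_of_surjective _ hsurj, Subgroup.index_map_of_bijective hfr, ← hT₀]
      exact hrel
    · exact Subgroup.mem_map_of_mem fr (show (⟨x, hx.1⟩ : (S : Subgroup G)) ∈ T₀ from hx.2)
  · -- signs
    haveI := Fintype.ofFinite G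
    let σ : G →* ℤˣ := Equiv.Perm.sign.comp (toPermHom G Ω)
    have hord : ∀ y : (S : Subgroup G), 2 * orderOf y ∣ Nat.card (S : Subgroup G) := by
      intro y
      obtain ⟨j, hj⟩ := IsPGroup.iff_card.1 S.isPGroup'
      obtain ⟨i, hi, hyi⟩ := (Nat.dvd_prime_pow Nat.prime_two).1 (hj ▸ orderOf_dvd_natCard y)
      have hij : i ≠ j := fun h => hcyc (isCyclic_of_orderOf_eq_card y (by rw [hyi, h, hj]))
      rw [hyi, hj, ← pow_succ']
      exact pow_dvd_pow 2 (by omega)
    have hfreeX : ∀ (a : (S : Subgroup G)) (ω : X), a • ω = ω → a = 1 := fun a ω h =>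
      hreg ω.1 ω.2.1 ω.2.2 a (congrArg Subtype.val h)
    have hsgnX : ∀ y : (S : Subgroup G), Equiv.Perm.sign (MulAction.toPermHom (S : Subgroup G) X y) = 1 :=
      fun y => sign_free hfreeX y (hord y)
    have hT1 : ∀ x ∈ T, σ x = 1 := by
      intro x hx
      show Equiv.Perm.sign (toPermHom G Ω x) = 1
      have e : toPermHom G Ω x =
          Equiv.Perm.ofSubtype (MulAction.toPermHom (S : Subgroup G) X ⟨x, hx.1⟩) := by
        refine Equiv.ext fun ω => ?_
        by_cases hω : ω ≠ α ∧ ω ≠ β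
        · rw [Equiv.Perm.ofSubtype_apply_of_mem (p := fun ω => ω ≠ α ∧ ω ≠ β) _ hω]; rfl
        · rw [Equiv.Perm.ofSubtype_apply_of_not_mem (p := fun ω => ω ≠ α ∧ ω ≠ β) _ hω]
          rcases (not_and_or.1 hω).imp not_not.1 not_not.1 with rfl | rfl
          · exact hx.2
          · exact hTβ' hx
      rw [e, Equiv.Perm.sign_ofSubtype]; exact hsgnX _
    have hs1 : σ (s : G) = -1 := by
      show Equiv.Perm.sign (toPermHom G Ω (s : G)) = -1
      have hsα' : s • β = α := by
        rcases hsα (s * s) with h | h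
        · rwa [mul_smul] at h
        · rw [mul_smul] at h
          exact absurd (MulAction.injective s h) (Ne.symm hne)
      have e : toPermHom G Ω (s : G) =
          Equiv.swap α β * Equiv.Perm.ofSubtype (MulAction.toPermHom (S : Subgroup G) X s) := by
        refine Equiv.ext fun ω => ?_
        rw [Equiv.Perm.mul_apply]
        by_cases hω : ω ≠ α ∧ ω ≠ β
        · rw [Equiv.Perm.ofSubtype_apply_of_mem (p := fun ω => ω ≠ α ∧ ω ≠ β) _ hω]
          show (s : G) • ω = Equiv.swap α β ((s : G) • ω)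
          have := hinv s ω hω
          exact (Equiv.swap_apply_of_ne_of_ne this.1 this.2).symm
        · rw [Equiv.Perm.ofSubtype_apply_of_not_mem (p := fun ω => ω ≠ α ∧ ω ≠ β) _ hω]
          rcases (not_and_or.1 hω).imp not_not.1 not_not.1 with rfl | rfl
          · rw [Equiv.swap_apply_left]; rfl
          · rw [Equiv.swap_apply_right]; exact hsα'
      rw [e, Equiv.Perm.sign_mul, Equiv.Perm.sign_swap hne, Equiv.Perm.sign_ofSubtype, hsgnX, mul_one]
    refine ⟨σ.ker, inferInstance, ?_, fun x hx => hT1 x hx⟩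
    rw [Subgroup.index_ker]
    have : σ.range = ⊤ := MonoidHom.range_eq_top.2 fun u => by
      rcases Int.units_eq_one_or u with rfl | rfl
      · exact ⟨1, map_one σ⟩
      · exact ⟨s, hs1⟩
    rw [this, Subgroup.card_top, Nat.card_eq_fintype_card, Fintype.card_units_int]

end CfsgLib.Rec.FixityTwo
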