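import Cfsg.Agent.Lib.Recog.Extension
import Cfsg.Agent.Lib.Recog.LinearAction
import Cfsg.Agent.Lib.Recog.OrderSixty

/-!
Certified fixed-point-free matrix groups of dimension four and the spectrum of their affine groups.
-/

set_option autoImplicit false

namespace CfsgLib.Rec.FrobCert

open CfsgLib.Recog

/-- The matrix with the given base `p` code. -/
def decode (p m : ℕ) : Matrix (Fin 4) (Fin 4) (ZMod p) :=
  Matrix.of fun i j => ((m / p ^ (4 * i.val + j.val) % p : ℕ) : ZMod p)

/-- A certificate: the element list, the two generators with inverses, the right multiplication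
tables, the element orders, and inverses of `g - 1`. -/
structure Cert where
  /-- the prime -/
  p : ℕ
  /-- codes of the elements, the identity first -/
  codes : List ℕ
  /-- first generator -/
  a : ℕ
  /-- second generator -/
  b : ℕ
  /-- inverse of the first generator -/
  ai : ℕ
  /-- inverse of the second generator -/
  bi : ℕ
  /-- right multiplication by `a` -/
  nA : List ℕ
  /-- right multiplication by `b` -/
  nB : List ℕ
  /-- orders -/
  ords : List ℕ
  /-- inverses of `g - 1` -/
  invs : List ℕ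

variable (c : Cert)

/-- The validity conditions, decidable by evaluation. -/
structure Valid : Prop where
  inv_a : decode c.p c.a * decode c.p c.ai = 1 ∧ decode c.p c.ai * decode c.p c.a = 1
  inv_b : decode c.p c.b * decode c.p c.bi = 1 ∧ decode c.p c.bi * decode c.p c.b = 1
  len : c.codes.length < 60
  one : decode c.p (c.codes.getD 0 0) = 1
  table : ∀ i : Fin c.codes.length,
    decode c.p (c.codes.getD i 0) * decode c.p c.a = decode c.p (c.codes.getD (c.nA.getD i 0) 0) ∧
    decode c.p (c.codes.getD i 0) * decode c.p c.b = decode c.p (c.codes.getD (c.nB.getD i 0) 0) ∧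
    c.nA.getD i 0 < c.codes.length ∧ c.nB.getD i 0 < c.codes.length
  order : ∀ i : Fin c.codes.length, 0 < c.ords.getD i 0 ∧
    decode c.p (c.codes.getD i 0) ^ c.ords.getD i 0 = 1 ∧
    ∀ k < c.ords.getD i 0, 0 < k → decode c.p (c.codes.getD i 0) ^ k ≠ 1
  fpf : ∀ i : Fin c.codes.length, i.val ≠ 0 →
    decode c.p (c.invs.getD i 0) * (decode c.p (c.codes.getD i 0) - 1) = 1
  reach : ∀ i : Fin c.codes.length, i.val = 0 ∨ ∃ j : Fin c.codes.length, j < i ∧
    (c.nA.getD j 0 = i.val ∨ c.nB.getD j 0 = i.val)

variable {c}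

theorem exists_group [Fact c.p.Prime] (hv : Valid c) :
    ∃ (K : Subgroup (GL (Fin 4) (ZMod c.p))), Group.IsSolvable K ∧
      Set.range (orderOf : Multiplicative (Fin 4 → ZMod c.p) ⋊[mulVecAct.comp K.subtype] K → ℕ) =
        insert c.p {n | ∃ i : Fin c.codes.length, c.ords.getD i 0 = n} := by
  let ga : GL (Fin 4) (ZMod c.p) := ⟨decode c.p c.a, decode c.p c.ai, hv.inv_a.1, hv.inv_a.2⟩
  let gb : GL (Fin 4) (ZMod c.p) := ⟨decode c.p c.b, decode c.p c.bi, hv.inv_b.1, hv.inv_b.2⟩
  let K : Subgroup (GL (Fin 4) (ZMod c.p)) := Subgroup.closure {ga, gb}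
  have hlen : 0 < c.codes.length := by
    by_contra h
    have := hv.one
    rw [List.getD_eq_default _ _ (by omega)] at this
    have h2 := congrFun (congrFun this 0) 0
    simp [decode] at h2
  have hcode : ∀ g ∈ K, ∃ i : Fin c.codes.length,
      (g : Matrix (Fin 4) (Fin 4) (ZMod c.p)) = decode c.p (c.codes.getD i 0) := by
    intro g hg
    have h : g ∈ Submonoid.closure ({ga, gb} : Set (GL (Fin 4) (ZMod c.p))) := by
      rwa [← Subgroup.closure_toSubmonoid_of_finite]
    induction h using Submonoid.closure_induction_right with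
    | one => exact ⟨⟨0, hlen⟩, hv.one.symm⟩
    | mul_right x _ y hy ih =>
      obtain ⟨i, hi⟩ := ih (by
        rw [← Subgroup.mem_toSubmonoid, Subgroup.closure_toSubmonoid_of_finite]
        assumption)
      rcases hy with rfl | hy
      · exact ⟨⟨_, (hv.table i).2.2.1⟩, by rw [Units.val_mul, hi]; exact (hv.table i).1⟩
      · rw [Set.mem_singleton_iff] at hy
        subst hy
        exact ⟨⟨_, (hv.table i).2.2.2⟩, by rw [Units.val_mul, hi]; exact (hv.table i).2.1⟩
  have hmem : ∀ (n : ℕ) (i : Fin c.codes.length), i.val = n →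
      ∃ g ∈ K, (g : Matrix (Fin 4) (Fin 4) (ZMod c.p)) = decode c.p (c.codes.getD i 0) := by
    intro n
    induction n using Nat.strong_induction_on with
    | _ n ih =>
      intro i hi
      rcases hv.reach i with h0 | ⟨j, hj, hji⟩
      · exact ⟨1, one_mem _, by rw [h0]; exact hv.one.symm⟩
      · obtain ⟨g, hg, hgj⟩ := ih j (hi ▸ hj) j rfl
        rcases hji with h | h
        · exact ⟨g * ga, mul_mem hg (Subgroup.subset_closure (Set.mem_insert _ _)), by
            rw [Units.val_mul, hgj, (hv.table j).1, h]⟩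
        · exact ⟨g * gb, mul_mem hg (Subgroup.subset_closure (Set.mem_insert_of_mem _ rfl)), by
            rw [Units.val_mul, hgj, (hv.table j).2.1, h]⟩
  have hord : ∀ (g : K) (i : Fin c.codes.length),
      ((g : GL (Fin 4) (ZMod c.p)) : Matrix (Fin 4) (Fin 4) (ZMod c.p)) = decode c.p (c.codes.getD i 0) →
      orderOf g = c.ords.getD i 0 := by
    intro g i hi
    obtain ⟨hpos, h1, h2⟩ := hv.order i
    rw [← Subgroup.orderOf_coe, orderOf_eq_iff hpos]
    refine ⟨Units.ext (by rw [Units.val_pow_eq_pow_val, hi, Units.val_one]; exact h1),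
      fun k hk hk0 h => h2 k hk hk0 ?_⟩
    rw [← hi, ← Units.val_pow_eq_pow_val, h, Units.val_one]
  refine ⟨K, ?_, ?_⟩
  · choose f hf using fun g : K => hcode g g.2
    refine isSolvable_of_card_lt_sixty (lt_of_le_of_lt ?_ hv.len)
    simpa using Nat.card_le_card_of_injective f fun g h e => Subtype.ext (Units.ext (by
      rw [hf g, hf h, e]))
  · have hexp : ∀ v : Multiplicative (Fin 4 → ZMod c.p), v ^ c.p = 1 := pow_char_eq_one c.p
    have hfix : ∀ (g : K), g ≠ 1 → ∀ v : Multiplicative (Fin 4 → ZMod c.p),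
        mulVecAct.comp K.subtype g v = v → v = 1 := by
      intro g hg v hv'
      obtain ⟨i, hi⟩ := hcode g g.2
      have hi0 : i.val ≠ 0 := fun h0 => hg (Subtype.ext (Units.ext (by rw [hi, h0]; exact hv.one)))
      have h3 := congrArg Multiplicative.toAdd hv'
      have h4 : ((g : GL (Fin 4) (ZMod c.p)) : Matrix (Fin 4) (Fin 4) (ZMod c.p)).mulVec (Multiplicative.toAdd v) =
          Multiplicative.toAdd v := h3
      rw [hi] at h4
      have h5 := congrArg (fun A => Matrix.mulVec A (Multiplicative.toAdd v)) (hv.fpf i hi0)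
      simp only [← Matrix.mulVec_mulVec, Matrix.sub_mulVec, Matrix.one_mulVec, h4, sub_self,
        Matrix.mulVec_zero] at h5
      exact Multiplicative.toAdd.injective h5.symm
    ext n
    constructor
    · rintro ⟨x, rfl⟩
      by_cases hx : x.right = 1
      · rcases orderOf_cases (mulVecAct.comp K.subtype) Fact.out hexp x with h | ⟨h, -⟩
        · rw [h, hx, orderOf_one]
          exact Or.inr ⟨⟨0, hlen⟩, ((hord 1 ⟨0, hlen⟩ hv.one.symm).symm.trans orderOf_one)⟩
        · rw [h, hx, orderOf_one, mul_one]
          exact Or.inl rfl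
      · rw [orderOf_eq_of_fixedPointFree _ x (hfix _ hx)]
        obtain ⟨i, hi⟩ := hcode x.right x.right.2
        exact Or.inr ⟨i, (hord _ i hi).symm⟩
    · rintro (rfl | ⟨i, rfl⟩)
      · refine ⟨SemidirectProduct.inl (Multiplicative.ofAdd (fun _ => 1)), ?_⟩
        rw [orderOf_injective _ SemidirectProduct.inl_injective]
        refine orderOf_eq_prime (hexp _) fun h => ?_
        exact one_ne_zero (congrFun (congrArg Multiplicative.toAdd h) 0)
      · obtain ⟨g, hg, hgi⟩ := hmem i i rfl
        refine ⟨SemidirectProduct.inr ⟨g, hg⟩, ?_⟩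
        rw [orderOf_injective _ SemidirectProduct.inr_injective]
        exact hord ⟨g, hg⟩ i hgi

end CfsgLib.Rec.FrobCert
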