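import Mathlib
import Cfsg.Agent.Lib.PGroups.Basic
import Cfsg.Agent.Lib.PGroups.MaxAbelian
import Cfsg.Agent.Lib.PGroups.UniqueOrderP
import Cfsg.Agent.Lib.PLocal.CyclicMaxTwo

/-!
2-groups with a unique central involution in which no further involution spans, together with it,
a normal four subgroup.
-/

set_option autoImplicit false

namespace CfsgLib.Rec.HalfTrans

variable {G : Type*} [Group G]

theorem eq_or_eq_of_mem_zpowers {z c : G} (hz2 : z * z = 1) (hc : c ∈ Subgroup.zpowers z) :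
    c = 1 ∨ c = z := by
  obtain ⟨k, rfl⟩ := Subgroup.mem_zpowers_iff.1 hc
  have h2 : z ^ (2 : ℤ) = 1 := by rw [zpow_two, hz2]
  rcases Int.even_or_odd' k with ⟨w, rfl | rfl⟩
  · exact Or.inl (by rw [zpow_mul, h2, one_zpow])
  · exact Or.inr (by rw [zpow_add, zpow_mul, h2, one_zpow, one_mul, zpow_one])

theorem four_not_dvd_sq_add_one (r : ℤ) : ¬ (4 : ℤ) ∣ r * r + 1 := by
  intro h
  have h4 : ((r * r + 1 : ℤ) : ZMod 4) = 0 := (ZMod.intCast_zmod_eq_zero_iff_dvd _ 4).2 (by exact_mod_cast h)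
  push_cast at h4
  exact (by decide : ∀ x : ZMod 4, x * x + 1 ≠ 0) _ h4

/-- The structure of a 2-group without normal four subgroups that has a non-central involution. -/
theorem structure_no_normal_four [Finite G] (hG : IsPGroup 2 G) {z b : G} (hz2 : z * z = 1)
    (hz1 : z ≠ 1) (hzc : ∀ g : G, g * z = z * g) (hb2 : b * b = 1) (hb1 : b ≠ 1) (hbz : b ≠ z)
    (hno : ∀ e : G, e * e = 1 → (∀ g : G, g * e * g⁻¹ = e ∨ g * e * g⁻¹ = e * z) → e = 1 ∨ e = z) :
    ∃ (n : ℕ) (a : G), 3 ≤ n ∧ orderOf a = 2 ^ n ∧ z = a ^ (2 ^ (n - 1)) ∧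
      b ∉ Subgroup.zpowers a ∧ Nat.card G = 2 ^ (n + 1) ∧
      (∀ g : G, g ∈ Subgroup.zpowers a ∨ ∃ i : ℤ, g = a ^ i * b) ∧
      (∀ g : G, g ∉ Subgroup.zpowers a → g * a * g⁻¹ = a⁻¹ ∨ g * a * g⁻¹ = a⁻¹ * z) := by
  classical
  haveI : Fact (Nat.Prime 2) := ⟨Nat.prime_two⟩
  obtain ⟨A, hAn, hAab, -, hAC⟩ := CfsgLib.PGroups.exists_selfCentralizing_normal hG ⊥ inferInstance
  haveI := hAn
  haveI := hAab
  have hzA : z ∈ A := by
    rw [← hAC]; exact fun y _ => hzc y
  have hOm : ∀ x ∈ A, x * x = 1 → x = 1 ∨ x = z := by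
    have hZn : (Subgroup.zpowers z).Normal := CfsgLib.PGroups.normal_of_le_center
      (Subgroup.zpowers_le.2 (Subgroup.mem_center_iff.2 hzc))
    let Ω : Subgroup G :=
      { carrier := {x | x ∈ A ∧ x * x = 1}
        one_mem' := ⟨one_mem _, one_mul _⟩
        mul_mem' := fun {x y} hx hy => ⟨mul_mem hx.1 hy.1, by
          have hc : y * x = x * y := congrArg Subtype.val (hAab.is_comm.comm (⟨y, hy.1⟩ : A) ⟨x, hx.1⟩)
          calc x * y * (x * y) = x * (y * x) * y := by group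
            _ = x * x * (y * y) := by rw [hc]; group
            _ = 1 := by rw [hx.2, hy.2, one_mul]⟩
        inv_mem' := fun {x} hx => ⟨inv_mem hx.1, by rw [← mul_inv_rev, hx.2, inv_one]⟩ }
    haveI : Ω.Normal := ⟨fun x hx g => ⟨hAn.conj_mem x hx.1 g, by
      rw [show g * x * g⁻¹ * (g * x * g⁻¹) = g * (x * x) * g⁻¹ by group, hx.2]; group⟩⟩
    intro x hxA hx2
    by_contra hx
    have hne : Ω.map (QuotientGroup.mk' (Subgroup.zpowers z)) ≠ ⊥ := by
      rw [ne_eq, Subgroup.map_eq_bot_iff, QuotientGroup.ker_mk']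
      exact fun hle => hx (eq_or_eq_of_mem_zpowers hz2 (hle ⟨hxA, hx2⟩))
    haveI : (Ω.map (QuotientGroup.mk' (Subgroup.zpowers z))).Normal :=
      Subgroup.Normal.map inferInstance _ (QuotientGroup.mk'_surjective _)
    obtain ⟨u, hu, hu1⟩ := (Subgroup.bot_or_exists_ne_one _).resolve_left
      (CfsgLib.PGroups.inf_center_ne_bot (hG.to_quotient _) hne)
    obtain ⟨⟨y, hyΩ, rfl⟩, huc⟩ := Subgroup.mem_inf.1 hu
    have hconj : ∀ g : G, g * y * g⁻¹ = y ∨ g * y * g⁻¹ = y * z := by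
      intro g
      have h := Subgroup.mem_center_iff.1 huc (g : G ⧸ Subgroup.zpowers z)
      simp only [QuotientGroup.mk'_apply] at h
      have hmem : y⁻¹ * (g * y * g⁻¹) ∈ Subgroup.zpowers z := by
        rw [← QuotientGroup.eq_one_iff]
        simp only [QuotientGroup.mk_mul, QuotientGroup.mk_inv, h]
        group
      rcases eq_or_eq_of_mem_zpowers hz2 hmem with h1 | h1
      · exact Or.inl (inv_mul_eq_one.1 h1).symm
      · exact Or.inr (inv_mul_eq_iff_eq_mul.1 h1)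
    rcases hno y hyΩ.2 hconj with h | h
    · exact hu1 (by rw [h]; exact map_one _)
    · exact hu1 ((QuotientGroup.eq_one_iff y).2 (h ▸ Subgroup.mem_zpowers z))
  have hbA : b ∉ A := fun h => (hOm b h hb2).elim hb1 hbz
  have hAcyc : IsCyclic A := by
    refine CfsgLib.PGroups.isCyclic_of_abelian_of_unique (p := 2) (hG.to_subgroup A)
      (z := ⟨z, hzA⟩) (fun y hy => ?_) (Subtype.ext (by simpa [pow_two] using hz2))
    rcases hOm y y.2 (by simpa [pow_two] using congrArg Subtype.val hy) with h | h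
    · have : y = 1 := Subtype.ext h
      rw [this]; exact one_mem _
    · have : y = ⟨z, hzA⟩ := Subtype.ext h
      rw [this]; exact Subgroup.mem_zpowers _
  obtain ⟨a, ha⟩ := CfsgLib.PLocal.exists_zpowers_eq hAcyc
  subst ha
  have haA : a ∈ Subgroup.zpowers a := Subgroup.mem_zpowers a
  have hcent : ∀ x : G, x * a * x⁻¹ = a → x ∈ Subgroup.zpowers a := by
    intro x hx
    rw [← hAC]
    intro y hy
    obtain ⟨i, rfl⟩ := Subgroup.mem_zpowers_iff.1 hy
    exact ((show Commute x a from mul_inv_eq_iff_eq_mul.1 hx).zpow_right i).eq.symm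
  obtain ⟨n, hn⟩ := IsPGroup.iff_orderOf.1 hG a
  have hn1 : 1 ≤ n := by
    by_contra h0
    rw [show n = 0 by omega, pow_zero, orderOf_eq_one_iff] at hn
    subst hn
    simp at hzA
    exact hz1 hzA
  have hza : z = a ^ (2 ^ (n - 1)) := by
    rcases hOm _ (pow_mem haA (2 ^ (n - 1))) (by
      rw [← pow_add, ← two_mul, ← pow_succ', Nat.sub_add_cancel hn1, ← hn, pow_orderOf_eq_one]) with h | h
    · exfalso
      have := orderOf_dvd_of_pow_eq_one h
      rw [hn, Nat.pow_dvd_pow_iff_le_right one_lt_two] at this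
      omega
    · exact h.symm
  obtain ⟨m, rfl⟩ : ∃ m, n = m + 2 := by
    refine ⟨n - 2, ?_⟩
    by_contra hlt
    have : n = 1 := by omega
    subst this
    simp at hza
    exact hbA (hcent b (by rw [← hza, hzc b, mul_inv_cancel_right]))
  rw [show m + 2 - 1 = m + 1 by omega] at hza
  set h : ℤ := 2 ^ (m + 1) with hh
  have hzh : z = a ^ h := by
    rw [hza, hh, ← zpow_natCast, Nat.cast_pow, Nat.cast_ofNat]
  have hM : ((2 ^ (m + 2) : ℕ) : ℤ) = 2 * h := by rw [hh]; push_cast; ring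
  have hmod : ∀ i j : ℤ, a ^ i = a ^ j ↔ 2 * h ∣ j - i := by
    intro i j
    rw [zpow_eq_zpow_iff_modEq, hn, Int.modEq_iff_dvd, hM]
  have hconjA : ∀ g : G, ∃ r : ℤ, g * a * g⁻¹ = a ^ r := fun g => by
    obtain ⟨r, hr⟩ := Subgroup.mem_zpowers_iff.1 (hAn.conj_mem a haA g)
    exact ⟨r, hr.symm⟩
  have haz : ∀ i : ℤ, (a * z) ^ i = a ^ i * z ^ i := fun i => (show Commute a z from hzc a).mul_zpow i
  have hzinv : z⁻¹ = z := inv_eq_of_mul_eq_one_right hz2
  -- no element acts as `a ↦ a z`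
  have hmodular : 1 ≤ m → ∀ g : G, g * a * g⁻¹ ≠ a * z := by
    intro hm g hg
    have hgA : g ∉ Subgroup.zpowers a := by
      intro hmem
      obtain ⟨i, rfl⟩ := Subgroup.mem_zpowers_iff.1 hmem
      rw [((Commute.refl a).zpow_left i).eq, mul_inv_cancel_right] at hg
      exact hz1 (left_eq_mul.1 hg)
    obtain ⟨l, hl⟩ := Subgroup.mem_zpowers_iff.1 (hcent (g * g) (by
      rw [show g * g * a * (g * g)⁻¹ = g * (g * a * g⁻¹) * g⁻¹ by group, hg,
        show g * (a * z) * g⁻¹ = g * a * g⁻¹ * (g * z * g⁻¹) by group, hg, hzc g,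
        mul_inv_cancel_right, mul_assoc, hz2, mul_one]))
    have hgl : g * a ^ l * g⁻¹ = a ^ l := by rw [hl]; group
    rw [← conj_zpow, hg, haz, mul_eq_left, hzh, ← zpow_mul, ← zpow_zero a, hmod] at hgl
    obtain ⟨j, rfl⟩ : (2 : ℤ) ∣ l := by
      obtain ⟨w, hw⟩ := hgl
      refine ⟨-w, mul_left_cancel₀ (a := h) (pow_ne_zero _ two_ne_zero) ?_⟩
      linarith
    obtain ⟨k, hk⟩ : ∃ k : ℤ, h = 4 * k := ⟨2 ^ (m - 1), by
      rw [hh]; nth_rewrite 1 [show m + 1 = (m - 1) + 2 by omega]; ring⟩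
    set i := -j * (1 - 2 * k) with hi
    set e := a ^ i * g with he
    have hea : e * a * e⁻¹ = a * z := by
      rw [he, show a ^ i * g * a * (a ^ i * g)⁻¹ = a ^ i * (g * a * g⁻¹) * (a ^ i)⁻¹ by group, hg,
        (((Commute.refl a).zpow_left i).mul_right (show Commute (a ^ i) z from hzc _)).eq,
        mul_inv_cancel_right]
    have he2 : e * e = 1 := by
      rw [he, show a ^ i * g * (a ^ i * g) = a ^ i * (g * a ^ i * g⁻¹) * (g * g) by group, ← conj_zpow,
        hg, haz, ← hl, hzh, ← zpow_mul, ← zpow_add, ← zpow_add, ← zpow_add, ← zpow_zero a, hmod, hi, hk]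
      exact ⟨-(j * k), by ring⟩
    have heA : e ∉ Subgroup.zpowers a := fun hmem =>
      hgA (by have := mul_mem (inv_mem (zpow_mem haA i)) hmem; rwa [he, inv_mul_cancel_left] at this)
    refine (hno e he2 fun u => ?_).elim (fun h1 => heA (h1 ▸ one_mem _)) (fun h1 => heA (h1 ▸ hzA))
    obtain ⟨t, ht⟩ := hconjA u⁻¹
    rw [inv_inv] at ht
    have huat : u * a ^ t * u⁻¹ = a := by rw [← ht]; group
    have hact : u * e * u⁻¹ * a * (u * e * u⁻¹)⁻¹ = a * z ^ t := by
      rw [show u * e * u⁻¹ * a * (u * e * u⁻¹)⁻¹ = u * (e * (u⁻¹ * a * u) * e⁻¹) * u⁻¹ by group, ht,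
        ← conj_zpow (a := e), hea, haz,
        show u * (a ^ t * z ^ t) * u⁻¹ = u * a ^ t * u⁻¹ * (u * z ^ t * u⁻¹) by group, huat,
        ((show Commute u z from hzc u).zpow_right t).eq, mul_inv_cancel_right]
    have hzt : z ^ t = z := by
      refine (eq_or_eq_of_mem_zpowers hz2 (zpow_mem (Subgroup.mem_zpowers z) t)).resolve_left fun h0 => ?_
      rw [h0, mul_one] at hact
      refine heA ?_
      have := hAn.conj_mem _ (hcent _ hact) u⁻¹
      simpa [mul_assoc] using this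
    rw [hzt] at hact
    obtain ⟨v, hv⟩ := Subgroup.mem_zpowers_iff.1 (hcent (u * e * u⁻¹ * e⁻¹) (by
      rw [show u * e * u⁻¹ * e⁻¹ * a * (u * e * u⁻¹ * e⁻¹)⁻¹
        = u * e * u⁻¹ * (e⁻¹ * a * e) * (u * e * u⁻¹)⁻¹ by group]
      have hinv : e⁻¹ * a * e = a * z := by
        rw [inv_eq_of_mul_eq_one_right he2]
        have := hea
        rwa [inv_eq_of_mul_eq_one_right he2] at this
      rw [hinv, show u * e * u⁻¹ * (a * z) * (u * e * u⁻¹)⁻¹
        = u * e * u⁻¹ * a * (u * e * u⁻¹)⁻¹ * (u * e * u⁻¹ * z * (u * e * u⁻¹)⁻¹) by group,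
        hact, hzc (u * e * u⁻¹), mul_inv_cancel_right, mul_assoc, hz2, mul_one]))
    have hue : u * e * u⁻¹ = a ^ v * e := by rw [hv]; group
    have h2 : a ^ v * e * (a ^ v * e) = 1 := by
      rw [← hue, show u * e * u⁻¹ * (u * e * u⁻¹) = u * (e * e) * u⁻¹ by group, he2]; group
    rw [show a ^ v * e * (a ^ v * e) = a ^ v * (e * a ^ v * e⁻¹) * (e * e) by group, ← conj_zpow, hea,
      haz, he2, mul_one, hzh, ← zpow_mul, ← zpow_add, ← zpow_add, ← zpow_zero a, hmod] at h2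
    have hhv : h ∣ v := by
      have h3 : 2 * h ∣ 2 * (v * (1 + 2 * k)) := by
        obtain ⟨w, hw⟩ := h2
        refine ⟨-w, ?_⟩
        rw [hk] at hw ⊢
        linarith
      refine IsCoprime.dvd_of_dvd_mul_right ?_ (Int.dvd_of_mul_dvd_mul_left two_ne_zero h3)
      rw [hh]
      exact IsCoprime.pow_left ⟨-k, 1, by ring⟩
    obtain ⟨w, rfl⟩ := hhv
    rw [zpow_mul, ← hzh] at hue
    rcases eq_or_eq_of_mem_zpowers hz2 (zpow_mem (Subgroup.mem_zpowers z) w) with h0 | h0
    · exact Or.inl (by rw [hue, h0, one_mul])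
    · exact Or.inr (by rw [hue, h0, hzc e])
  -- the action of an element outside `A`
  have hact : ∀ (k : ℕ) (g : G), orderOf g = k → g ∉ Subgroup.zpowers a →
      g * a * g⁻¹ = a⁻¹ ∨ g * a * g⁻¹ = a⁻¹ * z := by
    intro k
    induction k using Nat.strong_induction_on with
    | _ k ih =>
    intro g hgk hgA
    obtain ⟨r, hr⟩ := hconjA g
    have hr2 : g * g * a * (g * g)⁻¹ = a ^ (r * r) := by
      rw [show g * g * a * (g * g)⁻¹ = g * (g * a * g⁻¹) * g⁻¹ by group, hr, ← conj_zpow, hr, ← zpow_mul]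
    by_cases hg2 : g * g ∈ Subgroup.zpowers a
    · have hfix : g * g * a * (g * g)⁻¹ = a := by
        obtain ⟨i, hi⟩ := Subgroup.mem_zpowers_iff.1 hg2
        rw [← hi, ((Commute.refl a).zpow_left i).eq, mul_inv_cancel_right]
      rw [hr2] at hfix
      nth_rewrite 2 [← zpow_one a] at hfix
      rw [hmod] at hfix
      have hsq : (2 : ℤ) ^ (m + 2) ∣ r * r - 1 := by
        rw [dvd_sub_comm, show (2 : ℤ) ^ (m + 2) = 2 * h by rw [hh]; ring]; exact hfix
      rcases CfsgLib.PLocal.sq_eq_one_mod_two_pow m r hsq with ⟨w, hw⟩ | ⟨w, hw⟩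
      · have hcase : g * a * g⁻¹ = a * z ^ w := by
          rw [hr, hzh, ← zpow_mul, ← zpow_one_add]; congr 1; rw [hh]; linarith
        rcases eq_or_eq_of_mem_zpowers hz2 (zpow_mem (Subgroup.mem_zpowers z) w) with h0 | h0
        · exact absurd (hcent g (by rw [hcase, h0, mul_one])) hgA
        · rcases Nat.eq_zero_or_pos m with rfl | hm
          · refine Or.inl ?_
            rw [hcase, h0, hzh, ← zpow_one_add, ← zpow_neg_one, hmod, hh]
            exact ⟨-1, by norm_num⟩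
          · exact absurd (h0 ▸ hcase) (hmodular hm g)
      · have hcase : g * a * g⁻¹ = a⁻¹ * z ^ w := by
          rw [hr, hzh, ← zpow_mul, ← zpow_neg_one a, ← zpow_add]; congr 1; rw [hh]; linarith
        rcases eq_or_eq_of_mem_zpowers hz2 (zpow_mem (Subgroup.mem_zpowers z) w) with h0 | h0
        · exact Or.inl (by rw [hcase, h0, mul_one])
        · exact Or.inr (by rw [hcase, h0])
    · exfalso
      obtain ⟨f, hf⟩ := IsPGroup.iff_orderOf.1 hG g
      have hf0 : f ≠ 0 := fun h0 => by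
        rw [h0, pow_zero, orderOf_eq_one_iff] at hf
        exact hgA (hf ▸ one_mem _)
      have hlt : orderOf (g * g) < k := by
        rw [← pow_two, orderOf_pow' g two_ne_zero, hf, Nat.gcd_eq_right (dvd_pow_self 2 hf0), ← hgk, hf]
        exact Nat.div_lt_self (pow_pos two_pos f) one_lt_two
      have h4 : (4 : ℤ) ∣ 2 * h := ⟨2 ^ m, by rw [hh, pow_succ]; ring⟩
      rcases ih _ hlt (g * g) rfl hg2 with h1 | h1
      · rw [hr2, ← zpow_neg_one, hmod] at h1
        refine four_not_dvd_sq_add_one r ?_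
        have := h4.trans h1
        rwa [show (-1 : ℤ) - r * r = -(r * r + 1) by ring, dvd_neg] at this
      · rcases Nat.eq_zero_or_pos m with rfl | hm
        · refine hg2 (hcent _ ?_)
          rw [h1, hzh, ← zpow_neg_one, ← zpow_add]
          nth_rewrite 2 [← zpow_one a]
          rw [hmod, hh]
          exact ⟨0, by norm_num⟩
        · rw [hr2, hzh, ← zpow_neg_one, ← zpow_add, hmod] at h1
          refine four_not_dvd_sq_add_one r ?_
          have h4h : (4 : ℤ) ∣ h := ⟨2 ^ (m - 1), by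
            rw [hh]; nth_rewrite 1 [show m + 1 = (m - 1) + 2 by omega]; ring⟩
          have := dvd_sub h4h (h4.trans h1)
          rwa [show h - (-1 + h - r * r) = r * r + 1 by ring] at this
  have hout : ∀ g : G, g ∉ Subgroup.zpowers a → g * a * g⁻¹ = a⁻¹ ∨ g * a * g⁻¹ = a⁻¹ * z :=
    fun g hg => hact _ g rfl hg
  have hflip : ∀ g : G, g * (a⁻¹ * z) * g⁻¹ = (g * a * g⁻¹)⁻¹ * z := fun g => by
    rw [show g * (a⁻¹ * z) * g⁻¹ = (g * a * g⁻¹)⁻¹ * (g * z * g⁻¹) by group, hzc g, mul_inv_cancel_right]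
  have hmulA : ∀ g g' : G, g ∉ Subgroup.zpowers a → g' ∉ Subgroup.zpowers a →
      g * g' ∈ Subgroup.zpowers a := by
    intro g g' hg hg'
    have hstep : g * g' * a * (g * g')⁻¹ = g * (g' * a * g'⁻¹) * g⁻¹ := by group
    have hbad : g * g' * a * (g * g')⁻¹ ≠ a * z := by
      intro hbad
      rcases Nat.eq_zero_or_pos m with rfl | hm
      · have hzz : a⁻¹ * z = a := by
          rw [hzh, ← zpow_neg_one, ← zpow_add]
          nth_rewrite 2 [← zpow_one a]
          rw [hmod, hh]; exact ⟨0, by norm_num⟩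
        have e1 : ∀ x : G, x ∉ Subgroup.zpowers a → x * a * x⁻¹ = a⁻¹ := fun x hx =>
          (hout x hx).resolve_right fun h2 => hx (hcent x (h2.trans hzz))
        rw [hstep, e1 g' hg', ← conj_inv, e1 g hg, inv_inv] at hbad
        exact hz1 (left_eq_mul.1 hbad)
      · exact hmodular hm _ hbad
    rcases hout g hg with h1 | h1 <;> rcases hout g' hg' with h2 | h2
    · exact hcent _ (by rw [hstep, h2, ← conj_inv, h1, inv_inv])
    · exact absurd (by rw [hstep, h2, hflip, h1, inv_inv]) hbad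
    · exact absurd (by rw [hstep, h2, ← conj_inv, h1, mul_inv_rev, inv_inv, hzinv, hzc a]) hbad
    · exact hcent _ (by rw [hstep, h2, hflip, h1, mul_inv_rev, inv_inv, hzinv, ← hzc a, mul_assoc, hz2, mul_one])
  have hcover : ∀ g : G, g ∈ Subgroup.zpowers a ∨ ∃ i : ℤ, g = a ^ i * b := by
    intro g
    by_cases hg : g ∈ Subgroup.zpowers a
    · exact Or.inl hg
    · obtain ⟨i, hi⟩ := Subgroup.mem_zpowers_iff.1 (hmulA g b hg hbA)
      exact Or.inr ⟨i, by rw [hi, mul_assoc, hb2, mul_one]⟩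
  have hm1 : 1 ≤ m := by
    by_contra hm
    have : m = 0 := by omega
    subst this
    have ha4 : a⁻¹ * z = a := by
      rw [hzh, ← zpow_neg_one, ← zpow_add]
      nth_rewrite 2 [← zpow_one a]
      rw [hmod, hh]; exact ⟨0, by norm_num⟩
    have hba : b * a * b⁻¹ = a⁻¹ := (hout b hbA).resolve_right fun h2 => hbA (hcent b (h2.trans ha4))
    have hz' : z = a ^ (2 : ℤ) := by rw [hzh, hh]; norm_num
    refine (hno b hb2 fun u => ?_).elim hb1 hbz
    have hcj : ∀ i : ℤ, a ^ i * b * (a ^ i)⁻¹ = z ^ i * b := fun i => by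
      rw [show a ^ i * b * (a ^ i)⁻¹ = a ^ i * (b * a ^ i * b⁻¹)⁻¹ * b by group, ← conj_zpow, hba, hz',
        inv_zpow, inv_inv, ← zpow_mul, ← zpow_add, two_mul]
    obtain ⟨i, hi⟩ : ∃ i : ℤ, u * b * u⁻¹ = z ^ i * b := by
      rcases hcover u with hu | ⟨i, rfl⟩
      · obtain ⟨i, rfl⟩ := Subgroup.mem_zpowers_iff.1 hu
        exact ⟨i, hcj i⟩
      · exact ⟨i, by rw [← hcj i]; group⟩
    rcases eq_or_eq_of_mem_zpowers hz2 (zpow_mem (Subgroup.mem_zpowers z) i) with h0 | h0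
    · exact Or.inl (by rw [hi, h0, one_mul])
    · exact Or.inr (by rw [hi, h0, hzc b])
  refine ⟨m + 2, a, by omega, hn, hza, hbA, ?_, hcover, hout⟩
  have hidx : (Subgroup.zpowers a).index = 2 := by
    rw [Subgroup.index_eq_two_iff]
    refine ⟨b, fun g => ?_⟩
    by_cases hg : g ∈ Subgroup.zpowers a
    · exact Or.inr ⟨hg, fun h1 => hbA ((Subgroup.mul_mem_cancel_left _ hg).1 h1)⟩
    · exact Or.inl ⟨hmulA g b hg hbA, hg⟩
  rw [← (Subgroup.zpowers a).card_mul_index, hidx, Nat.card_zpowers, hn, ← pow_succ]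

end CfsgLib.Rec.HalfTrans
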