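import Mathlib
import Cfsg.Agent.Lib.Rec.TransVec
import Cfsg.Agent.Lib.Rec.HalfTransGroup

/-!
Half transitive 2-groups of linear maps in odd characteristic: the imprimitive case.
-/

set_option autoImplicit false

namespace CfsgLib.Rec.HalfTrans

variable {q : ℕ} [Fact q.Prime] {V : Type*} [AddCommGroup V] [Module (ZMod q) V]
  {G : Type*} [Group G] (ρ : G →* (V ≃ₗ[ZMod q] V))

/-- The stabilizer of a vector. -/
def stab (v : V) : Subgroup G where
  carrier := {g | ρ g v = v}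
  one_mem' := by simp
  mul_mem' {g h} hg hh := by
    show ρ (g * h) v = v
    rw [map_mul]
    exact (congrArg (ρ g) hh).trans hg
  inv_mem' {g} hg := by
    show ρ g⁻¹ v = v
    rw [map_inv]
    exact (ρ g).symm_apply_eq.2 hg.symm

theorem mem_stab {v : V} {g : G} : g ∈ stab ρ v ↔ ρ g v = v := Iff.rfl

theorem mul_apply (g h : G) (v : V) : ρ (g * h) v = ρ g (ρ h v) := by rw [map_mul]; rfl

theorem inv_apply_apply (g : G) (v : V) : ρ g⁻¹ (ρ g v) = v := by
  rw [← mul_apply, inv_mul_cancel, map_one]; rfl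

theorem apply_inv_apply (g : G) (v : V) : ρ g (ρ g⁻¹ v) = v := by
  rw [← mul_apply, mul_inv_cancel, map_one]; rfl

theorem sq_apply {g : G} (hg : g * g = 1) (v : V) : ρ g (ρ g v) = v := by
  rw [← mul_apply, hg, map_one]; rfl

theorem eq_one_of_fix (hρ : Function.Injective ρ) {g : G} (h : ∀ v : V, ρ g v = v) : g = 1 :=
  hρ (LinearEquiv.ext fun v => by rw [map_one]; exact h v)

/-- The fixed space of an element. -/
def fixSub (g : G) : Submodule (ZMod q) V :=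
  LinearMap.ker ((ρ g : V →ₗ[ZMod q] V) - LinearMap.id)

/-- The negated space of an element. -/
def negSub (g : G) : Submodule (ZMod q) V :=
  LinearMap.ker ((ρ g : V →ₗ[ZMod q] V) + LinearMap.id)

theorem mem_fixSub {g : G} {v : V} : v ∈ fixSub ρ g ↔ ρ g v = v := by
  simp [fixSub, sub_eq_zero]

theorem mem_negSub {g : G} {v : V} : v ∈ negSub ρ g ↔ ρ g v = -v := by
  simp [negSub, add_eq_zero_iff_eq_neg]

theorem two_smul_cancel (hq : q ≠ 2) {v : V} (h : v + v = 0) : v = 0 := by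
  have h2 : (2 : ZMod q) ≠ 0 := by
    intro h0
    have : (q : ℕ) ∣ 2 := (ZMod.natCast_eq_zero_iff 2 q).1 (by exact_mod_cast h0)
    exact hq ((Nat.prime_dvd_prime_iff_eq Fact.out Nat.prime_two).1 this)
  rw [← two_smul (ZMod q)] at h
  exact (smul_eq_zero.1 h).resolve_left h2

theorem exists_split (hq : q ≠ 2) {g : G} (hg : g * g = 1) (v : V) :
    ∃ x ∈ fixSub ρ g, ∃ y ∈ negSub ρ g, v = x + y := by
  have h2 : (2 : ZMod q) ≠ 0 := by
    intro h0
    have : (q : ℕ) ∣ 2 := (ZMod.natCast_eq_zero_iff 2 q).1 (by exact_mod_cast h0)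
    exact hq ((Nat.prime_dvd_prime_iff_eq Fact.out Nat.prime_two).1 this)
  refine ⟨(2 : ZMod q)⁻¹ • (v + ρ g v), ?_, (2 : ZMod q)⁻¹ • (v - ρ g v), ?_, ?_⟩
  · rw [mem_fixSub, map_smul, map_add, sq_apply ρ hg, add_comm]
  · rw [mem_negSub, map_smul, map_sub, sq_apply ρ hg, ← smul_neg, neg_sub]
  · rw [← smul_add, show v + ρ g v + (v - ρ g v) = (2 : ZMod q) • v by rw [two_smul]; abel,
      smul_smul, inv_mul_cancel₀ h2, one_smul]

theorem eq_zero_of_fix_neg (hq : q ≠ 2) {g : G} {v : V} (h1 : v ∈ fixSub ρ g)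
    (h2 : v ∈ negSub ρ g) : v = 0 := by
  rw [mem_fixSub] at h1
  rw [mem_negSub, h1] at h2
  exact two_smul_cancel hq (eq_neg_iff_add_eq_zero.1 h2)

theorem split_unique (hq : q ≠ 2) {g : G} {x x' y y' : V} (hx : x ∈ fixSub ρ g)
    (hx' : x' ∈ fixSub ρ g) (hy : y ∈ negSub ρ g) (hy' : y' ∈ negSub ρ g) (h : x + y = x' + y') :
    x = x' ∧ y = y' := by
  have h1 : x - x' = y' - y := sub_eq_sub_iff_add_eq_add.2 (by rw [h, add_comm])
  have h0 : x - x' = 0 :=
    eq_zero_of_fix_neg ρ hq (sub_mem hx hx') (h1 ▸ sub_mem hy' hy)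
  refine ⟨sub_eq_zero.1 h0, ?_⟩
  rw [h0] at h1
  exact (sub_eq_zero.1 h1.symm).symm

theorem card_eq_mul [Finite V] (hq : q ≠ 2) {g : G} (hg : g * g = 1) :
    Nat.card V = Nat.card (fixSub ρ g) * Nat.card (negSub ρ g) := by
  rw [← Nat.card_prod]
  refine (Nat.card_congr (Equiv.ofBijective
    (fun x : fixSub ρ g × negSub ρ g => (x.1 : V) + (x.2 : V)) ⟨?_, fun v => ?_⟩)).symm
  · intro x y h
    obtain ⟨h1, h2⟩ := split_unique ρ hq x.1.2 y.1.2 x.2.2 y.2.2 h
    exact Prod.ext (Subtype.ext h1) (Subtype.ext h2)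
  · obtain ⟨x, hx, y, hy, rfl⟩ := exists_split ρ hq hg v
    exact ⟨(⟨x, hx⟩, ⟨y, hy⟩), rfl⟩

/-- A central involution acts as `-1`. -/
theorem central_involution [Finite G] (hρ : Function.Injective ρ) (hq : q ≠ 2)
    (hs : ∀ v w : V, v ≠ 0 → w ≠ 0 → Nat.card (stab ρ v) = Nat.card (stab ρ w))
    (hns : ∃ (v : V) (g : G), v ≠ 0 ∧ ρ g v = v ∧ g ≠ 1)
    {z : G} (hz2 : z * z = 1) (hz1 : z ≠ 1) (hzc : ∀ g : G, g * z = z * g) :
    ∀ v : V, ρ z v = -v := by
  have hU : ∀ (g : G) (v : V), v ∈ fixSub ρ z → ρ g v ∈ fixSub ρ z := fun g v hv => by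
    rw [mem_fixSub] at hv ⊢
    rw [← mul_apply, ← hzc, mul_apply, hv]
  have hW : ∀ (g : G) (v : V), v ∈ negSub ρ z → ρ g v ∈ negSub ρ z := fun g v hv => by
    rw [mem_negSub] at hv ⊢
    rw [← mul_apply, ← hzc, mul_apply, hv, map_neg]
  have hne : ∀ {u w : V}, u ∈ fixSub ρ z → w ∈ negSub ρ z → u ≠ 0 → w ≠ 0 →
      stab ρ (u + w) = stab ρ u ∧ stab ρ (u + w) = stab ρ w := by
    intro u w hu hw hu0 hw0
    have h0 : u + w ≠ 0 := fun h => hu0 (split_unique ρ hq hu (zero_mem _) hw (zero_mem _) (by rw [h, add_zero])).1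
    have hle : ∀ g ∈ stab ρ (u + w), ρ g u = u ∧ ρ g w = w := fun g hg => by
      rw [mem_stab, map_add] at hg
      exact split_unique ρ hq (hU g u hu) hu (hW g w hw) hw hg
    exact ⟨Subgroup.eq_of_le_of_card_ge (fun g hg => (hle g hg).1) (hs _ _ h0 hu0).ge,
      Subgroup.eq_of_le_of_card_ge (fun g hg => (hle g hg).2) (hs _ _ h0 hw0).ge⟩
  intro v
  obtain ⟨x, hx, y, hy, rfl⟩ := exists_split ρ hq hz2 v
  by_cases hx0 : x = 0
  · rw [hx0, zero_add]; exact (mem_negSub ρ).1 hy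
  exfalso
  by_cases hW0 : ∀ w ∈ negSub ρ z, w = 0
  · refine hz1 (eq_one_of_fix ρ hρ fun v => ?_)
    obtain ⟨a, ha, b, hb, rfl⟩ := exists_split ρ hq hz2 v
    rw [hW0 b hb, add_zero]; exact (mem_fixSub ρ).1 ha
  push Not at hW0
  obtain ⟨w, hw, hw0⟩ := hW0
  obtain ⟨v₀, g, hv₀, hgv, hg1⟩ := hns
  -- all stabilizers of vectors in the two eigenspaces coincide
  have hsame : ∀ a ∈ fixSub ρ z, a ≠ 0 → stab ρ a = stab ρ w := fun a ha ha0 =>
    (hne ha hw ha0 hw0).1.symm.trans (hne ha hw ha0 hw0).2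
  have hsame' : ∀ b ∈ negSub ρ z, b ≠ 0 → stab ρ b = stab ρ w := fun b hb hb0 =>
    ((hne hx hb hx0 hb0).2.symm.trans (hne hx hb hx0 hb0).1).trans (hsame x hx hx0)
  have hbot : stab ρ w = ⊥ := by
    refine (Subgroup.eq_bot_iff_forall _).2 fun k hk => eq_one_of_fix ρ hρ fun v => ?_
    obtain ⟨a, ha, b, hb, rfl⟩ := exists_split ρ hq hz2 v
    rw [map_add]
    congr 1
    · rcases eq_or_ne a 0 with rfl | ha0
      · exact map_zero _
      · exact (hsame a ha ha0).ge hk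
    · rcases eq_or_ne b 0 with rfl | hb0
      · exact map_zero _
      · exact (hsame' b hb hb0).ge hk
  have h1 : Nat.card (stab ρ v₀) = 1 := by rw [hs v₀ w hv₀ hw0, hbot, Subgroup.card_bot]
  exact hg1 (Subgroup.mem_bot.1 ((Subgroup.card_eq_one.1 h1) ▸ (hgv : g ∈ stab ρ v₀)))

theorem card_le_two_mul [Finite G] (H C : Subgroup G)
    (h : ∀ x ∈ H, ∀ y ∈ H, x ∉ C → y ∉ C → x * y ∈ C) :
    Nat.card H ≤ 2 * Nat.card (H ⊓ C : Subgroup G) := by
  classical
  by_cases hle : H ≤ C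
  · rw [inf_eq_left.2 hle]; omega
  obtain ⟨x, hxH, hxC⟩ := SetLike.not_le_iff_exists.1 hle
  let f : H → Bool × (H ⊓ C : Subgroup G) := fun y =>
    if hy : (y : G) ∈ C then (true, ⟨y, y.2, hy⟩)
    else (false, ⟨x * y, mul_mem hxH y.2, h x hxH y y.2 hxC hy⟩)
  have hf : Function.Injective f := by
    intro y y' he
    simp only [f] at he
    split_ifs at he
    · exact Subtype.ext (congrArg (fun t => ((Prod.snd t : (H ⊓ C : Subgroup G)) : G)) he)
    · exact absurd (congrArg Prod.fst he) (by simp)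
    · exact absurd (congrArg Prod.fst he) (by simp)
    · exact Subtype.ext (mul_left_cancel (congrArg (fun t => ((Prod.snd t : (H ⊓ C : Subgroup G)) : G)) he))
  refine (Nat.card_le_card_of_injective f hf).trans (le_of_eq ?_)
  rw [Nat.card_prod, Nat.card_eq_fintype_card (α := Bool), Fintype.card_bool]

theorem mul_mem_of_card_le [Finite G] {H T : Subgroup G} (hle : T ≤ H)
    (hcard : Nat.card H ≤ 2 * Nat.card T) {h k : G} (hh : h ∈ H) (hk : k ∈ H) (hhT : h ∉ T)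
    (hkT : k ∉ T) : h * k ∈ T := by
  have hmul := (T.subgroupOf H).card_mul_index
  rw [Nat.card_congr (Subgroup.subgroupOfEquivOfLe hle).toEquiv] at hmul
  have hidx : (T.subgroupOf H).index ≤ 2 :=
    Nat.le_of_mul_le_mul_left (by rw [hmul, mul_comm]; exact hcard) Nat.card_pos
  have hne0 : (T.subgroupOf H).index ≠ 0 := Subgroup.index_ne_zero_of_finite
  have hne1 : (T.subgroupOf H).index ≠ 1 := fun h1 => hhT (by
    have : (⟨h, hh⟩ : H) ∈ T.subgroupOf H := (Subgroup.index_eq_one.1 h1).symm ▸ Subgroup.mem_top _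
    exact this)
  have h2 : (T.subgroupOf H).index = 2 := by omega
  have := (Subgroup.mul_mem_iff_of_index_two h2 (a := ⟨h, hh⟩) (b := ⟨k, hk⟩)).2
    ⟨fun h3 => absurd h3 hhT, fun h3 => absurd h3 hkT⟩
  exact this

theorem exists_equiv_of_axes [Finite V] (hV : Nat.card V = q ^ 2) {u w : V}
    (huw : ∀ a b : ZMod q, a • u + b • w = 0 → a = 0 ∧ b = 0) :
    ∃ E : V ≃ₗ[ZMod q] (Fin 2 → ZMod q), ∀ c, E.symm c = c 0 • u + c 1 • w := by
  let φ : (Fin 2 → ZMod q) →ₗ[ZMod q] V :=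
    LinearMap.smulRight (LinearMap.proj 0) u + LinearMap.smulRight (LinearMap.proj 1) w
  have hφ : ∀ c, φ c = c 0 • u + c 1 • w := fun c => rfl
  have hbij : Function.Bijective φ := by
    rw [Nat.bijective_iff_injective_and_card]
    refine ⟨LinearMap.ker_eq_bot.1 ((Submodule.eq_bot_iff _).2 fun c hc => ?_),
      by rw [hV, Nat.card_fun, Nat.card_fin, Nat.card_zmod]⟩
    obtain ⟨h0, h1⟩ := huw _ _ ((hφ c).symm.trans hc)
    funext i
    fin_cases i <;> assumption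
  exact ⟨(LinearEquiv.ofBijective φ hbij).symm, fun c => hφ c⟩

/-- The imprimitive case. -/
theorem imprimitive [Finite V] [Finite G] (hG : IsPGroup 2 G) (hρ : Function.Injective ρ) (hq : q ≠ 2)
    (hs : ∀ v w : V, v ≠ 0 → w ≠ 0 → Nat.card (stab ρ v) = Nat.card (stab ρ w))
    (hns : ∃ (v : V) (g : G), v ≠ 0 ∧ ρ g v = v ∧ g ≠ 1)
    {z e : G} (hz : ∀ v : V, ρ z v = -v)
    (he2 : e * e = 1) (he1 : e ≠ 1) (hez : e ≠ z)
    (hec : ∀ g : G, g * e * g⁻¹ = e ∨ g * e * g⁻¹ = e * z) (henc : ∃ g : G, g * e ≠ e * g) :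
    (Nat.card V = q ^ 2 ∧ (∃ m : ℕ, q = 2 ^ m + 1) ∧
      ∃ E : V ≃ₗ[ZMod q] (Fin 2 → ZMod q), ∀ f : (Fin 2 → ZMod q) ≃ₗ[ZMod q] (Fin 2 → ZMod q),
        (∃ g : G, f = E.symm.trans ((ρ g).trans E)) ↔
        ∃ a s : ZMod q, a ≠ 0 ∧ (s = 1 ∨ s = -1) ∧
          ((∀ v, f v = ![a * v 0, s * a⁻¹ * v 1]) ∨ (∀ v, f v = ![s * a⁻¹ * v 1, a * v 0]))) ∨
    (Nat.card V = 81 ∧ q = 3) := by
  classical
  haveI : Fact (Nat.Prime 2) := ⟨Nat.prime_two⟩
  have hqp : q.Prime := Fact.out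
  obtain ⟨g₀, hg₀⟩ := henc
  let V₁ := fixSub ρ e
  let V₂ := negSub ρ e
  let C : Subgroup G :=
    { carrier := {g | g * e = e * g}
      one_mem' := by simp
      mul_mem' := fun {g h} hg hh => (show Commute g e from hg).mul_left (show Commute h e from hh)
      inv_mem' := fun {g} hg => (show Commute g e from hg).inv_left }
  have memC : ∀ g : G, g ∈ C ↔ g * e = e * g := fun g => Iff.rfl
  have hnotC : ∀ g : G, g ∉ C → g * e = e * z * g := fun g hg =>
    mul_inv_eq_iff_eq_mul.1 ((hec g).resolve_left fun h => hg (mul_inv_eq_iff_eq_mul.1 h))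
  have hp1 : ∀ g ∈ C, ∀ v ∈ V₁, ρ g v ∈ V₁ := fun g hg v hv => by
    rw [mem_fixSub] at hv ⊢
    rw [← mul_apply, ← (memC g).1 hg, mul_apply, hv]
  have hp2 : ∀ g ∈ C, ∀ v ∈ V₂, ρ g v ∈ V₂ := fun g hg v hv => by
    rw [mem_negSub] at hv ⊢
    rw [← mul_apply, ← (memC g).1 hg, mul_apply, hv, map_neg]
  have hs1 : ∀ g ∉ C, ∀ v ∈ V₁, ρ g v ∈ V₂ := fun g hg v hv => by
    rw [mem_fixSub] at hv
    rw [mem_negSub]
    have h := mul_apply ρ g e v
    rw [hnotC g hg, hv, mul_apply, mul_apply, hz, map_neg] at h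
    exact neg_eq_iff_eq_neg.1 h
  have hs2 : ∀ g ∉ C, ∀ v ∈ V₂, ρ g v ∈ V₁ := fun g hg v hv => by
    rw [mem_negSub] at hv
    rw [mem_fixSub]
    have h := mul_apply ρ g e v
    rw [hnotC g hg, hv, mul_apply, mul_apply, hz, map_neg, map_neg, neg_inj] at h
    exact h
  have hg₀C : g₀ ∉ C := hg₀
  have hprod : ∀ g h : G, g ∉ C → h ∉ C → g * h ∈ C := by
    intro g h hg hh
    rw [memC]
    have hzc : g * z = z * g := hρ (LinearEquiv.ext fun v => by
      rw [mul_apply, mul_apply, hz, hz, map_neg])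
    have hzz : z * z = 1 := eq_one_of_fix ρ hρ fun v => by rw [mul_apply, hz, hz, neg_neg]
    calc g * h * e = g * (h * e) := mul_assoc _ _ _
      _ = g * (e * z * h) := by rw [hnotC h hh]
      _ = (g * e) * z * h := by group
      _ = e * z * g * z * h := by rw [hnotC g hg]
      _ = e * z * (g * z) * h := by group
      _ = e * z * (z * g) * h := by rw [hzc]
      _ = e * (z * z) * g * h := by group
      _ = e * (g * h) := by rw [hzz]; group
  -- both spaces are non-zero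
  have hV₁ : ∃ v ∈ V₁, v ≠ 0 := by
    by_contra hno
    push Not at hno
    refine hez (hρ (LinearEquiv.ext fun v => ?_))
    obtain ⟨x, hx, y, hy, rfl⟩ := exists_split ρ hq he2 v
    rw [hno x hx, zero_add, hz]
    exact (mem_negSub ρ).1 hy
  have hV₂ : ∃ w ∈ V₂, w ≠ 0 := by
    obtain ⟨v, hv, hv0⟩ := hV₁
    exact ⟨_, hs1 g₀ hg₀C v hv, (ρ g₀).map_ne_zero_iff.2 hv0⟩
  have hg₀inv : g₀⁻¹ ∉ C := fun h => hg₀C (by simpa using inv_mem h)
  have hQ : Nat.card V₂ = Nat.card V₁ := by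
    refine (Nat.card_congr ⟨fun v => ⟨ρ g₀ v.1, hs1 g₀ hg₀C v.1 v.2⟩,
      fun v => ⟨ρ g₀⁻¹ v.1, hs2 g₀⁻¹ hg₀inv v.1 v.2⟩, fun v => Subtype.ext ?_, fun v => Subtype.ext ?_⟩).symm
    · exact inv_apply_apply ρ g₀ v.1
    · exact apply_inv_apply ρ g₀ v.1
  have hstabC : ∀ v ∈ V₁, v ≠ 0 → stab ρ v ≤ C := fun v hv hv0 g hg => by
    by_contra hgC
    have h := hs1 g hgC v hv
    rw [(mem_stab ρ).1 hg] at h
    exact hv0 (eq_zero_of_fix_neg ρ hq hv h)
  have hstabC' : ∀ v ∈ V₂, v ≠ 0 → stab ρ v ≤ C := fun v hv hv0 g hg => by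
    by_contra hgC
    have h := hs2 g hgC v hv
    rw [(mem_stab ρ).1 hg] at h
    exact hv0 (eq_zero_of_fix_neg ρ hq h hv)
  have hfix_both : ∀ g : G, (∀ v ∈ V₁, ρ g v = v) → (∀ v ∈ V₂, ρ g v = v) → g = 1 := by
    intro g h1 h2
    refine eq_one_of_fix ρ hρ fun v => ?_
    obtain ⟨x, hx, y, hy, rfl⟩ := exists_split ρ hq he2 v
    rw [map_add, h1 x hx, h2 y hy]
  obtain ⟨v₀, k₀, hv₀, hk₀, hk₀1⟩ := hns
  set s := Nat.card (stab ρ v₀) with hsdef
  have hsv : ∀ v : V, v ≠ 0 → Nat.card (stab ρ v) = s := fun v hv => hs v v₀ hv hv₀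
  have hs1' : 1 < s := by
    rw [hsdef, Finite.one_lt_card_iff_nontrivial, Subgroup.nontrivial_iff_ne_bot]
    exact fun h => hk₀1 (Subgroup.mem_bot.1 (h ▸ (hk₀ : k₀ ∈ stab ρ v₀)))
  -- two stabilizers meet in a subgroup of index at most two
  have hT : ∀ v ∈ V₁, v ≠ 0 → ∀ w ∈ V₂, s ≤ 2 * Nat.card (stab ρ v ⊓ stab ρ w : Subgroup G) := by
    intro v hv hv0 w hw
    have h0 : v + w ≠ 0 := fun h =>
      hv0 (split_unique ρ hq hv (zero_mem _) hw (zero_mem _) (by rw [h, add_zero])).1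
    rw [← hsv _ h0]
    refine (card_le_two_mul (stab ρ (v + w)) C fun x _ y _ => hprod x y).trans
      (Nat.mul_le_mul_left 2 (Subgroup.card_le_of_le ?_))
    rintro g ⟨hg, hgC⟩
    have hg' : ρ g v + ρ g w = v + w := by rw [← map_add]; exact hg
    obtain ⟨h1, h2⟩ := split_unique ρ hq (hp1 g hgC v hv) hv (hp2 g hgC w hw) hw hg'
    exact ⟨h1, h2⟩
  let K₁ : Subgroup G := ⨅ v : V₁, stab ρ (v : V)
  let K₂ : Subgroup G := ⨅ w : V₂, stab ρ (w : V)
  have memK₁ : ∀ g, g ∈ K₁ ↔ ∀ v ∈ V₁, ρ g v = v := fun g => by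
    simp [K₁, Subgroup.mem_iInf, mem_stab]
  have memK₂ : ∀ g, g ∈ K₂ ↔ ∀ w ∈ V₂, ρ g w = w := fun g => by
    simp [K₂, Subgroup.mem_iInf, mem_stab]
  have hKcard : Nat.card K₁ = Nat.card K₂ := by
    refine Nat.card_congr
      { toFun := fun g => ⟨g₀ * g * g₀⁻¹, (memK₂ _).2 fun w hw => ?_⟩
        invFun := fun g => ⟨g₀⁻¹ * g * g₀, (memK₁ _).2 fun v hv => ?_⟩
        left_inv := fun g => Subtype.ext (by show g₀⁻¹ * (g₀ * g * g₀⁻¹) * g₀ = _; group)
        right_inv := fun g => Subtype.ext (by show g₀ * (g₀⁻¹ * g * g₀) * g₀⁻¹ = _; group) }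
    · rw [mul_apply, mul_apply, (memK₁ _).1 g.2 _ (hs2 _ hg₀inv w hw), apply_inv_apply]
    · rw [mul_apply, mul_apply, (memK₂ _).1 g.2 _ (hs1 _ hg₀C v hv), inv_apply_apply]
  -- the key index bound
  have hJ : ∀ v ∈ V₁, v ≠ 0 → s ≤ 2 * Nat.card (stab ρ v ⊓ K₂ : Subgroup G) := by
    intro v hv hv0
    by_cases hall : ∀ w ∈ V₂, stab ρ v ≤ stab ρ w
    · rw [inf_eq_left.2 fun g hg => (memK₂ g).2 fun w hw => hall w hw hg, hsv v hv0]; omega
    push Not at hall
    obtain ⟨w₀, hw₀, hne₀⟩ := hall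
    refine (hT v hv hv0 w₀ hw₀).trans (Nat.mul_le_mul_left 2 (Subgroup.card_le_of_le ?_))
    rintro g ⟨hgv, hgw⟩
    refine ⟨hgv, (memK₂ g).2 fun w₁ hw₁ => ?_⟩
    by_contra hgw₁
    have hscard : ∀ w ∈ V₂, Nat.card (stab ρ v) ≤ 2 * Nat.card (stab ρ v ⊓ stab ρ w : Subgroup G) :=
      fun w hw => (hsv v hv0).le.trans (hT v hv hv0 w hw)
    -- an element fixing `w₁` but not `w₀`
    obtain ⟨k, hkv, hk1, hk0⟩ : ∃ k, ρ k v = v ∧ ρ k w₁ = w₁ ∧ ρ k w₀ ≠ w₀ := by
      obtain ⟨x, hxv, hxw⟩ := SetLike.not_le_iff_exists.1 hne₀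
      by_cases hx1 : ρ x w₁ = w₁
      · exact ⟨x, hxv, hx1, hxw⟩
      have hm := mul_mem_of_card_le inf_le_left (hscard w₁ hw₁) hxv hgv (fun h => hx1 h.2)
        (fun h => hgw₁ h.2)
      refine ⟨x * g, hm.1, hm.2, fun h => hxw ?_⟩
      rw [mul_apply, (hgw : ρ g w₀ = w₀)] at h
      exact h
    have hgk : ∀ c : ZMod q, c ≠ 0 →
        ρ g (ρ k w₀) + c • ρ g w₁ = w₀ + c • w₁ := by
      intro c hc
      have hw : w₀ + c • w₁ ∈ V₂ := add_mem hw₀ (Submodule.smul_mem _ c hw₁)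
      have hm := mul_mem_of_card_le inf_le_left (hscard _ hw) (hgv : g ∈ stab ρ v)
        (hkv : k ∈ stab ρ v)
        (fun h => hgw₁ (by
          have h' : ρ g (w₀ + c • w₁) = w₀ + c • w₁ := h.2
          rw [map_add, map_smul, (hgw : ρ g w₀ = w₀)] at h'
          exact smul_right_injective V hc (add_left_cancel h')))
        (fun h => hk0 (by
          have h' : ρ k (w₀ + c • w₁) = w₀ + c • w₁ := h.2
          rw [map_add, map_smul, hk1] at h'
          exact add_right_cancel h'))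
      have h' : ρ (g * k) (w₀ + c • w₁) = w₀ + c • w₁ := hm.2
      rw [mul_apply, map_add, map_smul, hk1, map_add, map_smul] at h'
      exact h'
    have h1 := hgk 1 one_ne_zero
    have h2ne : (2 : ZMod q) ≠ 0 := by
      intro h0
      have : (q : ℕ) ∣ 2 := (ZMod.natCast_eq_zero_iff 2 q).1 (by exact_mod_cast h0)
      exact hq ((Nat.prime_dvd_prime_iff_eq Fact.out Nat.prime_two).1 this)
    have h2 := hgk 2 h2ne
    rw [one_smul, one_smul] at h1
    rw [two_smul, two_smul, ← add_assoc, ← add_assoc, h1] at h2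
    exact hgw₁ (add_left_cancel h2)
  have hKJ : ∀ v ∈ V₁, v ≠ 0 →
      Nat.card K₁ * Nat.card (stab ρ v ⊓ K₂ : Subgroup G) ≤ s := by
    intro v hv hv0
    rw [← hsv v hv0, ← Nat.card_prod]
    refine Nat.card_le_card_of_injective
      (fun x : K₁ × (stab ρ v ⊓ K₂ : Subgroup G) =>
        (⟨x.1 * x.2, mul_mem ((memK₁ _).1 x.1.2 v hv) x.2.2.1⟩ : stab ρ v)) ?_
    rintro ⟨a, b⟩ ⟨a', b'⟩ h
    have h' : (a : G) * b = a' * b' := congrArg Subtype.val h
    have hab : (a' : G)⁻¹ * a = b' * (b : G)⁻¹ := by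
      rw [inv_mul_eq_iff_eq_mul, ← mul_assoc, ← h', mul_inv_cancel_right]
    have h1 : (a' : G)⁻¹ * a = 1 := hfix_both _
      ((memK₁ _).1 (mul_mem (inv_mem a'.2) a.2))
      ((memK₂ _).1 (hab ▸ mul_mem b'.2.2 (inv_mem b.2.2)))
    have e1 : a = a' := Subtype.ext (inv_mul_eq_one.1 h1).symm
    subst e1
    exact Prod.ext rfl (Subtype.ext (mul_left_cancel h'))
  obtain ⟨v, hv, hv0⟩ := hV₁
  -- the stabilizers have order two
  have hs2' : s = 2 := by
    by_contra hne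
    have hcard : ∀ u ∈ V₁, u ≠ 0 → K₂ ≤ stab ρ u := by
      intro u hu hu0
      have h1 := hJ u hu hu0
      have h2 := hKJ u hu hu0
      have hK1 : Nat.card K₁ ≤ 2 := Nat.le_of_mul_le_mul_right (h2.trans h1) Nat.card_pos
      have heq : (stab ρ u ⊓ K₂ : Subgroup G) = K₂ :=
        Subgroup.eq_of_le_of_card_ge inf_le_right (by rw [← hKcard]; omega)
      exact heq ▸ inf_le_left
    have hbot : K₂ = ⊥ := (Subgroup.eq_bot_iff_forall _).2 fun k hk =>
      hfix_both k (fun u hu => (eq_or_ne u 0).elim (fun h => by rw [h, map_zero]) fun h => hcard u hu h hk)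
        ((memK₂ k).1 hk)
    have h1 := hJ v hv hv0
    rw [hbot, inf_bot_eq, Subgroup.card_bot] at h1
    omega
  rw [hs2'] at hsv
  obtain ⟨x, hx2, hx1, hxv, hxall⟩ : ∃ x : G, x * x = 1 ∧ x ≠ 1 ∧ ρ x v = v ∧
      ∀ g, ρ g v = v → g = 1 ∨ g = x := by
    have hc := hsv v hv0
    obtain ⟨a, ha, huniq⟩ := (Nat.card_eq_two_iff' (1 : stab ρ v)).1 hc
    refine ⟨a, ?_, fun h => ha (Subtype.ext h), a.2, fun g hg => ?_⟩
    · have := pow_card_eq_one' (G := stab ρ v) (x := a)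
      rw [hc, pow_two] at this
      exact congrArg Subtype.val this
    · by_cases h1 : (⟨g, hg⟩ : stab ρ v) = 1
      · exact Or.inl (congrArg Subtype.val h1)
      · exact Or.inr (congrArg Subtype.val (huniq _ h1))
  have hxK : x ∉ K₂ := fun hxK₂ => by
    have heq : (stab ρ v ⊓ K₂ : Subgroup G) = stab ρ v := inf_eq_left.2 fun g hg => by
      rcases hxall g hg with rfl | rfl
      exacts [one_mem _, hxK₂]
    have h2 := hKJ v hv hv0
    rw [heq, hsv v hv0] at h2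
    have hK : Nat.card K₂ = 1 := by
      have := Nat.card_pos (α := K₁)
      rw [← hKcard]; omega
    exact hx1 (Subgroup.mem_bot.1 (Subgroup.card_eq_one.1 hK ▸ hxK₂))
  have hxC : x ∈ C := hstabC v hv hv0 hxv
  -- elements exchanging `v` and a vector moved by `x`
  have hswap : ∀ w ∈ V₂, ρ x w ≠ w → ∃ g, g ∉ C ∧ g * g = 1 ∧ ρ g v = w ∧ ρ g w = v := by
    intro w hw hxw
    have h0 : v + w ≠ 0 := fun h =>
      hv0 (split_unique ρ hq hv (zero_mem _) hw (zero_mem _) (by rw [h, add_zero])).1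
    have hc := hsv _ h0
    obtain ⟨a, ha, -⟩ := (Nat.card_eq_two_iff' (1 : stab ρ (v + w))).1 hc
    have hfix : ρ (a : G) v + ρ (a : G) w = v + w := by rw [← map_add]; exact a.2
    have haC : (a : G) ∉ C := fun haC => by
      obtain ⟨h1, h2⟩ := split_unique ρ hq (hp1 _ haC v hv) hv (hp2 _ haC w hw) hw hfix
      rcases hxall _ h1 with h | h
      · exact ha (Subtype.ext h)
      · exact hxw (h ▸ h2)
    have hsp := split_unique ρ hq (hs2 _ haC w hw) hv (hs1 _ haC v hv) hw (by rw [add_comm]; exact hfix)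
    refine ⟨a, haC, ?_, hsp.2, hsp.1⟩
    have := pow_card_eq_one' (G := stab ρ (v + w)) (x := a)
    rw [hc, pow_two] at this
    exact congrArg Subtype.val this
  -- the orbits of `C` on the non-zero vectors of `V₁`
  let W : Type _ := {u : V // u ∈ V₁ ∧ u ≠ 0}
  letI : MulAction C W :=
    { smul := fun g u => ⟨ρ (g : G) u.1, hp1 _ g.2 _ u.2.1, (ρ (g : G)).map_ne_zero_iff.2 u.2.2⟩
      one_smul := fun u => Subtype.ext (by show ρ ((1 : C) : G) u.1 = u.1; rw [Subgroup.coe_one, map_one]; rfl)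
      mul_smul := fun g h u => Subtype.ext (by
        show ρ ((g * h : C) : G) u.1 = ρ (g : G) (ρ (h : G) u.1); rw [Subgroup.coe_mul, mul_apply]) }
  set o := (MulAction.stabilizer C (⟨v, hv, hv0⟩ : W)).index with ho
  have hstW : ∀ u : W, Nat.card (MulAction.stabilizer C u) = 2 := fun u => by
    refine Eq.trans (Nat.card_congr
      ⟨fun g => (⟨(g : C), congrArg Subtype.val g.2⟩ : stab ρ u.1),
       fun g => ⟨⟨g, hstabC u.1 u.2.1 u.2.2 g.2⟩, Subtype.ext g.2⟩, fun g => rfl, fun g => rfl⟩) ?_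
    exact hsv _ u.2.2
  have hidx : ∀ u : W, (MulAction.stabilizer C u).index = o := fun u =>
    Nat.eq_of_mul_eq_mul_left two_pos
      ((congrArg (· * (MulAction.stabilizer C u).index) (hstW u)).symm.trans
        ((Subgroup.card_mul_index _).trans
          ((Subgroup.card_mul_index _).symm.trans (congrArg (· * o) (hstW ⟨v, hv, hv0⟩)))))
  have hW : Nat.card W + 1 = Nat.card V₁ := by
    rw [← Finite.card_option]
    refine Nat.card_congr (Equiv.ofBijective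
      (fun u : Option W => u.elim (0 : V₁) fun u => ⟨u.1, u.2.1⟩) ⟨?_, fun u => ?_⟩)
    · rintro (_ | a) (_ | b) h
      · rfl
      · exact absurd (congrArg Subtype.val h).symm b.2.2
      · exact absurd (congrArg Subtype.val h) a.2.2
      · exact congrArg some (Subtype.ext (congrArg Subtype.val h :))
    · by_cases h : u = 0
      · exact ⟨none, h.symm⟩
      · exact ⟨some ⟨u.1, u.2, fun h0 => h (Subtype.ext h0)⟩, rfl⟩
  have hdvd : o ∣ Nat.card W := by
    haveI : Fintype (MulAction.orbitRel.Quotient C W) := Fintype.ofFinite _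
    rw [Nat.card_congr (MulAction.selfEquivSigmaOrbitsQuotientStabilizer C W), Nat.card_sigma]
    exact Finset.dvd_sum fun ω _ => by rw [← Subgroup.index_eq_card, hidx]
  let F : Submodule (ZMod q) V := V₂ ⊓ fixSub ρ x
  have hF : 3 * Nat.card F ≤ Nat.card V₂ := by
    have hne : F.toAddSubgroup.addSubgroupOf V₂.toAddSubgroup ≠ ⊤ := by
      intro h
      refine hxK ((memK₂ x).2 fun w hw => ?_)
      have hm : (⟨w, hw⟩ : V₂.toAddSubgroup) ∈ F.toAddSubgroup.addSubgroupOf V₂.toAddSubgroup :=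
        h ▸ AddSubgroup.mem_top _
      exact (mem_fixSub ρ).1 (hm : w ∈ F).2
    have hmul := (F.toAddSubgroup.addSubgroupOf V₂.toAddSubgroup).card_mul_index
    rw [Nat.card_congr (AddSubgroup.addSubgroupOfEquivOfLe
      (show F.toAddSubgroup ≤ V₂.toAddSubgroup from fun w hw => hw.1)).toEquiv] at hmul
    have hVF : Nat.card V₂ = Nat.card F * (F.toAddSubgroup.addSubgroupOf V₂.toAddSubgroup).index :=
      hmul.symm
    set i := (F.toAddSubgroup.addSubgroupOf V₂.toAddSubgroup).index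
    have hi1 : i ≠ 1 := fun h => hne (AddSubgroup.index_eq_one.1 h)
    have hi2 : i ≠ 2 := fun h => by
      have hd : 2 ∣ Nat.card V₂ := by rw [hVF, h]; exact Dvd.intro_left _ rfl
      rw [Module.natCard_eq_pow_finrank (K := ZMod q), Nat.card_zmod] at hd
      exact hq ((Nat.prime_dvd_prime_iff_eq Nat.prime_two hqp).1 (Nat.prime_two.dvd_of_dvd_pow hd)).symm
    have hi0 : i ≠ 0 := AddSubgroup.index_ne_zero_of_finite
    rw [hVF, mul_comm (Nat.card F)]
    exact Nat.mul_le_mul_right _ (by omega)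
  have hcover : Nat.card V₂ ≤ o + Nat.card F := by
    rw [ho, MulAction.index_stabilizer, ← Nat.card_coe_set_eq, add_comm, ← Nat.card_sum]
    refine Nat.card_le_card_of_surjective
      (Sum.elim (fun w : F => (⟨w.1, w.2.1⟩ : V₂))
        fun u => ⟨ρ g₀ u.1.1, hs1 g₀ hg₀C _ u.1.2.1⟩) ?_
    rintro ⟨w, hw⟩
    by_cases hxw : ρ x w = w
    · exact ⟨Sum.inl ⟨w, hw, (mem_fixSub ρ).2 hxw⟩, rfl⟩
    · obtain ⟨g, hgC, -, hgv, -⟩ := hswap w hw hxw
      refine ⟨Sum.inr ⟨(⟨g₀⁻¹ * g, hprod _ _ hg₀inv hgC⟩ : C) • (⟨v, hv, hv0⟩ : W),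
        MulAction.mem_orbit _ _⟩, Subtype.ext ?_⟩
      show ρ g₀ (ρ (g₀⁻¹ * g) v) = w
      rw [mul_apply, apply_inv_apply, hgv]
  have hfull : o = Nat.card W := by
    obtain ⟨c, hc⟩ := hdvd
    rcases c with _ | _ | c
    · exfalso
      haveI : Nonempty W := ⟨⟨v, hv, hv0⟩⟩
      have := Nat.card_pos (α := W)
      omega
    · omega
    · exfalso
      have : 2 * o ≤ Nat.card W := by rw [hc]; nlinarith
      omega
  -- the order of `V₁` is one more than a power of two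
  obtain ⟨a, ha⟩ : ∃ a, Nat.card V₁ - 1 = 2 ^ a := by
    have h1 : Nat.card W ∣ Nat.card C := by rw [← hfull, ho]; exact Subgroup.index_dvd_card _
    obtain ⟨k, hk⟩ := IsPGroup.iff_card.1 hG
    obtain ⟨a, -, ha⟩ := (Nat.dvd_prime_pow Nat.prime_two).1 (h1.trans (hk ▸ Subgroup.card_subgroup_dvd_card C))
    exact ⟨a, by omega⟩
  have hVV : Nat.card V = Nat.card V₁ * Nat.card V₁ := by
    rw [card_eq_mul ρ hq he2]; exact congrArg (Nat.card V₁ * ·) hQ
  set d := Module.finrank (ZMod q) V₁ with hd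
  have hd' : Nat.card V₁ = q ^ d := by
    rw [hd, Module.natCard_eq_pow_finrank (K := ZMod q), Nat.card_zmod]
  have hd0 : d ≠ 0 := fun h => by
    have := Nat.card_eq_one_iff_unique.1 (hd'.trans (by rw [h, pow_zero]))
    exact hv0 (congrArg Subtype.val (this.1.elim (⟨v, hv⟩ : V₁) 0))
  rcases CfsgLib.Rec.TransVec.odd_prime_pow_eq hqp (hqp.odd_of_ne_two hq) hd0 (hd' ▸ ha) with hd1 | ⟨hq3, hd2⟩
  swap
  · exact Or.inr ⟨by rw [hVV, hd', hq3, hd2]; norm_num, hq3⟩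
  rw [hd1, pow_one] at hd'
  left
  refine ⟨by rw [hVV, hd', sq], ⟨a, by have := hqp.two_le; omega⟩, ?_⟩
  have hline₁ : ∀ u ∈ V₁, ∃ c : ZMod q, c • v = u := by
    have hb : Function.Bijective (fun c : ZMod q => (⟨c • v, Submodule.smul_mem _ c hv⟩ : V₁)) :=
      (Nat.bijective_iff_injective_and_card _).2
        ⟨fun a b h => smul_left_injective (ZMod q) hv0 (congrArg Subtype.val h),
          by rw [Nat.card_zmod, hd']⟩
    intro u hu
    obtain ⟨c, hc⟩ := hb.2 ⟨u, hu⟩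
    exact ⟨c, congrArg Subtype.val hc⟩
  obtain ⟨w, hw, hw0⟩ := hV₂
  have hline₂ : ∀ u ∈ V₂, ∃ c : ZMod q, c • w = u := by
    have hb : Function.Bijective (fun c : ZMod q => (⟨c • w, Submodule.smul_mem _ c hw⟩ : V₂)) :=
      (Nat.bijective_iff_injective_and_card _).2
        ⟨fun a b h => smul_left_injective (ZMod q) hw0 (congrArg Subtype.val h),
          by rw [Nat.card_zmod, hQ, hd']⟩
    intro u hu
    obtain ⟨c, hc⟩ := hb.2 ⟨u, hu⟩
    exact ⟨c, congrArg Subtype.val hc⟩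
  -- `x` negates `w`
  have hxw : ρ x w = -w := by
    obtain ⟨b, hb⟩ := hline₂ _ (hp2 x hxC w hw)
    have hb2 : b * b = 1 := smul_left_injective (ZMod q) hw0 (by
      show (b * b) • w = (1 : ZMod q) • w
      rw [one_smul, mul_smul, hb, ← map_smul, hb, sq_apply ρ hx2])
    rcases mul_self_eq_one_iff.1 hb2 with rfl | rfl
    · exfalso
      refine hxK ((memK₂ x).2 fun u hu => ?_)
      obtain ⟨c, rfl⟩ := hline₂ u hu
      rw [map_smul, ← hb, one_smul]
    · rw [← hb, neg_one_smul]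
  have hmoves : ∀ t : ZMod q, t ≠ 0 → ρ x (t • w) ≠ t • w := fun t ht h => by
    rw [map_smul, hxw, smul_neg, neg_eq_iff_add_eq_zero] at h
    exact smul_ne_zero ht hw0 (two_smul_cancel hq h)
  obtain ⟨g₁, hg₁C, hg₁2, hg₁v, hg₁w⟩ := hswap _ (Submodule.smul_mem _ (1 : ZMod q) hw) (hmoves 1 one_ne_zero)
  rw [one_smul] at hg₁v hg₁w
  have hdiag : ∀ t : ZMod q, t ≠ 0 → ∃ g ∈ C, ρ g v = t • v ∧ ρ g w = t⁻¹ • w := by
    intro t ht
    obtain ⟨g, hgC, -, hgv, hgw⟩ := hswap _ (Submodule.smul_mem _ t⁻¹ hw) (hmoves _ (inv_ne_zero ht))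
    refine ⟨g * g₁, hprod _ _ hgC hg₁C, ?_, by rw [mul_apply, hg₁w, hgv]⟩
    rw [map_smul] at hgw
    rw [mul_apply, hg₁v, ← hgw, smul_smul, mul_inv_cancel₀ ht, one_smul]
  have hform : ∀ g ∈ C, ∃ a s : ZMod q, a ≠ 0 ∧ (s = 1 ∨ s = -1) ∧
      ρ g v = a • v ∧ ρ g w = (s * a⁻¹) • w := by
    intro g hg
    obtain ⟨c, hc⟩ := hline₁ _ (hp1 g hg v hv)
    have hc0 : c ≠ 0 := fun h => hv0 (by
      rw [h, zero_smul] at hc
      exact (ρ g).map_eq_zero_iff.1 hc.symm)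
    obtain ⟨d, -, hdv, hdw⟩ := hdiag c hc0
    have hst : ρ (d⁻¹ * g) v = v := by rw [mul_apply, ← hc, ← hdv, inv_apply_apply]
    rcases hxall _ hst with h | h
    · refine ⟨c, 1, hc0, Or.inl rfl, hc.symm, ?_⟩
      rw [inv_mul_eq_one.1 h] at hdw
      rw [one_mul]; exact hdw
    · refine ⟨c, -1, hc0, Or.inr rfl, hc.symm, ?_⟩
      rw [inv_mul_eq_iff_eq_mul.1 h, mul_apply, hxw, map_neg, hdw, neg_one_mul, neg_smul]
  obtain ⟨E, hE⟩ := exists_equiv_of_axes (u := v) (w := w) (by rw [hVV, hd', sq]) (fun a b h => by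
    obtain ⟨h1, h2⟩ := split_unique ρ hq (Submodule.smul_mem _ a hv) (zero_mem _)
      (Submodule.smul_mem _ b hw) (zero_mem _) (by rw [h, add_zero])
    exact ⟨(smul_eq_zero.1 h1).resolve_right hv0, (smul_eq_zero.1 h2).resolve_right hw0⟩)
  have hEv : E v = ![1, 0] := (E.symm_apply_eq.1 (by simp [hE])).symm
  have hEw : E w = ![0, 1] := (E.symm_apply_eq.1 (by simp [hE])).symm
  refine ⟨E, fun f => ⟨?_, ?_⟩⟩
  · rintro ⟨g, rfl⟩
    by_cases hg : g ∈ C
    · obtain ⟨c, t, hc0, ht, h1, h2⟩ := hform g hg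
      refine ⟨c, t, hc0, ht, Or.inl fun u => E.symm.injective ?_⟩
      simp only [LinearEquiv.trans_apply, LinearEquiv.symm_apply_apply, hE, map_add, map_smul, h1, h2,
        smul_smul, Matrix.cons_val_zero, Matrix.cons_val_one, mul_comm, hEv, hEw, Pi.add_apply, Pi.smul_apply,
        smul_eq_mul, mul_one, one_mul, mul_zero, zero_mul, add_zero, zero_add]
    · obtain ⟨c, t, hc0, ht, h1, h2⟩ := hform (g₁ * g) (hprod _ _ hg₁C hg)
      have hg' : g = g₁ * (g₁ * g) := by rw [← mul_assoc, hg₁2, one_mul]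
      have h1' : ρ g v = c • w := by rw [hg', mul_apply, h1, map_smul, hg₁v]
      have h2' : ρ g w = (t * c⁻¹) • v := by rw [hg', mul_apply, h2, map_smul, hg₁w]
      refine ⟨c, t, hc0, ht, Or.inr fun u => E.symm.injective ?_⟩
      simp only [LinearEquiv.trans_apply, LinearEquiv.symm_apply_apply, hE, map_add, map_smul, h1', h2',
        smul_smul, Matrix.cons_val_zero, Matrix.cons_val_one, mul_comm, hEv, hEw, Pi.add_apply, Pi.smul_apply,
        smul_eq_mul, mul_one, one_mul, mul_zero, zero_mul, add_zero, zero_add]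
  · rintro ⟨c, t, hc0, ht, hf⟩
    obtain ⟨d, hdC, hdv, hdw⟩ := hdiag c hc0
    obtain ⟨k, hkv, hkw⟩ : ∃ k : G, ρ k v = c • v ∧ ρ k w = (t * c⁻¹) • w := by
      rcases ht with rfl | rfl
      · exact ⟨d, hdv, by rw [one_mul]; exact hdw⟩
      · exact ⟨d * x, by rw [mul_apply, hxv, hdv],
          by rw [mul_apply, hxw, map_neg, hdw, neg_one_mul, neg_smul]⟩
    rcases hf with hf | hf
    · refine ⟨k, LinearEquiv.ext fun u => E.symm.injective ?_⟩
      simp only [LinearEquiv.trans_apply, LinearEquiv.symm_apply_apply, hf, hE, map_add, map_smul, hkv, hkw,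
        smul_smul, Matrix.cons_val_zero, Matrix.cons_val_one, mul_comm, hEv, hEw, Pi.add_apply, Pi.smul_apply,
        smul_eq_mul, mul_one, one_mul, mul_zero, zero_mul, add_zero, zero_add]
    · refine ⟨g₁ * k, LinearEquiv.ext fun u => E.symm.injective ?_⟩
      simp only [LinearEquiv.trans_apply, LinearEquiv.symm_apply_apply, hf, hE, map_add, map_smul, mul_apply,
        hkv, hkw, hg₁v, hg₁w, smul_smul, Matrix.cons_val_zero, Matrix.cons_val_one, mul_comm, hEv, hEw, Pi.add_apply, Pi.smul_apply,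
        smul_eq_mul, mul_one, one_mul, mul_zero, zero_mul, add_zero, zero_add]

end CfsgLib.Rec.HalfTrans
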