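import Mathlib
import Cfsg.Prelude.Def_CaseTheorems
import Cfsg.Agent.Lib.Rec.HalfTransRep
import Cfsg.Agent.Lib.Classical.Dihedral
import Cfsg.Agent.S1160

/-!
Half transitive p-groups of linear maps.
-/

set_option autoImplicit false

namespace CfsgLib.Rec.HalfTrans

variable {q : ℕ} [Fact q.Prime] {V : Type*} [AddCommGroup V] [Module (ZMod q) V]
  {G : Type*} [Group G] (ρ : G →* (V ≃ₗ[ZMod q] V))

theorem stab_card_eq [Finite V] [Finite G]
    (hhalf : ∀ v w : V, v ≠ 0 → w ≠ 0 →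
      Nat.card {u : V | ∃ g : G, ρ g v = u} = Nat.card {u : V | ∃ g : G, ρ g w = u})
    (v w : V) (hv : v ≠ 0) (hw : w ≠ 0) : Nat.card (stab ρ v) = Nat.card (stab ρ w) := by
  letI : MulAction G V := MulAction.compHom V ρ
  have key : ∀ u : V, Nat.card (stab ρ u) * Nat.card {x : V | ∃ g : G, ρ g u = x} = Nat.card G := by
    intro u
    rw [← (MulAction.stabilizer G u).card_mul_index, MulAction.index_stabilizer,
      ← Nat.card_coe_set_eq]
    rfl
  have h := key v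
  rw [hhalf v w hv hw, ← key w] at h
  haveI : Nonempty {x : V | ∃ g : G, ρ g w = x} := ⟨⟨w, 1, by rw [map_one]; rfl⟩⟩
  exact Nat.eq_of_mul_eq_mul_right Nat.card_pos h

/-- In a cyclic 2-group there is one involution. -/
theorem invol_zpowers {a z y : G} {n : ℕ} (hn : 1 ≤ n) (ha : orderOf a = 2 ^ n)
    (hza : z = a ^ (2 ^ (n - 1))) (hy : y ∈ Subgroup.zpowers a) (hy2 : y * y = 1) : y = 1 ∨ y = z := by
  obtain ⟨i, rfl⟩ := Subgroup.mem_zpowers_iff.1 hy
  rw [← zpow_add, ← orderOf_dvd_iff_zpow_eq_one, ha] at hy2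
  obtain ⟨j, rfl⟩ : ((2 ^ (n - 1) : ℕ) : ℤ) ∣ i := by
    refine Int.dvd_of_mul_dvd_mul_left (two_ne_zero : (2 : ℤ) ≠ 0) ?_
    rw [show (2 : ℤ) * ((2 ^ (n - 1) : ℕ) : ℤ) = ((2 ^ n : ℕ) : ℤ) by
      push_cast; rw [← pow_succ', Nat.sub_add_cancel hn], two_mul]
    exact hy2
  rw [zpow_mul, zpow_natCast, ← hza]
  have hz2 : z * z = 1 := by
    rw [hza, ← pow_add, ← two_mul, ← pow_succ', Nat.sub_add_cancel hn, ← ha, pow_orderOf_eq_one]
  exact eq_or_eq_of_mem_zpowers hz2 (zpow_mem (Subgroup.mem_zpowers z) j)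

/-- The case without normal four subgroups. -/
theorem maximal_class [Finite V] [Finite G] (hG : IsPGroup 2 G) (hρ : Function.Injective ρ) (hq : q ≠ 2)
    (hs : ∀ v w : V, v ≠ 0 → w ≠ 0 → Nat.card (stab ρ v) = Nat.card (stab ρ w))
    (hns : ∃ (v : V) (g : G), v ≠ 0 ∧ ρ g v = v ∧ g ≠ 1)
    {z : G} (hz : ∀ v : V, ρ z v = -v) (hz1 : z ≠ 1)
    (hno : ∀ e : G, e * e = 1 → (∀ g : G, g * e * g⁻¹ = e ∨ g * e * g⁻¹ = e * z) → e = 1 ∨ e = z) :
    Nat.card V = q ^ 2 ∧ ∃ m : ℕ, q = 2 ^ m - 1 ∧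
      (Nonempty (G ≃* DihedralGroup (2 ^ m)) ∨ (Cfsg.IsQuasiDihedral G ∧ Nat.card G = 2 ^ (m + 2))) := by
  classical
  haveI : Fact (Nat.Prime 2) := ⟨Nat.prime_two⟩
  have hqp : q.Prime := Fact.out
  have hz2 : z * z = 1 := eq_one_of_fix ρ hρ fun v => by rw [mul_apply, hz, hz, neg_neg]
  have hzc : ∀ g : G, g * z = z * g := fun g => hρ (LinearEquiv.ext fun v => by
    rw [mul_apply, mul_apply, hz, hz, map_neg])
  have hzfix : ∀ v : V, ρ z v = v → v = 0 := fun v h => by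
    rw [hz] at h
    exact two_smul_cancel hq (neg_eq_iff_add_eq_zero.1 h)
  obtain ⟨v₀, k₀, hv₀, hk₀, hk₀1⟩ := hns
  -- an involution fixing a vector
  obtain ⟨b, hbv, hb2, hb1⟩ : ∃ b : G, ρ b v₀ = v₀ ∧ b * b = 1 ∧ b ≠ 1 := by
    obtain ⟨f, hf⟩ := IsPGroup.iff_orderOf.1 hG k₀
    have hf0 : 1 ≤ f := by
      by_contra h
      rw [show f = 0 by omega, pow_zero, orderOf_eq_one_iff] at hf
      exact hk₀1 hf
    refine ⟨k₀ ^ (2 ^ (f - 1)),
      (pow_mem (hk₀ : k₀ ∈ stab ρ v₀) _ : k₀ ^ (2 ^ (f - 1)) ∈ stab ρ v₀), ?_, fun h => ?_⟩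
    · rw [← pow_add, ← two_mul, ← pow_succ', Nat.sub_add_cancel hf0, ← hf, pow_orderOf_eq_one]
    · have := orderOf_dvd_of_pow_eq_one h
      rw [hf, Nat.pow_dvd_pow_iff_le_right one_lt_two] at this
      omega
  have hbz : b ≠ z := fun h => hv₀ (hzfix v₀ (h ▸ hbv))
  obtain ⟨n, a, hn, hoa, hza, hbA, hcard, hcover, hout⟩ :=
    structure_no_normal_four hG hz2 hz1 hzc hb2 hb1 hbz hno
  have hsemi : ∀ g ∈ Subgroup.zpowers a, ∀ v : V, v ≠ 0 → ρ g v = v → g = 1 := by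
    intro g hg v hv hgv
    by_contra hg1
    obtain ⟨f, hf⟩ := IsPGroup.iff_orderOf.1 hG g
    have hf0 : 1 ≤ f := by
      by_contra h
      rw [show f = 0 by omega, pow_zero, orderOf_eq_one_iff] at hf
      exact hg1 hf
    rcases invol_zpowers (by omega) hoa hza (pow_mem hg (2 ^ (f - 1))) (by
      rw [← pow_add, ← two_mul, ← pow_succ', Nat.sub_add_cancel hf0, ← hf, pow_orderOf_eq_one]) with h | h
    · have := orderOf_dvd_of_pow_eq_one h
      rw [hf, Nat.pow_dvd_pow_iff_le_right one_lt_two] at this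
      omega
    · exact hv (hzfix v (h ▸ (pow_mem (hgv : g ∈ stab ρ v) _ : g ^ (2 ^ (f - 1)) ∈ stab ρ v)))
  have hdiv : ∀ g g' : G, g ∉ Subgroup.zpowers a → g' ∉ Subgroup.zpowers a →
      g * g'⁻¹ ∈ Subgroup.zpowers a := by
    intro g g' hg hg'
    obtain ⟨i, rfl⟩ := (hcover g).resolve_left hg
    obtain ⟨j, rfl⟩ := (hcover g').resolve_left hg'
    rw [show a ^ i * b * (a ^ j * b)⁻¹ = a ^ i * (a ^ j)⁻¹ by group]
    exact mul_mem (zpow_mem (Subgroup.mem_zpowers a) i) (inv_mem (zpow_mem (Subgroup.mem_zpowers a) j))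
  let I : Set G := {c | c ∉ Subgroup.zpowers a ∧ c * c = 1}
  -- every non-zero vector is fixed by exactly one of these involutions
  have hstab : ∀ v : V, v ≠ 0 → ∃ c ∈ I, ρ c v = v ∧ ∀ c' ∈ I, ρ c' v = v → c' = c := by
    intro v hv
    have hone : 1 < Nat.card (stab ρ v) := by
      rw [hs v v₀ hv hv₀, Finite.one_lt_card_iff_nontrivial, Subgroup.nontrivial_iff_ne_bot]
      exact fun h => hk₀1 (Subgroup.mem_bot.1 (h ▸ (hk₀ : k₀ ∈ stab ρ v₀)))
    haveI := Finite.one_lt_card_iff_nontrivial.1 hone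
    obtain ⟨⟨c, hcv⟩, hc1⟩ := exists_ne (1 : stab ρ v)
    have hc1' : c ≠ 1 := fun h => hc1 (Subtype.ext h)
    have hcA : c ∉ Subgroup.zpowers a := fun h => hc1' (hsemi c h v hv hcv)
    have huniq : ∀ c' : G, c' ∉ Subgroup.zpowers a → ρ c' v = v → c' = c := fun c' hA hfix =>
      mul_inv_eq_one.1 (hsemi _ (hdiv c' c hA hcA) v hv
        (mul_mem (hfix : c' ∈ stab ρ v) (inv_mem hcv) : c' * c⁻¹ ∈ stab ρ v))
    refine ⟨c, ⟨hcA, ?_⟩, hcv, fun c' hc' => huniq c' hc'.1⟩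
    have hci : c⁻¹ = c := huniq c⁻¹ (fun h => hcA (inv_inv c ▸ inv_mem h)) (inv_mem hcv : c⁻¹ ∈ stab ρ v)
    nth_rewrite 1 [← hci]; exact inv_mul_cancel c
  -- the fixed space and the negated space have the same size
  obtain ⟨N, hN⟩ : ∃ N, ∀ c ∈ I, Nat.card (fixSub ρ c) = N ∧ Nat.card V = N * N := by
    have key : ∀ c ∈ I, Nat.card V = Nat.card (fixSub ρ c) * Nat.card (fixSub ρ c) := by
      intro c hc
      rw [card_eq_mul ρ hq hc.2]
      congr 1
      set w := a ^ (2 ^ (n - 2)) with hw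
      have hww : w * w = z := by
        rw [hw, hza, ← pow_add, ← two_mul, ← pow_succ', show n - 2 + 1 = n - 1 by omega]
      have hcw : c * w * c⁻¹ = w⁻¹ := by
        rw [hw, ← conj_pow]
        rcases hout c hc.1 with h | h <;> rw [h]
        · rw [inv_pow]
        · rw [(show Commute a⁻¹ z from hzc a⁻¹).mul_pow, inv_pow]
          obtain ⟨j, hj⟩ : 2 ∣ 2 ^ (n - 2) := dvd_pow_self 2 (by omega)
          rw [hj, pow_mul z, pow_two z, hz2, one_pow, mul_one]
      have hconj : w * c * w⁻¹ = z * c := by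
        rw [show w * c * w⁻¹ = w * (c * w * c⁻¹)⁻¹ * c by group, hcw, inv_inv, hww]
      have hto : ∀ v ∈ fixSub ρ c, ρ w v ∈ negSub ρ c := fun v hv => by
        have h1 : ρ (w * c * w⁻¹) (ρ w v) = ρ w v := by
          rw [← mul_apply, inv_mul_cancel_right, mul_apply, (mem_fixSub ρ).1 hv]
        rw [hconj, mul_apply, hz, neg_eq_iff_eq_neg] at h1
        exact (mem_negSub ρ).2 h1
      have hfrom : ∀ v ∈ negSub ρ c, ρ w⁻¹ v ∈ fixSub ρ c := fun v hv => by
        rw [mem_fixSub, ← mul_apply]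
        have h1 : ρ (w * c * w⁻¹) v = v := by
          rw [hconj, mul_apply, (mem_negSub ρ).1 hv, hz, neg_neg]
        conv_rhs => rw [← h1]
        rw [← mul_apply, show w⁻¹ * (w * c * w⁻¹) = c * w⁻¹ by group]
      exact (Nat.card_congr ⟨fun v => ⟨ρ w v.1, hto v.1 v.2⟩, fun v => ⟨ρ w⁻¹ v.1, hfrom v.1 v.2⟩,
        fun v => Subtype.ext (inv_apply_apply ρ w v.1),
        fun v => Subtype.ext (apply_inv_apply ρ w v.1)⟩).symm
    refine ⟨Nat.card (fixSub ρ b), fun c hc => ?_⟩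
    have h1 := key b ⟨hbA, hb2⟩
    refine ⟨Nat.mul_self_inj.1 ((key c hc).symm.trans h1), h1⟩
  obtain ⟨hNb, hVN⟩ := hN b ⟨hbA, hb2⟩
  have hN1 : 1 < N := by
    rw [← hNb, Finite.one_lt_card_iff_nontrivial]
    exact nontrivial_of_ne (⟨v₀, (mem_fixSub ρ).2 hbv⟩ : fixSub ρ b) 0 fun h => hv₀ (congrArg Subtype.val h)
  have hnz : ∀ (W : Submodule (ZMod q) V), Nat.card W = Nat.card {v : V // v ∈ W ∧ v ≠ 0} + 1 := by
    intro W
    rw [← Finite.card_option]
    refine (Nat.card_congr (Equiv.ofBijective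
      (fun u : Option {v : V // v ∈ W ∧ v ≠ 0} => u.elim (0 : W) fun u => ⟨u.1, u.2.1⟩) ⟨?_, fun u => ?_⟩)).symm
    · rintro (_ | x) (_ | y) h
      · rfl
      · exact absurd (congrArg Subtype.val h).symm y.2.2
      · exact absurd (congrArg Subtype.val h) x.2.2
      · exact congrArg some (Subtype.ext (congrArg Subtype.val h :))
    · by_cases h : u = 0
      · exact ⟨none, h.symm⟩
      · exact ⟨some ⟨u.1, u.2, fun h0 => h (Subtype.ext h0)⟩, rfl⟩
  have hI : Nat.card I = N + 1 := by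
    have hcount : Nat.card V = Nat.card (Σ c : I, {v : V // v ∈ fixSub ρ (c : G) ∧ v ≠ 0}) + 1 := by
      rw [← Finite.card_option]
      refine (Nat.card_congr (Equiv.ofBijective
        (fun u : Option (Σ c : I, {v : V // v ∈ fixSub ρ (c : G) ∧ v ≠ 0}) =>
          u.elim (0 : V) fun u => u.2.1) ⟨?_, fun v => ?_⟩)).symm
      · rintro (_ | ⟨c, x⟩) (_ | ⟨c', y⟩) h
        · rfl
        · exact absurd h.symm y.2.2
        · exact absurd h x.2.2
        · obtain ⟨x, hx, hx0⟩ := x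
          obtain ⟨y, hy, hy0⟩ := y
          have hxy : x = y := h
          subst hxy
          obtain ⟨d, -, -, hd⟩ := hstab x hx0
          have hcc : c = c' := Subtype.ext
            ((hd c c.2 ((mem_fixSub ρ).1 hx)).trans (hd c' c'.2 ((mem_fixSub ρ).1 hy)).symm)
          subst hcc
          rfl
      · by_cases h : v = 0
        · exact ⟨none, h.symm⟩
        · obtain ⟨c, hc, hcv, -⟩ := hstab v h
          exact ⟨some ⟨⟨c, hc⟩, v, (mem_fixSub ρ).2 hcv, h⟩, rfl⟩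
    haveI : Fintype I := Fintype.ofFinite _
    have hsum : Nat.card (Σ c : I, {v : V // v ∈ fixSub ρ (c : G) ∧ v ≠ 0}) = Nat.card I * (N - 1) := by
      rw [Nat.card_sigma, Finset.sum_congr rfl (g := fun _ => N - 1)
        (fun c _ => by have := hnz (fixSub ρ (c : G)); rw [(hN c c.2).1] at this; omega),
        Finset.sum_const, Finset.card_univ, smul_eq_mul, Nat.card_eq_fintype_card]
    rw [hVN, hsum] at hcount
    refine Nat.eq_of_mul_eq_mul_right (show 0 < N - 1 by omega) ?_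
    obtain ⟨M, rfl⟩ : ∃ M, N = M + 1 := ⟨N - 1, by omega⟩
    rw [Nat.add_sub_cancel] at hcount ⊢
    linarith
  -- the two types
  have hNpow : Nat.card (fixSub ρ b) = q ^ Module.finrank (ZMod q) (fixSub ρ b) := by
    rw [Module.natCard_eq_pow_finrank (K := ZMod q), Nat.card_zmod]
  set d := Module.finrank (ZMod q) (fixSub ρ b)
  rw [hNb] at hNpow
  have hd0 : d ≠ 0 := fun h => by rw [h, pow_zero] at hNpow; omega
  have hfinish : ∀ k : ℕ, Nat.card I = 2 ^ k → Nat.card V = q ^ 2 ∧ q = 2 ^ k - 1 := by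
    intro k hk
    have h3 : 3 ≤ N := by
      have := Nat.le_self_pow hd0 q
      have := hqp.two_le
      omega
    have hk2 : 2 ≤ k := by
      by_contra hlt
      have : 2 ^ k ≤ 2 ^ 1 := Nat.pow_le_pow_right two_pos (by omega)
      omega
    have hd1 := CfsgLib.Rec.TransVec.exp_one_of_two_pow_sub_one hqp hk2 hd0 (by rw [← hNpow]; omega)
    rw [hd1, pow_one] at hNpow
    exact ⟨by rw [hVN, hNpow, sq], by omega⟩
  rcases hout b hbA with hb | hb
  · have hIeq : Nat.card I = 2 ^ n := by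
      rw [← hoa, ← Nat.card_zpowers]
      refine (Nat.card_congr (Equiv.ofBijective
        (fun x : Subgroup.zpowers a => (⟨x * b, fun h => hbA ((Subgroup.mul_mem_cancel_left _ x.2).1 h), ?_⟩ : I))
        ⟨fun x y h => Subtype.ext (mul_right_cancel (congrArg Subtype.val h)), ?_⟩)).symm
      · obtain ⟨i, hi⟩ := Subgroup.mem_zpowers_iff.1 x.2
        rw [← hi, show a ^ i * b * (a ^ i * b) = a ^ i * (b * a ^ i * b⁻¹) * (b * b) by group, ← conj_zpow,
          hb, hb2, mul_one, inv_zpow, mul_inv_cancel]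
      · rintro ⟨c, hc, -⟩
        obtain ⟨i, rfl⟩ := (hcover c).resolve_left hc
        exact ⟨⟨_, zpow_mem (Subgroup.mem_zpowers a) i⟩, rfl⟩
    obtain ⟨h1, h2⟩ := hfinish n hIeq
    exact ⟨h1, n, h2, Or.inl (CfsgLib.Classical.nonempty_mulEquiv_dihedralGroup (pow_pos two_pos n) hoa hb2 hb hbA
      (by rw [hcard, pow_succ']))⟩
  · have hza2 : a⁻¹ * z = a ^ (2 ^ (n - 1) - 1) := by
      rw [hza, pow_sub a Nat.one_le_two_pow, pow_one]
      exact ((Commute.refl a).inv_left.pow_right _).eq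
    have hsq : ∀ i : ℤ, a ^ i * b * (a ^ i * b) = z ^ i := fun i => by
      rw [show a ^ i * b * (a ^ i * b) = a ^ i * (b * a ^ i * b⁻¹) * (b * b) by group, ← conj_zpow,
        hb, hb2, mul_one, (show Commute a⁻¹ z from hzc a⁻¹).mul_zpow, inv_zpow, mul_inv_cancel_left]
    have hz2' : z ^ (2 : ℤ) = 1 := by rw [zpow_two, hz2]
    have hIeq : Nat.card I = 2 ^ (n - 1) := by
      have ho : orderOf (a ^ 2) = 2 ^ (n - 1) := by
        rw [orderOf_pow' a two_ne_zero, hoa, Nat.gcd_eq_right (dvd_pow_self 2 (by omega))]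
        obtain ⟨m, rfl⟩ : ∃ m, n = m + 1 := ⟨n - 1, by omega⟩
        rw [Nat.add_sub_cancel, pow_succ, Nat.mul_div_cancel _ two_pos]
      rw [← ho, ← Nat.card_zpowers]
      refine (Nat.card_congr (Equiv.ofBijective
        (fun x : Subgroup.zpowers (a ^ 2) => (⟨x * b, fun h => hbA ((Subgroup.mul_mem_cancel_left _
          (Subgroup.zpowers_le.2 (pow_mem (Subgroup.mem_zpowers a) 2) x.2)).1 h), ?_⟩ : I))
        ⟨fun x y h => Subtype.ext (mul_right_cancel (congrArg Subtype.val h)), ?_⟩)).symm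
      · obtain ⟨i, hi⟩ := Subgroup.mem_zpowers_iff.1 x.2
        rw [← hi, ← zpow_natCast, ← zpow_mul, hsq, zpow_mul]
        rw [show ((2 : ℕ) : ℤ) = 2 from rfl, hz2', one_zpow]
      · rintro ⟨c, hc, hc2⟩
        obtain ⟨i, rfl⟩ := (hcover c).resolve_left hc
        rw [hsq] at hc2
        rcases Int.even_or_odd' i with ⟨j, rfl | rfl⟩
        · exact ⟨⟨_, zpow_mem (Subgroup.mem_zpowers (a ^ 2)) j⟩, Subtype.ext
            (by show (a ^ 2) ^ j * b = a ^ (2 * j) * b; rw [← zpow_natCast, ← zpow_mul]; rfl)⟩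
        · exact absurd (by rwa [zpow_add, zpow_mul, hz2', one_zpow, one_mul, zpow_one] at hc2) hz1
    obtain ⟨h1, h2⟩ := hfinish (n - 1) hIeq
    refine ⟨h1, n - 1, h2, Or.inr ⟨⟨n, hn, hcard, a, b, hoa, orderOf_eq_prime (by rw [pow_two, hb2]) hb1,
      hb.trans hza2⟩, by rw [hcard, show n - 1 + 2 = n + 1 by omega]⟩⟩

/-- Semiregular p-groups of linear maps are cyclic or quaternion. -/
theorem cyclic_or_quaternion [Finite G] (hG : IsPGroup 2 G) (hρ : Function.Injective ρ) (hq : q ≠ 2)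
    (hsr : ∀ v : V, v ≠ 0 → ∀ g : G, ρ g v = v → g = 1) :
    IsCyclic G ∨ ∃ n : ℕ, Nonempty (G ≃* QuaternionGroup n) := by
  haveI : Fact (Nat.Prime 2) := ⟨Nat.prime_two⟩
  rcases subsingleton_or_nontrivial G with h | h
  · exact Or.inl inferInstance
  obtain ⟨z, hz⟩ := exists_prime_orderOf_dvd_card' 2 (G := G) (by
    obtain ⟨k, hk, hkc⟩ := hG.nontrivial_iff_card.1 h
    rw [hkc]; exact dvd_pow_self 2 (by omega))
  have hz2 : z ^ 2 = 1 := hz ▸ pow_orderOf_eq_one z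
  have hneg : ∀ y : G, y ^ 2 = 1 → y ≠ 1 → ∀ v : V, ρ y v = -v := by
    intro y hy hy1 v
    rw [pow_two] at hy
    obtain ⟨x, hx, w, hw, rfl⟩ := exists_split ρ hq hy v
    by_cases hx0 : x = 0
    · rw [hx0, zero_add]; exact (mem_negSub ρ).1 hw
    · exact absurd (hsr x hx0 y ((mem_fixSub ρ).1 hx)) hy1
  have huniq : ∀ y : G, y ^ 2 = 1 → y ∈ Subgroup.zpowers z := by
    intro y hy
    by_cases hy1 : y = 1
    · rw [hy1]; exact one_mem _
    · have : y = z := hρ (LinearEquiv.ext fun v => by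
        rw [hneg y hy hy1, hneg z hz2 (fun h => by simp [h] at hz)])
      rw [this]; exact Subgroup.mem_zpowers z
  rcases CfsgLib.PGroups.isCyclic_or_quaternion_of_unique hG hz2 huniq with h | ⟨-, m, -, hm⟩
  · exact Or.inl h
  · exact Or.inr ⟨2 ^ m, hm⟩

theorem main [Finite V] [Nontrivial V] [Finite G] (p : ℕ) [Fact p.Prime] (hG : IsPGroup p G)
    (hρ : Function.Injective ρ)
    (hhalf : ∀ v w : V, v ≠ 0 → w ≠ 0 →
      Nat.card {u : V | ∃ g : G, ρ g v = u} = Nat.card {u : V | ∃ g : G, ρ g w = u}) :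
    ((IsCyclic G ∨ ∃ n : ℕ, Nonempty (G ≃* QuaternionGroup n)) ∧ ∀ v : V, v ≠ 0 → ∀ g : G, ρ g v = v → g = 1) ∨
    (Nat.card V = q ^ 2 ∧ ∃ m : ℕ, q = 2 ^ m - 1 ∧
      (Nonempty (G ≃* DihedralGroup (2 ^ m)) ∨ (Cfsg.IsQuasiDihedral G ∧ Nat.card G = 2 ^ (m + 2)))) ∨
    (Nat.card V = q ^ 2 ∧ (∃ m : ℕ, q = 2 ^ m + 1) ∧
      ∃ e : V ≃ₗ[ZMod q] (Fin 2 → ZMod q), ∀ f : (Fin 2 → ZMod q) ≃ₗ[ZMod q] (Fin 2 → ZMod q),
        (∃ g : G, f = e.symm.trans ((ρ g).trans e)) ↔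
        ∃ a s : ZMod q, a ≠ 0 ∧ (s = 1 ∨ s = -1) ∧
          ((∀ v, f v = ![a * v 0, s * a⁻¹ * v 1]) ∨ (∀ v, f v = ![s * a⁻¹ * v 1, a * v 0]))) ∨
    (Nat.card V = 81 ∧ q = 3 ∧ p = 2) := by
  classical
  have hs := stab_card_eq ρ hhalf
  have hqp : q.Prime := Fact.out
  by_cases hp2 : p = 2
  swap
  · left
    letI : DistribMulAction G V :=
      { smul := fun g v => ρ g v
        one_smul := fun v => by show ρ 1 v = v; rw [map_one]; rfl
        mul_smul := fun g h v => mul_apply ρ g h v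
        smul_zero := fun g => map_zero (ρ g)
        smul_add := fun g => map_add (ρ g) }
    haveI : FaithfulSMul G V := ⟨fun {g h} hgh => hρ (LinearEquiv.ext hgh)⟩
    obtain ⟨hc, hfree⟩ := Cfsg.Agent.S1160.result (P := G) (E := V) hp2 hG hqp
      (fun e => by rw [← Nat.cast_smul_eq_nsmul (ZMod q), ZMod.natCast_self, zero_smul])
      (fun a b ha hb => hs a b ha hb)
    exact ⟨Or.inl hc, fun v hv g hg => by_contra fun hg1 => hv (hfree g hg1 v hg)⟩
  subst hp2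
  by_cases hsr : ∀ v : V, v ≠ 0 → ∀ g : G, ρ g v = v → g = 1
  · left
    refine ⟨?_, hsr⟩
    by_cases hq : q = 2
    · left
      subst hq
      obtain ⟨v, hv⟩ := exists_ne (0 : V)
      letI : MulAction G V := MulAction.compHom V ρ
      have hmod := hG.card_modEq_card_fixedPoints (α := V)
      have heven : 2 ∣ Nat.card V := by
        rw [Module.natCard_eq_pow_finrank (K := ZMod 2), Nat.card_zmod]
        exact dvd_pow_self 2 Module.finrank_pos.ne'
      have hfix : 2 ∣ Nat.card (MulAction.fixedPoints G V) :=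
        (Nat.modEq_zero_iff_dvd).1 (hmod.symm.trans ((Nat.modEq_zero_iff_dvd).2 heven))
      haveI : Nonempty (MulAction.fixedPoints G V) := ⟨⟨0, fun g => map_zero (ρ g)⟩⟩
      have h2 : 2 ≤ Nat.card (MulAction.fixedPoints G V) := Nat.le_of_dvd Nat.card_pos hfix
      haveI := Finite.one_lt_card_iff_nontrivial.1 h2
      obtain ⟨⟨w, hw⟩, hw0⟩ := exists_ne (⟨0, fun g => map_zero (ρ g)⟩ : MulAction.fixedPoints G V)
      haveI : Subsingleton G := ⟨fun g h => (hsr w (fun e => hw0 (Subtype.ext e)) g (hw g)).trans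
        (hsr w (fun e => hw0 (Subtype.ext e)) h (hw h)).symm⟩
      infer_instance
    · exact cyclic_or_quaternion ρ hG hρ hq hsr
  push Not at hsr
  obtain ⟨v₀, hv₀, k₀, hk₀, hk₀1⟩ := hsr
  have hq : q ≠ 2 := by
    rintro rfl
    letI : MulAction G V := MulAction.compHom V ρ
    have hmod := hG.card_modEq_card_fixedPoints (α := V)
    have heven : 2 ∣ Nat.card V := by
      rw [Module.natCard_eq_pow_finrank (K := ZMod 2), Nat.card_zmod]
      exact dvd_pow_self 2 Module.finrank_pos.ne'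
    have hfix : 2 ∣ Nat.card (MulAction.fixedPoints G V) :=
      (Nat.modEq_zero_iff_dvd).1 (hmod.symm.trans ((Nat.modEq_zero_iff_dvd).2 heven))
    haveI : Nonempty (MulAction.fixedPoints G V) := ⟨⟨0, fun g => map_zero (ρ g)⟩⟩
    have h2 : 2 ≤ Nat.card (MulAction.fixedPoints G V) := Nat.le_of_dvd Nat.card_pos hfix
    haveI := Finite.one_lt_card_iff_nontrivial.1 h2
    obtain ⟨⟨w, hw⟩, hw0⟩ := exists_ne (⟨0, fun g => map_zero (ρ g)⟩ : MulAction.fixedPoints G V)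
    have hw0' : w ≠ 0 := fun e => hw0 (Subtype.ext e)
    refine hk₀1 (eq_one_of_fix ρ hρ fun v => ?_)
    rcases eq_or_ne v 0 with rfl | hv
    · exact map_zero _
    have htop : stab ρ v = ⊤ := (Subgroup.card_eq_iff_eq_top _).1 (by
      rw [hs v w hv hw0', (eq_top_iff.2 fun g _ => hw g : stab ρ w = ⊤), Subgroup.card_top])
    exact (htop ▸ Subgroup.mem_top k₀ : k₀ ∈ stab ρ v)
  have hns : ∃ (v : V) (g : G), v ≠ 0 ∧ ρ g v = v ∧ g ≠ 1 := ⟨v₀, k₀, hv₀, hk₀, hk₀1⟩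
  haveI : Nontrivial G := ⟨⟨k₀, 1, hk₀1⟩⟩
  haveI := hG.center_nontrivial
  obtain ⟨z, hzc, hzo⟩ : ∃ z : G, z ∈ Subgroup.center G ∧ orderOf z = 2 := by
    obtain ⟨k, hk, hkc⟩ := (hG.to_subgroup (Subgroup.center G)).nontrivial_iff_card.1 inferInstance
    obtain ⟨z, hz⟩ := exists_prime_orderOf_dvd_card' (G := Subgroup.center G) 2 (hkc ▸ dvd_pow_self 2 (by omega))
    exact ⟨z, z.2, by rw [Subgroup.orderOf_coe, hz]⟩
  have hz1 : z ≠ 1 := fun h => by rw [h, orderOf_one] at hzo; omega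
  have hz2 : z * z = 1 := by rw [← pow_two, ← hzo, pow_orderOf_eq_one]
  have hz := central_involution ρ hρ hq hs hns hz2 hz1 (Subgroup.mem_center_iff.1 hzc)
  by_cases hno : ∀ e : G, e * e = 1 → (∀ g : G, g * e * g⁻¹ = e ∨ g * e * g⁻¹ = e * z) → e = 1 ∨ e = z
  · exact Or.inr (Or.inl (maximal_class ρ hG hρ hq hs hns hz hz1 hno))
  push Not at hno
  obtain ⟨e, he2, hec, he1, hez⟩ := hno
  have henc : ∃ g : G, g * e ≠ e * g := by
    by_contra hall
    push Not at hall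
    exact hez (hρ (LinearEquiv.ext fun v => by
      rw [central_involution ρ hρ hq hs hns he2 he1 hall, hz]))
  rcases imprimitive ρ hG hρ hq hs hns hz he2 he1 hez hec henc with h | ⟨h1, h2⟩
  · exact Or.inr (Or.inr (Or.inl h))
  · exact Or.inr (Or.inr (Or.inr ⟨h1, h2, rfl⟩))

end CfsgLib.Rec.HalfTrans
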