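import Mathlib
import Cfsg.Prelude.Def_Transfer
import Cfsg.Prelude.Def_Solvable
import Cfsg.Agent.Lib.Base.Cores
import Cfsg.Agent.Lib.Transfer.SLTwoThree

/-!
Groups of shape `3^{1+2}.SL₂(3)`: coordinates, action and complement.
-/

set_option autoImplicit false

namespace CfsgLib.Rec.HeisSLThree

open Matrix

abbrev W := ZMod 3 × ZMod 3

/-- The alternating form on `W`. -/
def wdet (v w : W) : ZMod 3 := v.1 * w.2 - v.2 * w.1

/-- Matrix action on `W`. -/
def lin (M : Matrix (Fin 2) (Fin 2) (ZMod 3)) (v : W) : W :=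
  (M 0 0 * v.1 + M 0 1 * v.2, M 1 0 * v.1 + M 1 1 * v.2)

/-- The matrix of an additive map. -/
def matOf (f : W → W) : Matrix (Fin 2) (Fin 2) (ZMod 3) :=
  !![(f (1, 0)).1, (f (0, 1)).1; (f (1, 0)).2, (f (0, 1)).2]

theorem lin_matOf (f : W →+ W) (v : W) : lin (matOf f) v = f v := by
  have hv : v = v.1.val • ((1, 0) : W) + v.2.val • ((0, 1) : W) := by
    ext <;> simp
  conv_rhs => rw [hv, map_add, map_nsmul, map_nsmul]
  ext <;> simp [lin, matOf] <;> ring

theorem det_matOf (f : W → W) : (matOf f).det = wdet (f (1, 0)) (f (0, 1)) := by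
  simp [matOf, Matrix.det_fin_two_of, wdet]; ring

theorem lin_mul (A B : Matrix (Fin 2) (Fin 2) (ZMod 3)) (v : W) : lin (A * B) v = lin A (lin B v) := by
  simp [lin, Matrix.mul_apply, Fin.sum_univ_two]
  constructor <;> ring

theorem lin_one (v : W) : lin 1 v = v := by simp [lin]

theorem lin_ext {A B : Matrix (Fin 2) (Fin 2) (ZMod 3)} (h : ∀ v, lin A v = lin B v) : A = B := by
  have h1 := h (1, 0)
  have h2 := h (0, 1)
  simp [lin] at h1 h2
  ext i j
  fin_cases i <;> fin_cases j
  · exact h1.1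
  · exact h2.1
  · exact h1.2
  · exact h2.2

/-- Coordinates of a Heisenberg group of order 27. -/
def Law {R : Type*} [Group R] (c : W × ZMod 3 ≃ R) : Prop :=
  ∀ v a w b, c (v, a) * c (w, b) = c (v + w, a + b - wdet v w)

variable {R : Type*} [Group R]

theorem exists_coords [Finite R] (hcard : Nat.card R = 27) (hexp : ∀ r : R, r ^ 3 = 1)
    (hcomm : commutator R ≤ Subgroup.center R) (hne : ∃ x y : R, x * y ≠ y * x) :
    ∃ c : W × ZMod 3 ≃ R, Law c := by
  obtain ⟨x, y, hxy⟩ := hne
  set z := x * y * x⁻¹ * y⁻¹ with hzdef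
  have hz : ∀ r, r * z = z * r := fun r => Subgroup.mem_center_iff.1 (hcomm (by
    rw [hzdef, ← commutatorElement_def, commutator_def]
    exact Subgroup.commutator_mem_commutator (Subgroup.mem_top _) (Subgroup.mem_top _))) r
  have hz1 : z ≠ 1 := fun h => hxy (by
    have : x * y * x⁻¹ * y⁻¹ = 1 := h
    rw [← commutatorElement_def, commutatorElement_eq_one_iff_mul_comm] at this; exact this)
  have hp : ∀ (r : R) (n : ℕ), r ^ n = r ^ (n % 3) := fun r n => pow_eq_pow_mod n (hexp r)
  have h1 : y * x = x * y * z ^ 2 := by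
    have e : x * y = z * (y * x) := by rw [hzdef]; group
    rw [e, mul_assoc, ← (show Commute (z ^ 2) (y * x) from (show Commute z (y * x) from (hz _).symm).pow_left 2).eq,
      ← mul_assoc, ← pow_succ', hexp, one_mul]
  have h2 : ∀ n : ℕ, y * x ^ n = x ^ n * y * z ^ (2 * n) := by
    intro n
    induction n with
    | zero => simp
    | succ n ih =>
      rw [pow_succ, ← mul_assoc, ih, mul_assoc (x ^ n * y), ← ((show Commute x z from hz x).pow_right (2 * n)).eq,
        ← mul_assoc, mul_assoc (x ^ n), h1, show 2 * (n + 1) = 2 + 2 * n by ring, pow_add z]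
      simp only [mul_assoc]
  have h3 : ∀ m n : ℕ, y ^ m * x ^ n = x ^ n * y ^ m * z ^ (2 * m * n) := by
    intro m n
    induction m with
    | zero => simp
    | succ m ih =>
      rw [pow_succ' y, mul_assoc, ih, ← mul_assoc, ← mul_assoc, h2, mul_assoc (x ^ n * y),
        ← ((show Commute (y ^ m) z from ((show Commute y z from hz y).pow_left m)).pow_right (2 * n)).eq,
        show 2 * (m + 1) * n = 2 * n + 2 * m * n by ring, pow_add z]
      simp only [mul_assoc]
  let P : R → ZMod 3 → R := fun r i => r ^ i.val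
  have hPadd : ∀ r i j, P r (i + j) = P r i * P r j := fun r i j => by
    simp only [P]; rw [ZMod.val_add, ← hp, pow_add]
  have hPc : ∀ r i, P z i * r = r * P z i := fun r i =>
    ((show Commute z r from (hz r).symm).pow_left _).eq
  let c₀ : W × ZMod 3 → R := fun p => P x p.1.1 * P y p.1.2 * P z (p.2 + p.1.1 * p.1.2)
  have hlaw : ∀ v a w b, c₀ (v, a) * c₀ (w, b) = c₀ (v + w, a + b - wdet v w) := by
    intro v a w b
    have hsw : P y v.2 * P x w.1 = P x w.1 * P y v.2 * P z (2 * v.2 * w.1) := by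
      simp only [P]; rw [h3, hp z]
      congr 2
      rw [ZMod.val_mul, ZMod.val_mul, show ((2 : ZMod 3)).val = 2 from rfl]
      simp [Nat.mul_mod, Nat.mod_mod]
    calc c₀ (v, a) * c₀ (w, b)
        = P x v.1 * (P y v.2 * P x w.1) * P y w.2 * (P z (a + v.1 * v.2) * P z (b + w.1 * w.2)) := by
          simp only [c₀, mul_assoc]
          rw [← mul_assoc (P z (a + v.1 * v.2)) (P x w.1), hPc, mul_assoc,
            ← mul_assoc (P z (a + v.1 * v.2)) (P y w.2), hPc, mul_assoc]
      _ = P x v.1 * P x w.1 * (P y v.2 * P y w.2) *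
          (P z (2 * v.2 * w.1) * (P z (a + v.1 * v.2) * P z (b + w.1 * w.2))) := by
          rw [hsw]; generalize 2 * v.2 * w.1 = e; simp only [mul_assoc]
          rw [← mul_assoc (P z e) (P y w.2), hPc, mul_assoc]
      _ = c₀ (v + w, a + b - wdet v w) := by
          simp only [c₀, ← hPadd, Prod.fst_add, Prod.snd_add]
          congr 2
          simp only [wdet]; ring
  have hone : c₀ (0, 0) = 1 := by simp [c₀, P]
  have hker : ∀ v a, c₀ (v, a) = 1 → v = 0 ∧ a = 0 := by
    intro v a h
    have hinv : c₀ (-v, -a) = 1 := by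
      have := hlaw v a (-v) (-a)
      rw [h, one_mul, add_neg_cancel, add_neg_cancel] at this
      rw [this, show (0 : ZMod 3) - wdet v (-v) = 0 by simp [wdet]; ring, hone]
    have hd : ∀ w, wdet v w = 0 := by
      intro w
      have e1 : c₀ (v, a) * c₀ (w, 0) * c₀ (-v, -a) = c₀ (w, 0) := by rw [h, hinv, one_mul, mul_one]
      rw [hlaw, hlaw, show v + w + -v = w by abel,
        show a + 0 - wdet v w + -a - wdet (v + w) (-v) = wdet v w by
          simp [wdet]
          have h3' : (3 : ZMod 3) = 0 := rfl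
          linear_combination (-(v.1 * w.2) + v.2 * w.1) * h3'] at e1
      have e2 : c₀ (w, wdet v w) = c₀ (w, 0) * P z (wdet v w) := by
        simp only [c₀, mul_assoc, ← hPadd, zero_add]; rw [add_comm]
      rw [e2] at e1
      have e3 : P z (wdet v w) = 1 := mul_eq_left.1 e1
      by_contra h0
      apply hz1
      rcases (show ∀ i : ZMod 3, i = 0 ∨ i = 1 ∨ i = 2 by decide) (wdet v w) with hi | hi | hi
      · exact absurd hi h0
      · simpa [P, hi, ZMod.val_one] using e3
      · have e4 : z ^ 2 = 1 := by simpa [P, hi, show ((2 : ZMod 3)).val = 2 from rfl] using e3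
        calc z = z ^ 3 := by rw [pow_succ, e4, one_mul]
          _ = 1 := hexp z
    have hv : v = 0 := by
      have a1 := hd (1, 0); have a2 := hd (0, 1)
      simp [wdet] at a1 a2
      exact Prod.ext a2 a1
    subst hv
    refine ⟨rfl, ?_⟩
    rcases (show ∀ i : ZMod 3, i = 0 ∨ i = 1 ∨ i = 2 by decide) a with hi | hi | hi
    · exact hi
    · exfalso; apply hz1; simpa [c₀, P, hi, ZMod.val_one] using h
    · exfalso; apply hz1
      have e4 : z ^ 2 = 1 := by simpa [c₀, P, hi, show ((2 : ZMod 3)).val = 2 from rfl] using h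
      calc z = z ^ 3 := by rw [pow_succ, e4, one_mul]
        _ = 1 := hexp z
  have hinj : Function.Injective c₀ := by
    rintro ⟨v, a⟩ ⟨w, b⟩ h
    have e := hlaw v a (-w) (-b)
    rw [h, hlaw, add_neg_cancel, add_neg_cancel, show (0 : ZMod 3) - wdet w (-w) = 0 by simp [wdet]; ring,
      hone] at e
    obtain ⟨e1, e2⟩ := hker _ _ e.symm
    have hvw : v = w := add_neg_eq_zero.1 e1
    subst hvw
    simp [wdet] at e2
    exact Prod.ext rfl (by linear_combination e2)
  haveI := Fintype.ofFinite R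
  refine ⟨Equiv.ofBijective c₀ ((Fintype.bijective_iff_injective_and_card c₀).2 ⟨hinj, ?_⟩), hlaw⟩
  rw [← Nat.card_eq_fintype_card (α := R), hcard]; simp

section Coords

variable {c : W × ZMod 3 ≃ R} (hc : Law c)
include hc

theorem law_one : c (0, 0) = 1 := by
  have := hc 0 0 0 0
  simpa [wdet] using this

theorem law_inv (v : W) (a : ZMod 3) : (c (v, a))⁻¹ = c (-v, -a) := by
  refine inv_eq_of_mul_eq_one_right ?_
  rw [hc, add_neg_cancel, add_neg_cancel, show (0 : ZMod 3) - wdet v (-v) = 0 by simp [wdet]; ring, law_one hc]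

theorem law_conj (w : W) (b : ZMod 3) (v : W) (a : ZMod 3) :
    c (w, b) * c (v, a) * (c (w, b))⁻¹ = c (v, a + wdet w v) := by
  rw [law_inv hc, hc, hc, show w + v + -w = v by abel]
  congr 2
  simp [wdet]
  have h3 : (3 : ZMod 3) = 0 := rfl
  linear_combination (-(w.1 * v.2) + w.2 * v.1) * h3

theorem law_split (v : W) (a : ZMod 3) : c (v, a) = c (v, 0) * c (0, a) := by
  rw [hc]; simp [wdet]

/-- Shape of a multiplicative map. -/
theorem map_form (φ : R →* R) : ∃ M : Matrix (Fin 2) (Fin 2) (ZMod 3), ∃ ν : W → ZMod 3,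
    (∀ v a, φ (c (v, a)) = c (lin M v, M.det * a + ν v)) ∧
    (∀ v w, ν (v + w) = ν v + ν w + M.det * wdet v w - wdet (lin M v) (lin M w)) := by
  let f : W → W := fun v => (c.symm (φ (c (v, 0)))).1
  let ν : W → ZMod 3 := fun v => (c.symm (φ (c (v, 0)))).2
  have hφ : ∀ v, φ (c (v, 0)) = c (f v, ν v) := fun v => (c.apply_symm_apply _).symm
  -- commutators land in the centre
  have hcm : ∀ v w, φ (c (0, wdet v w)) = c (0, wdet (f v) (f w)) := by
    have e : ∀ v a w b, c (v, a) * c (w, b) * (c (v, a))⁻¹ * (c (w, b))⁻¹ = c (0, wdet v w) := by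
      intro v a w b
      rw [law_conj hc, law_inv hc, hc, add_neg_cancel]
      congr 2
      simp [wdet]; ring
    intro v w
    rw [← e v 0 w 0, map_mul, map_mul, map_mul, map_inv, map_inv, hφ, hφ, e]
  set d := wdet (f (1, 0)) (f (0, 1)) with hd
  have hd1 : φ (c (0, 1)) = c (0, d) := by simpa [wdet, hd] using hcm (1, 0) (0, 1)
  have hdz : ∀ a, φ (c (0, a)) = c (0, d * a) := by
    have hz0 : φ (c (0, 0)) = c (0, 0) := by rw [law_one hc, map_one]
    have hz2 : φ (c (0, 2)) = c (0, d * 2) := by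
      rw [show c (0, (2 : ZMod 3)) = c (0, 1) * c (0, 1) by rw [hc]; simp [wdet]; decide, map_mul, hd1, hc]
      simp [wdet]; ring_nf
    intro a
    rcases (show ∀ i : ZMod 3, i = 0 ∨ i = 1 ∨ i = 2 by decide) a with rfl | rfl | rfl
    · rw [hz0, mul_zero]
    · rw [hd1, mul_one]
    · exact hz2
  have hform : ∀ v a, φ (c (v, a)) = c (f v, d * a + ν v) := fun v a => by
    rw [law_split hc, map_mul, hφ, hdz, hc]
    simp [wdet]; ring_nf
  have hadd : ∀ v w, f (v + w) = f v + f w ∧
      ν (v + w) = ν v + ν w + d * wdet v w - wdet (f v) (f w) := by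
    intro v w
    have e := congrArg φ (hc v 0 w 0)
    rw [map_mul, hφ, hφ, hc, hform] at e
    have e' := c.injective e
    simp only [Prod.mk.injEq] at e'
    exact ⟨e'.1.symm, by linear_combination -e'.2⟩
  let F : W →+ W := AddMonoidHom.mk' f fun v w => (hadd v w).1
  have hl : ∀ v, lin (matOf f) v = f v := lin_matOf F
  refine ⟨matOf f, ν, fun v a => ?_, fun v w => ?_⟩
  · rw [hl, det_matOf, hform]
  · rw [hl, hl, det_matOf]; exact (hadd v w).2

end Coords

abbrev S3 := Matrix.SpecialLinearGroup (Fin 2) (ZMod 3)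

theorem sl_squares : ∀ g : S3, ∃ a b : S3, g = a * a * (b * b) := by decide +kernel

theorem sl_involution : ∀ g : S3, g * g = 1 → g = 1 ∨ g = -1 := by decide +kernel

theorem sl_neg_one_mem : ∀ g : S3, g ≠ 1 → g = -1 ∨ ∃ h : S3, (g * h * g⁻¹ * h⁻¹) ^ 2 = -1 := by
  decide +kernel

theorem sl_neg_one_ne : (-1 : S3) ≠ 1 := by decide +kernel

theorem collinear : ∀ v w : W, v ≠ 0 → wdet w v = 0 → ∃ l : ZMod 3, w = (l * v.1, l * v.2) := by
  decide +kernel

theorem units_sq : ∀ u : (ZMod 3)ˣ, u * u = 1 := by decide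

theorem eq_neg_self : ∀ w : W, w = -w → w = 0 := by decide

theorem two_mul_zero : ∀ i : ZMod 3, 2 * i = 0 → i = 0 := by decide

theorem add_two_mul : ∀ i : ZMod 3, i + 2 * i = 0 := by decide

theorem cases3 : ∀ i : ZMod 3, i = 0 ∨ i = 1 ∨ i = 2 := by decide

/-- Complement and coordinates. -/
theorem exists_splitting {X : Type*} [Group X] [Finite X]
    (hR : Cfsg.IsExtraspecial 3 (Cfsg.pCore 3 X)) (hRcard : Nat.card (Cfsg.pCore 3 X) = 27)
    (hRexp : ∀ r ∈ Cfsg.pCore 3 X, r ^ 3 = 1)
    (e : X ⧸ Cfsg.pCore 3 X ≃* S3)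
    (hO2 : Cfsg.pCore 2 X = ⊥)
    (hE : ∃ E : Subgroup X, IsMulCommutative E ∧ (∀ a ∈ E, a ^ 3 = 1) ∧ Nat.card E = 27) :
    ∃ (c : W × ZMod 3 → X) (s : S3 →* X),
      (∀ v a w b, c (v, a) * c (w, b) = c (v + w, a + b - wdet v w)) ∧
      (∀ A v a, s A * c (v, a) * (s A)⁻¹ = c (lin A.1 v, a)) ∧
      Function.Bijective (fun p : (W × ZMod 3) × S3 => c p.1 * s p.2) := by
  classical
  haveI : Fact (Nat.Prime 3) := ⟨Nat.prime_three⟩
  haveI : Fact (Nat.Prime 2) := ⟨Nat.prime_two⟩
  haveI : (Cfsg.pCore 3 X).Normal := inferInstance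
  set R := Cfsg.pCore 3 X with hRdef
  have hexp : ∀ r : R, r ^ 3 = 1 := fun r => Subtype.ext (hRexp r r.2)
  obtain ⟨⟨-, -, hcomm⟩, hzc⟩ := hR
  have hne : ∃ x y : R, x * y ≠ y * x := by
    by_contra h
    push Not at h
    have : Subgroup.center R = ⊤ := (Subgroup.eq_top_iff' _).2 fun x => Subgroup.mem_center_iff.2 fun y => h y x
    rw [this, Subgroup.card_top, hRcard] at hzc
    omega
  obtain ⟨c₁, hc₁⟩ := exists_coords hRcard hexp hcomm.le hne
  -- action of X
  let conj : X → (R →* R) := fun g => (MulAut.conjNormal g : MulAut R).toMonoidHom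
  have hconj : ∀ g (r : R), ((conj g r : R) : X) = g * r * g⁻¹ := fun g r => MulAut.conjNormal_apply g r
  choose M ν hM hν using fun g => map_form hc₁ (conj g)
  have hMeq : ∀ g v, (c₁.symm (conj g (c₁ (v, 0)))).1 = lin (M g) v := fun g v => by
    rw [hM, Equiv.symm_apply_apply]
  have hMmul : ∀ g h, M (g * h) = M g * M h := fun g h => lin_ext fun v => by
    rw [← hMeq, lin_mul, show conj (g * h) (c₁ (v, 0)) = conj g (conj h (c₁ (v, 0))) from Subtype.ext (by
      simp only [hconj, _root_.mul_inv_rev, mul_assoc]), hM h, hM g, Equiv.symm_apply_apply]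
  have hM1 : M 1 = 1 := lin_ext fun v => by
    rw [← hMeq, lin_one, show conj 1 (c₁ (v, 0)) = c₁ (v, 0) from Subtype.ext (by simp [hconj]),
      Equiv.symm_apply_apply]
  have hMR : ∀ r : R, M r = 1 := fun r => lin_ext fun v => by
    obtain ⟨⟨w, b⟩, rfl⟩ := c₁.surjective r
    rw [← hMeq, lin_one, show conj (c₁ (w, b) : R) (c₁ (v, 0)) = c₁ (w, b) * c₁ (v, 0) * (c₁ (w, b))⁻¹ from
      Subtype.ext (by simp [hconj]), law_conj hc₁, Equiv.symm_apply_apply]
  let δ₀ : X →* ZMod 3 :=
    { toFun := fun g => (M g).det, map_one' := by simp [hM1], map_mul' := fun g h => by simp [hMmul] }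
  let δ := δ₀.toHomUnits
  have hker : R ≤ δ.ker := fun r hr => Units.ext (show (M r).det = 1 by rw [hMR ⟨r, hr⟩, Matrix.det_one])
  have hδ : ∀ g, (M g).det = 1 := by
    intro g
    let χ : S3 →* (ZMod 3)ˣ := (QuotientGroup.lift R δ hker).comp e.symm.toMonoidHom
    have hχ : ∀ A, χ A = 1 := fun A => by
      obtain ⟨a, b, rfl⟩ := sl_squares A
      have hsq := units_sq
      simp [map_mul, hsq]
    have := hχ (e g)
    simp [χ] at this
    exact congrArg Units.val this
  let FX : X →* S3 :=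
    { toFun := fun g => ⟨M g, hδ g⟩, map_one' := Subtype.ext hM1, map_mul' := fun g h => Subtype.ext (hMmul g h) }
  have hkerF : R ≤ FX.ker := fun r hr => Subtype.ext (hMR ⟨r, hr⟩)
  let FS : S3 →* S3 := (QuotientGroup.lift R FX hkerF).comp e.symm.toMonoidHom
  have hFS : ∀ g : X, FS (e g) = FX g := fun g => by simp [FS]
  -- the involution
  obtain ⟨x, hx⟩ := QuotientGroup.mk_surjective (s := R) (e.symm (-1))
  set z := x ^ 27 with hzdef
  have hex : e x = -1 := by rw [hx, MulEquiv.apply_symm_apply]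
  have hez : e (z : X) = -1 := by
    rw [hzdef, QuotientGroup.mk_pow, map_pow, hex, show 27 = 2 * 13 + 1 by rfl, pow_succ, pow_mul,
      neg_one_sq, one_pow, one_mul]
  have hz2 : z * z = 1 := by
    have hx2 : x ^ 2 ∈ R := (QuotientGroup.eq_one_iff _).1 (e.injective (by
      rw [QuotientGroup.mk_pow, map_pow, hex, map_one, neg_one_sq]))
    rw [hzdef, ← pow_add, show 27 + 27 = 2 * (3 * 9) by rfl, pow_mul, pow_mul, hRexp _ hx2, one_pow]
  have hzR : z ∉ R := fun h => sl_neg_one_ne (by rw [← hez, (QuotientGroup.eq_one_iff _).2 h, map_one])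
  have hcz : ∀ g : X, g * z * g⁻¹ * z⁻¹ ∈ R := fun g => (QuotientGroup.eq_one_iff _).1 (e.injective (by
    rw [QuotientGroup.mk_mul, QuotientGroup.mk_mul, QuotientGroup.mk_mul, QuotientGroup.mk_inv,
      QuotientGroup.mk_inv, map_mul, map_mul, map_mul, map_inv, map_inv, hez, map_one]
    simp))
  have hFz : FX z = -1 := by
    refine (sl_involution _ (by rw [← map_mul, hz2, map_one])).resolve_left fun h => ?_
    have hMz : M z = 1 := congrArg Subtype.val h
    have hfix : ∀ r : R, z * r * z⁻¹ = r := by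
      intro r
      obtain ⟨⟨v, a⟩, rfl⟩ := c₁.surjective r
      have h1 := hM z v a
      rw [hMz, lin_one, Matrix.det_one, one_mul] at h1
      have h2 : conj z (conj z (c₁ (v, a))) = c₁ (v, a) := Subtype.ext (by
        rw [hconj, hconj]
        calc z * (z * (c₁ (v, a) : X) * z⁻¹) * z⁻¹ = (z * z) * (c₁ (v, a) : X) * (z * z)⁻¹ := by group
          _ = _ := by rw [hz2]; group)
      rw [h1, hM z, hMz, lin_one, Matrix.det_one, one_mul] at h2
      have h3 := congrArg Prod.snd (c₁.injective h2)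
      have h30 : (3 : ZMod 3) = 0 := rfl
      have hν0 : ν z v = 0 := by linear_combination -h3 + ν z v * h30
      rw [← hconj, h1, hν0, add_zero]
    have hzc' : ∀ g, g * z * g⁻¹ = z := by
      intro g
      set r := g * z * g⁻¹ * z⁻¹ with hr
      have hrz : r * z = z * r := mul_inv_eq_iff_eq_mul.1 (hfix ⟨r, hcz g⟩) |>.symm
      have hsq : (r * z) * (r * z) = 1 := by
        rw [hr, inv_mul_cancel_right, show g * z * g⁻¹ * (g * z * g⁻¹) = g * (z * z) * g⁻¹ by group, hz2]
        group
      have hr2 : r * r = 1 := by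
        rw [show r * z * (r * z) = r * (z * r) * z by group, ← hrz,
          show r * (r * z) * z = r * r * (z * z) by group, hz2, mul_one] at hsq
        exact hsq
      have hr1 : r = 1 := by
        calc r = r ^ 3 := by rw [pow_succ, pow_two, hr2, one_mul]
          _ = 1 := hRexp r (hcz g)
      exact mul_inv_eq_one.1 hr1
    haveI : (Subgroup.zpowers z).Normal := ⟨fun a ha g => by
      obtain ⟨k, rfl⟩ := Subgroup.mem_zpowers_iff.1 ha
      rw [← MulAut.conj_apply, map_zpow, MulAut.conj_apply, hzc']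
      exact Subgroup.zpow_mem _ (Subgroup.mem_zpowers z) k⟩
    have hz1 : z ≠ 1 := fun h => hzR (h ▸ R.one_mem)
    have hp : IsPGroup 2 (Subgroup.zpowers z) := IsPGroup.of_card (n := 1) (by
      rw [Nat.card_zpowers, pow_one]; exact orderOf_eq_prime (by rw [pow_two, hz2]) hz1)
    have := CfsgLib.Base.le_pCore hp
    rw [hO2, le_bot_iff, Subgroup.zpowers_eq_bot] at this
    exact hz1 this
  have hFSinj : Function.Injective FS := by
    rw [injective_iff_map_eq_one]
    intro A hA
    by_contra hA1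
    have hneg : FS (-1) = 1 := by
      rcases sl_neg_one_mem A hA1 with rfl | ⟨h, hh⟩
      · exact hA
      · rw [← hh]; simp [map_pow, map_mul, map_inv, hA]
    rw [← hez, hFS, hFz] at hneg
    exact sl_neg_one_ne hneg
  have hFXker : ∀ g, FX g = 1 → g ∈ R := fun g hg =>
    (QuotientGroup.eq_one_iff _).1 (e.injective (by rw [map_one]; exact hFSinj (by rw [hFS, hg, map_one])))
  have hFXsurj : Function.Surjective FX := fun A => by
    obtain ⟨B, rfl⟩ := Finite.surjective_of_injective hFSinj A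
    obtain ⟨g, hg⟩ := QuotientGroup.mk_surjective (s := R) (e.symm B)
    exact ⟨g, by rw [← hFS, hg, MulEquiv.apply_symm_apply]⟩
  -- coordinates inverted by the involution
  have hMz : M z = -1 := congrArg Subtype.val hFz
  have hlz : ∀ v, lin (M z) v = -v := fun v => by rw [hMz]; ext <;> simp [lin]
  set μ := ν z with hμdef
  have hμ : ∀ v w, μ (v + w) = μ v + μ w := fun v w => by
    rw [hμdef, hν z v w, hlz, hlz, hδ]; simp [wdet]
  let sh : W × ZMod 3 ≃ W × ZMod 3 :=
    { toFun := fun p => (p.1, p.2 + μ p.1), invFun := fun p => (p.1, p.2 - μ p.1),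
      left_inv := fun p => by simp, right_inv := fun p => by simp }
  let c := sh.trans c₁
  have hc : Law c := fun v a w b => by
    show c₁ (v, a + μ v) * c₁ (w, b + μ w) = c₁ (v + w, a + b - wdet v w + μ (v + w))
    rw [hc₁, hμ]; congr 2; ring
  have hzconj : ∀ v a, z * (c (v, a) : X) * z⁻¹ = c (-v, a) := fun v a => by
    have hm : μ (-v) = -μ v := by
      have := hμ v (-v); rw [add_neg_cancel] at this
      have h0 : μ 0 = 0 := by have := hμ 0 0; rw [add_zero] at this; linear_combination -this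
      rw [h0] at this; linear_combination -this
    have h3 : (3 : ZMod 3) = 0 := rfl
    rw [← hconj]
    show ((conj z (c₁ (v, a + μ v)) : R) : X) = (c₁ (-v, a + μ (-v)) : X)
    rw [hM, hlz, hδ, hm, ← hμdef]
    congr 3
    linear_combination μ v * h3
  have hzc0 : ∀ a, z * (c (0, a) : X) = c (0, a) * z := fun a => by
    have := hzconj 0 a
    rw [neg_zero] at this
    exact mul_inv_eq_iff_eq_mul.1 this
  have hzz : z⁻¹ = z := inv_eq_of_mul_eq_one_right hz2
  have hlin : ∀ g, g * z = z * g → ∀ v a, g * (c (v, a) : X) * g⁻¹ = c (lin (M g) v, a) := by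
    intro g hg
    obtain ⟨N, η, hN, hη⟩ := map_form hc (conj g)
    have hNM : N = M g := lin_ext fun v => by
      have e1 := hN v 0
      have e2 := hM g v (0 + μ v)
      rw [show c₁ (v, 0 + μ v) = c (v, 0) from rfl, e1] at e2
      exact congrArg Prod.fst (c₁.injective e2)
    subst hNM
    intro v a
    rw [← hconj, hN, hδ, one_mul]
    have h1 : η (-v) = η v := by
      have e1 : conj z (conj g (c (v, 0))) = conj g (conj z (c (v, 0))) := Subtype.ext (by
        simp only [hconj]
        calc z * (g * (c (v, 0) : X) * g⁻¹) * z⁻¹ = (z * g) * (c (v, 0) : X) * (z * g)⁻¹ := by group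
          _ = (g * z) * (c (v, 0) : X) * (g * z)⁻¹ := by rw [hg]
          _ = _ := by group)
      have e2 : conj z (c (v, 0)) = c (-v, 0) := Subtype.ext (by rw [hconj, hzconj])
      have e3 : ∀ u b, conj z (c (u, b)) = c (-u, b) := fun u b => Subtype.ext (by rw [hconj, hzconj])
      rw [e2, hN, hN, e3] at e1
      have := congrArg Prod.snd (c.injective e1)
      simpa [hδ] using this.symm
    have h2 := hη v (-v)
    rw [add_neg_cancel, h1] at h2
    have h0 : η 0 = 0 := by
      have := hη 0 0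
      simp [wdet, lin] at this
      first | exact this | linear_combination -this
    have h3 : (3 : ZMod 3) = 0 := rfl
    rw [h0] at h2
    simp [wdet, lin, hδ] at h2
    have h4 : η v = 0 := by linear_combination h2 + η v * h3
    rw [h4, add_zero]
  -- the centraliser of the involution covers the quotient
  set C := Subgroup.centralizer ({z} : Set X) with hCdef
  have hcov : ∀ g : X, ∃ w, (c (w, 0) : X)⁻¹ * g ∈ C := by
    intro g
    obtain ⟨⟨v, a⟩, hva⟩ := c.surjective ⟨g * z * g⁻¹ * z⁻¹, hcz g⟩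
    have e1 : (c (v, a) : X) = g * z * g⁻¹ * z⁻¹ := congrArg Subtype.val hva
    have e2 : g * z * g⁻¹ = (c (v, a) : X) * z := by rw [e1, inv_mul_cancel_right]
    have e3 : ((c (v, a) : X) * z) * ((c (v, a) : X) * z) = 1 := by
      rw [← e2, show g * z * g⁻¹ * (g * z * g⁻¹) = g * (z * z) * g⁻¹ by group, hz2]; group
    rw [show (c (v, a) : X) * z * ((c (v, a) : X) * z) = (c (v, a) : X) * (z * (c (v, a) : X) * z) by group] at e3
    have e4 := hzconj v a
    rw [hzz] at e4
    rw [e4, ← Subgroup.coe_mul, hc, add_neg_cancel, ← Subgroup.coe_one, ← law_one hc, Subtype.coe_inj] at e3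
    have ha : a = 0 := by
      have := congrArg Prod.snd (c.injective e3)
      simp [wdet] at this
      have h3 : (3 : ZMod 3) = 0 := rfl
      linear_combination -this + a * h3
    subst ha
    refine ⟨-v, Subgroup.mem_centralizer_singleton_iff.2 ?_⟩
    have e5 : (c (-v, 0) : X) * z * (c (-v, 0) : X)⁻¹ = g * z * g⁻¹ := by
      rw [e2, ← Subgroup.coe_inv, law_inv hc, neg_neg, neg_zero]
      have e6 : z * (c (v, 0) : X) = (c (-v, 0) : X) * z := by rw [← hzconj v 0, inv_mul_cancel_right]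
      rw [mul_assoc, e6, ← mul_assoc, ← Subgroup.coe_mul, hc]
      congr 2
      refine congrArg c (Prod.ext ?_ (by simp [wdet]; ring))
      have h3 : (3 : ZMod 3) = 0 := rfl
      ext
      · show -v.1 + -v.1 = v.1; linear_combination -v.1 * h3
      · show -v.2 + -v.2 = v.2; linear_combination -v.2 * h3
    calc (c (-v, 0) : X)⁻¹ * g * z
        = (c (-v, 0) : X)⁻¹ * (g * z * g⁻¹) * g := by group
      _ = z * ((c (-v, 0) : X)⁻¹ * g) := by rw [← e5]; group
  have hCR : ∀ k ∈ C, k ∈ R → ∃ a, k = (c (0, a) : X) := by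
    intro k hk hkR
    obtain ⟨⟨v, a⟩, hva⟩ := c.surjective ⟨k, hkR⟩
    have e : (c (v, a) : X) = k := congrArg Subtype.val hva
    have hkz := Subgroup.mem_centralizer_singleton_iff.1 hk
    have e4 := hzconj v a
    rw [e, ← hkz, mul_inv_cancel_right, ← e, Subtype.coe_inj] at e4
    have hv := congrArg Prod.fst (c.injective e4)
    simp at hv
    refine ⟨a, ?_⟩
    have hv0 : v = 0 := eq_neg_self v hv
    rw [← e, hv0]
  have hzmem : ∀ a, (c (0, a) : X) ∈ C := fun a => Subgroup.mem_centralizer_singleton_iff.2 (hzc0 a).symm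
  -- an element of order three
  obtain ⟨E, hEc, hEexp, hEcard⟩ := hE
  obtain ⟨e₀, he₀E, he₀R⟩ : ∃ e₀ ∈ E, e₀ ∉ R := by
    by_contra h
    push Not at h
    have hER : E = R := Subgroup.eq_of_le_of_card_ge h (by rw [hEcard, hRcard])
    obtain ⟨a, b, hab⟩ := hne
    subst hER
    exact hab (hEc.is_comm.comm a b)
  obtain ⟨v, a, hv0, hvE⟩ : ∃ v a, v ≠ 0 ∧ (c (v, a) : X) ∈ E := by
    by_contra h
    push Not at h
    have h1 : (R.subgroupOf E).index ∣ 24 := by
      have : (R.subgroupOf E).index = R.relIndex E := rfl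
      rw [this]
      have h24 : R.index = 24 := by
        rw [Subgroup.index_eq_card, Nat.card_congr e.toEquiv, CfsgLib.Transfer.card_slTwoThree]
      exact h24 ▸ Subgroup.relIndex_dvd_index_of_normal R E
    have h2 := (R.subgroupOf E).card_mul_index
    rw [hEcard] at h2
    have h3 : (R.subgroupOf E).index ∣ 27 := Dvd.intro_left _ h2
    have h4 : (R.subgroupOf E).index ≤ 3 := Nat.le_of_dvd (by norm_num) (Nat.dvd_gcd h1 h3)
    have h5 : Nat.card (R.subgroupOf E) ≤ 3 := by
      have hfst : ∀ r : R.subgroupOf E, (c.symm ⟨r.1.1, r.2⟩).1 = 0 := by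
        intro r
        by_contra hne0
        refine h _ (c.symm ⟨r.1.1, r.2⟩).2 hne0 ?_
        rw [Prod.mk.eta, Equiv.apply_symm_apply]; exact r.1.2
      let f : R.subgroupOf E → ZMod 3 := fun r => (c.symm ⟨r.1.1, r.2⟩).2
      have hf : Function.Injective f := by
        intro r r' h'
        have := c.symm.injective (Prod.ext ((hfst r).trans (hfst r').symm) h')
        exact Subtype.ext (Subtype.ext (congrArg (fun q : R => (q : X)) this))
      simpa using Nat.card_le_card_of_injective f hf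
    nlinarith [Nat.mul_le_mul h5 h4]
  obtain ⟨w, hw⟩ := hcov e₀
  set u := (c (w, 0) : X)⁻¹ * e₀ with hudef
  have hu3 : u ^ 3 = 1 := by
    have hcom : e₀ * (c (v, a) : X) * e₀⁻¹ = c (v, a) := by
      rw [show e₀ * (c (v, a) : X) = c (v, a) * e₀ from
        congrArg Subtype.val (hEc.is_comm.comm (⟨e₀, he₀E⟩ : E) ⟨_, hvE⟩), mul_inv_cancel_right]
    have huc := hlin u (Subgroup.mem_centralizer_singleton_iff.1 hw) v a
    have e1 : e₀ = (c (w, 0) : X) * u := by rw [hudef, mul_inv_cancel_left]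
    rw [e1, show (c (w, 0) : X) * u * (c (v, a) : X) * ((c (w, 0) : X) * u)⁻¹ =
      (c (w, 0) : X) * (u * (c (v, a) : X) * u⁻¹) * (c (w, 0) : X)⁻¹ by group, huc, ← Subgroup.coe_inv,
      ← Subgroup.coe_mul, ← Subgroup.coe_mul, law_conj hc, Subtype.coe_inj] at hcom
    have e2 := c.injective hcom
    simp only [Prod.mk.injEq] at e2
    obtain ⟨l, hl⟩ := collinear v w hv0 (by rw [e2.1] at e2; linear_combination e2.2)
    have hlw : lin (M u) w = w := by
      have := e2.1
      rw [hl]
      simp only [lin, Prod.ext_iff] at this ⊢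
      exact ⟨by linear_combination l * this.1, by linear_combination l * this.2⟩
    have hucw : Commute (c (w, 0) : X) u := by
      have := hlin u (Subgroup.mem_centralizer_singleton_iff.1 hw) w 0
      rw [hlw] at this
      exact (mul_inv_eq_iff_eq_mul.1 this).symm
    have := hEexp e₀ he₀E
    rwa [e1, hucw.mul_pow, hRexp _ (c (w, 0)).2, one_mul] at this
  have huR : u ∉ R := fun h => he₀R (by
    have := R.mul_mem (c (w, 0)).2 h
    rwa [hudef, mul_inv_cancel_left] at this)
  -- transfer onto the centre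
  have hcen : ∀ k ∈ C, ∀ a, k * (c (0, a) : X) = c (0, a) * k := fun k hk a => by
    have := hlin k (Subgroup.mem_centralizer_singleton_iff.1 hk) 0 a
    rw [show lin (M k) 0 = 0 by simp [lin]] at this
    exact mul_inv_eq_iff_eq_mul.1 this
  let u' : C := ⟨u, hw⟩
  have hu3' : u' ^ 3 = 1 := Subtype.ext hu3
  let α : Multiplicative (ZMod 3 × ZMod 3) →* C := MonoidHom.mk'
    (fun p => ⟨(c (0, p.toAdd.1) : X), hzmem _⟩ * u' ^ p.toAdd.2.val) fun p q => by
      apply Subtype.ext
      have hpow : u ^ (p.toAdd.2 + q.toAdd.2).val = u ^ p.toAdd.2.val * u ^ q.toAdd.2.val := by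
        rw [ZMod.val_add, ← pow_eq_pow_mod _ hu3, pow_add]
      have hsum : (c (0, p.toAdd.1 + q.toAdd.1) : X) = c (0, p.toAdd.1) * c (0, q.toAdd.1) := by
        rw [← Subgroup.coe_mul, hc]; simp [wdet]
      simp only [toAdd_mul, Prod.fst_add, Prod.snd_add, Subgroup.coe_mul, Subgroup.coe_pow, u']
      rw [hpow, hsum, mul_assoc (c (0, p.toAdd.1) : X) (u ^ p.toAdd.2.val), ← mul_assoc (u ^ p.toAdd.2.val),
        hcen _ (pow_mem hw _)]
      simp only [mul_assoc]
  have hαinj : Function.Injective α := by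
    rw [injective_iff_map_eq_one]
    intro p hp
    have hp' : (c (0, p.toAdd.1) : X) * u ^ p.toAdd.2.val = 1 := congrArg Subtype.val hp
    have hj : p.toAdd.2 = 0 := by
      have hmem : u ^ p.toAdd.2.val ∈ R := eq_inv_of_mul_eq_one_right hp' ▸ R.inv_mem (c _).2
      rcases cases3 p.toAdd.2 with h | h | h
      · exact h
      · rw [h, ZMod.val_one, pow_one] at hmem; exact absurd hmem huR
      · rw [h, show ((2 : ZMod 3)).val = 2 from rfl] at hmem
        refine absurd ?_ huR
        have := R.inv_mem hmem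
        rwa [show (u ^ 2)⁻¹ = u from inv_eq_of_mul_eq_one_right (by rw [← pow_succ, hu3])] at this
    rw [hj, ZMod.val_zero, pow_zero, mul_one, ← Subgroup.coe_one, ← law_one hc, Subtype.coe_inj] at hp'
    have hi := congrArg Prod.snd (c.injective hp')
    exact toAdd_eq_zero.1 (Prod.ext hi hj)
  have hPcard : Nat.card α.range = 9 := by
    rw [← Nat.card_congr (MonoidHom.ofInjective hαinj).toEquiv]; simp
  let FC : C →* S3 := FX.comp C.subtype
  have hFCsurj : Function.Surjective FC := fun A => by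
    obtain ⟨g, rfl⟩ := hFXsurj A
    obtain ⟨w', hw'⟩ := hcov g
    exact ⟨⟨_, hw'⟩, by
      show FX ((c (w', 0) : X)⁻¹ * g) = FX g
      rw [map_mul, map_inv, (MonoidHom.mem_ker.1 (hkerF (c (w', 0)).2) : FX (c (w', 0) : X) = 1), inv_one, one_mul]⟩
  have hFCker : Nat.card FC.ker = 3 := by
    let f : ZMod 3 → FC.ker := fun a => ⟨⟨(c (0, a) : X), hzmem a⟩, hkerF (c (0, a)).2⟩
    have hf : Function.Bijective f := by
      refine ⟨fun a b h => ?_, fun k => ?_⟩
      · exact congrArg Prod.snd (c.injective (Subtype.ext (congrArg (fun q : FC.ker => (q.1 : X)) h)))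
      · obtain ⟨a, ha⟩ := hCR k.1 k.1.2 (hFXker _ k.2)
        exact ⟨a, Subtype.ext (Subtype.ext ha.symm)⟩
    rw [← Nat.card_congr (Equiv.ofBijective f hf)]; simp
  have hCcard : Nat.card C = 72 := by
    have h1 := FC.ker.card_mul_index
    rw [Subgroup.index_ker, MonoidHom.range_eq_top.2 hFCsurj, Subgroup.card_top, hFCker,
      CfsgLib.Transfer.card_slTwoThree] at h1
    omega
  have hPidx : α.range.index = 8 := by
    have h1 := α.range.card_mul_index
    rw [hPcard, hCcard] at h1
    omega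
  let φ : α.range →* Multiplicative (ZMod 3) :=
    (MonoidHom.mk' (fun p : Multiplicative (ZMod 3 × ZMod 3) => Multiplicative.ofAdd p.toAdd.1) fun _ _ => rfl).comp
      (MonoidHom.ofInjective hαinj).symm.toMonoidHom
  let τ : C →* Multiplicative (ZMod 3) := φ.transfer
  have hτ : ∀ a, τ ⟨(c (0, a) : X), hzmem a⟩ = Multiplicative.ofAdd (2 * a) := by
    intro a
    set ζ : C := ⟨(c (0, a) : X), hzmem a⟩ with hζ
    have hζc : ∀ k : C, k * ζ = ζ * k := fun k => Subtype.ext (hcen k k.2 a)
    have hcp : (c (0, a) : X) ^ 8 = (c (0, 2 * a) : X) := by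
      rw [pow_eq_pow_mod 8 (hRexp _ (c (0, a)).2), show 8 % 3 = 2 from rfl, pow_two, ← Subgroup.coe_mul, hc]
      congr 2
      simp [wdet]; ring
    have key : ∀ (k : ℕ) (g₀ : C), g₀⁻¹ * ζ ^ k * g₀ ∈ α.range → g₀⁻¹ * ζ ^ k * g₀ = ζ ^ k := fun k g₀ _ => by
      rw [mul_assoc, ← ((show Commute g₀ ζ from hζc g₀).pow_right k).eq, inv_mul_cancel_left]
    rw [show τ ζ = φ.transfer ζ from rfl, MonoidHom.transfer_eq_pow φ ζ key]
    have hval : (⟨ζ ^ α.range.index, MonoidHom.transfer_eq_pow_aux ζ key⟩ : α.range) =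
        MonoidHom.ofInjective hαinj (Multiplicative.ofAdd (2 * a, 0)) := by
      refine Subtype.ext (Subtype.ext ?_)
      show ((ζ ^ α.range.index : C) : X) = (c (0, 2 * a) : X) * u ^ (0 : ZMod 3).val
      rw [Subgroup.coe_pow, hPidx, ZMod.val_zero, pow_zero, mul_one]
      exact hcp
    rw [hval]
    simp [φ]
  -- the complement
  have hKinj : Function.Injective (FC.comp τ.ker.subtype) := by
    rw [injective_iff_map_eq_one]
    rintro ⟨k, hk⟩ hk1
    obtain ⟨a, ha⟩ := hCR k k.2 (hFXker _ hk1)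
    have hk' : k = ⟨(c (0, a) : X), hzmem a⟩ := Subtype.ext ha
    subst hk'
    rw [MonoidHom.mem_ker, hτ, ofAdd_eq_one] at hk
    have ha0 : a = 0 := two_mul_zero a hk
    refine Subtype.ext (Subtype.ext ?_)
    show (c (0, a) : X) = 1
    rw [ha0, law_one hc, Subgroup.coe_one]
  have hKsurj : Function.Surjective (FC.comp τ.ker.subtype) := by
    intro A
    obtain ⟨k, rfl⟩ := hFCsurj A
    set ζ : C := ⟨(c (0, (τ k).toAdd) : X), hzmem _⟩
    refine ⟨⟨k * ζ, ?_⟩, ?_⟩
    · rw [MonoidHom.mem_ker, map_mul, hτ]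
      apply Multiplicative.toAdd.injective
      rw [toAdd_mul, toAdd_one, toAdd_ofAdd]
      generalize (τ k).toAdd = i
      exact add_two_mul i
    · show FC (k * ζ) = FC k
      rw [map_mul, (MonoidHom.mem_ker.1 (show ζ ∈ FC.ker from hkerF (c _).2)), mul_one]
  let K := MulEquiv.ofBijective (FC.comp τ.ker.subtype) ⟨hKinj, hKsurj⟩
  let s : S3 →* X := C.subtype.comp (τ.ker.subtype.comp K.symm.toMonoidHom)
  have hsF : ∀ A, FX (s A) = A := fun A => K.apply_symm_apply A
  refine ⟨fun p => (c p : X), s, fun v a w b => ?_, fun A v a => ?_, ?_, ?_⟩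
  · show (c (v, a) : X) * c (w, b) = _
    rw [← Subgroup.coe_mul, hc]
  · have := hlin (s A) (Subgroup.mem_centralizer_singleton_iff.1 (K.symm A).1.2) v a
    rwa [show M (s A) = A.1 from congrArg Subtype.val (hsF A)] at this
  · rintro ⟨p, A⟩ ⟨q, B⟩ h
    have h' : (c p : X) * s A = c q * s B := h
    have := congrArg FX h'
    rw [map_mul, map_mul, hsF, hsF, MonoidHom.mem_ker.1 (hkerF (c p).2), MonoidHom.mem_ker.1 (hkerF (c q).2),
      one_mul, one_mul] at this
    subst this
    exact Prod.ext (c.injective (Subtype.ext (mul_right_cancel h'))) rfl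
  · intro g
    have hm : g * (s (FX g))⁻¹ ∈ R := hFXker _ (by rw [map_mul, map_inv, hsF, mul_inv_cancel])
    refine ⟨(c.symm ⟨_, hm⟩, FX g), ?_⟩
    show (c (c.symm ⟨_, hm⟩) : X) * s (FX g) = g
    rw [Equiv.apply_symm_apply, inv_mul_cancel_right]

end CfsgLib.Rec.HeisSLThree
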