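import Cfsg.Agent.Lib.KnownA.SteinerUnique.AutSmall
import Cfsg.Agent.Lib.Spor.Sharp

/-!
Eight permutations of twelve points generating a sharply 5-transitive group.
-/

set_option autoImplicit false

namespace CfsgLib.Rec.M12Gens

open Cfsg CfsgLib.SteinerUnique CfsgLib.Spor

def tab : Fin 8 → Fin 12 → Fin 12 :=
  ![![0, 1, 2, 4, 5, 3, 7, 8, 6, 10, 11, 9], ![0, 1, 2, 6, 7, 8, 9, 10, 11, 3, 4, 5], ![0, 1, 2, 3, 6, 9, 5, 8, 11, 4, 7, 10], ![0, 1, 2, 3, 7, 11, 10, 5, 6, 8, 9, 4], ![0, 1, 2, 3, 10, 8, 11, 6, 4, 7, 5, 9], ![3, 1, 2, 0, 4, 5, 7, 6, 10, 11, 8, 9], ![1, 0, 2, 3, 4, 5, 9, 10, 11, 6, 7, 8], ![0, 2, 1, 3, 4, 5, 11, 9, 10, 7, 8, 6]]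

def hex : List ℕ :=
  [63, 219, 237, 246, 350, 363, 373, 413, 430, 435, 455, 504, 591, 627, 636, 670, 679, 697, 725, 746, 791, 813, 826, 857, 870, 907, 948, 972, 978, 993, 1117, 1127, 1146, 1175, 1195, 1212, 1230, 1265, 1295, 1334, 1337, 1363, 1388, 1434, 1445, 1481, 1492, 1506, 1563, 1582, 1589, 1622, 1641, 1677, 1714, 1731, 1752, 1764, 1820, 1827, 1861, 1866, 1904, 1926, 1937, 1960, 2135, 2158, 2169, 2191, 2229, 2234, 2268, 2275, 2331, 2343, 2364, 2381, 2418, 2454, 2473, 2506, 2513, 2532, 2589, 2603, 2614, 2650, 2661, 2707, 2732, 2758, 2761, 2800, 2830, 2865, 2883, 2900, 2920, 2949, 2968, 2978, 3102, 3117, 3123, 3147, 3188, 3225, 3238, 3269, 3282, 3304, 3349, 3370, 3398, 3416, 3425, 3459, 3468, 3504, 3591, 3640, 3660, 3665, 3682, 3722, 3732, 3745, 3849, 3858, 3876, 4032]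

def wordsTab : Fin 5 → Fin 12 → List (Fin 8) :=
  ![![[7, 6], [7], [], [7, 6, 5], [7, 6, 5, 0, 0], [7, 6, 5, 0], [7, 6, 5, 0, 2], [7, 6, 5, 0, 3], [7, 6, 5, 0, 0, 4], [7, 6, 5, 1], [7, 6, 5, 0, 4], [7, 6, 5, 0, 1]], 
    ![[6], [], [], [6, 5], [6, 5, 0, 0], [6, 5, 0], [6, 5, 0, 2], [6, 5, 0, 3], [6, 5, 0, 0, 4], [6, 5, 1], [6, 5, 0, 4], [6, 5, 0, 1]], 
    ![[], [], [], [5], [5, 0, 0], [5, 0], [5, 0, 2], [5, 0, 3], [5, 0, 0, 4], [5, 1], [5, 0, 4], [5, 0, 1]], 
    ![[], [], [], [], [0, 0], [0], [0, 2], [0, 3], [0, 0, 4], [1], [0, 4], [0, 1]], 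
    ![[], [], [], [], [], [2, 2], [3, 4], [4, 2], [4], [2], [2, 3], [3]]]

def base : Fin 5 → Fin 12 := ![2, 1, 0, 3, 4]

theorem steiner_check : ((List.range 4096).all fun m => !(Nat.beq (pop m) 5) ||
    Nat.beq ((hex.filter fun b => Nat.beq (b &&& m) m).length) 1) = true := by decide +kernel

theorem hex_check : (hex.all fun b => Nat.blt b 4096 && Nat.beq (pop b) 6) = true := by
  decide +kernel

theorem gen_check : ((List.finRange 8).all fun i => hex.all fun b => hex.any fun c =>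
    (List.finRange 12).all fun j => c.testBit (tab i j).val == b.testBit j.val) = true := by
  decide +kernel

theorem word_check : ∀ (k : Fin 5) (y : Fin 12), (∀ j : Fin 5, j < k → base j ≠ y) →
    (wordsTab k y).foldr tab y = base k := by decide +kernel

theorem word_level : ∀ (k : Fin 5) (y : Fin 12), ∀ i ∈ wordsTab k y,
    (∀ j : Fin 5, j < k → tab i (base j) = base j) ∧ (0 < k → i ≠ 7) := by decide +kernel

theorem fix_two : ∀ i : Fin 8, i ≠ 7 → tab i 2 = 2 := by decide +kernel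

/-- the hexads -/
def blocks : Set (Finset (Fin 12)) := {b | enc (Equiv.refl _) b ∈ hex}

theorem isSteiner : IsSteinerSystem 5 6 blocks := by
  have h0 := hex_check
  simp only [List.all_eq_true, Bool.and_eq_true, Nat.blt_eq, Nat.beq_eq] at h0
  refine ⟨fun b hb => ?_, fun s hs => ?_⟩
  · rw [← pop_enc (show 12 ≤ 24 by omega) (Equiv.refl _) b]
    exact (h0 _ hb).2
  · have hm : enc (Equiv.refl _) s < 2 ^ 12 := Nat.lt_pow_two_of_testBit _ fun i hi => by
      rw [← Bool.not_eq_true]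
      exact fun h => absurd (lt_of_testBit_enc (show 12 ≤ 24 by omega) _ s h) (by omega)
    have h1 := steiner_check
    simp only [List.all_eq_true, List.mem_range] at h1
    have h2 := h1 _ hm
    rw [pop_enc (show 12 ≤ 24 by omega), hs] at h2
    simp only [Bool.or_eq_true, Nat.beq_eq] at h2
    have hlen : (hex.filter fun b => Nat.beq (b &&& enc (Equiv.refl _) s) (enc (Equiv.refl _) s)).length = 1 := by
      rcases h2 with h2 | h2
      · exact absurd h2 (by decide)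
      · exact h2
    obtain ⟨x, hx⟩ := List.length_eq_one_iff.1 hlen
    have hmem : ∀ y, (y ∈ hex ∧ y &&& enc (Equiv.refl _) s = enc (Equiv.refl _) s) ↔ y = x := fun y => by
      rw [← List.mem_singleton (b := x), ← hx, List.mem_filter, Nat.beq_eq]
    have hxh := (hmem x).2 rfl
    obtain ⟨b, hb⟩ := exists_enc_eq (show 12 ≤ 24 by omega) (Equiv.refl (Fin 12)) (u := x)
      fun j hj => by
        by_contra hlt
        rw [Nat.testBit_eq_false_of_lt (lt_of_lt_of_le (h0 x hxh.1).1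
          (show 2 ^ 12 ≤ 2 ^ j from Nat.pow_le_pow_right (by norm_num) (by omega)))] at hj
        exact absurd hj (by decide)
    refine ⟨b, ⟨show enc _ b ∈ hex by rw [hb]; exact hxh.1, ?_⟩, fun c hc => ?_⟩
    · rw [← enc_and_eq_iff (show 12 ≤ 24 by omega) (Equiv.refl _), hb]; exact hxh.2
    · refine enc_injective (show 12 ≤ 24 by omega) (Equiv.refl _) ?_
      rw [hb]
      exact (hmem _).1 ⟨hc.1, (enc_and_eq_iff (show 12 ≤ 24 by omega) _ _ _).2 hc.2⟩

theorem mem_aut {σ : Equiv.Perm (Fin 12)} {i : Fin 8} (h : ∀ j, σ j = tab i j) :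
    σ ∈ setSystemAut blocks := by
  rw [mem_setSystemAut_iff]
  intro b hb
  have h1 := gen_check
  simp only [List.all_eq_true, List.any_eq_true, List.mem_finRange, beq_iff_eq, forall_const] at h1
  obtain ⟨c, hc, hcb⟩ := h1 i _ hb
  have h0 := hex_check
  simp only [List.all_eq_true, Bool.and_eq_true, Nat.blt_eq, Nat.beq_eq] at h0
  have : enc (Equiv.refl _) (b.image σ) = c := by
    refine Nat.eq_of_testBit_eq fun j => ?_
    by_cases hj : j < 12
    · obtain ⟨k, hk⟩ : ∃ k, σ k = (⟨j, hj⟩ : Fin 12) := σ.surjective _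
      have hkj : (tab i k).val = j := by rw [← h, hk]
      rw [Bool.eq_iff_iff, testBit_enc (show 12 ≤ 24 by omega), ← hkj, hcb k, testBit_enc (show 12 ≤ 24 by omega)]
      simp only [Equiv.refl_apply, Finset.mem_image, ← h]
      constructor
      · rintro ⟨_, ⟨a, ha, rfl⟩, e⟩
        exact ⟨a, ha, by rw [σ.injective (Fin.ext e)]⟩
      · rintro ⟨a, ha, e⟩
        exact ⟨σ a, ⟨a, ha, rfl⟩, by rw [Fin.ext e]⟩
    · rw [Nat.testBit_eq_false_of_lt (lt_of_lt_of_le (h0 c hc).1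
        (show 2 ^ 12 ≤ 2 ^ j from Nat.pow_le_pow_right (by norm_num) (by omega))), ← Bool.not_eq_true]
      exact fun hh => hj (lt_of_testBit_enc (show 12 ≤ 24 by omega) _ _ hh)
  show _ ∈ hex
  rw [this]; exact hc

variable (gen : Fin 8 → Equiv.Perm (Fin 12))

theorem main (hgen : ∀ i j, gen i j = tab i j) (M₁₂ M₁₁ : Subgroup (Equiv.Perm (Fin 12)))
    (hM₁₂ : M₁₂ = Subgroup.closure (Set.range gen))
    (hM₁₁ : M₁₁ = Subgroup.closure (gen '' {i | i ≠ 7})) :
    MulAction.IsMultiplyPretransitive M₁₂ (Fin 12) 5 ∧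
    (∀ y : Fin 5 ↪ Fin 12, MulAction.stabilizer M₁₂ y = ⊥) ∧
    Nat.card M₁₂ = 95040 ∧ Nat.card M₁₁ = 7920 ∧
    M₁₁ = M₁₂ ⊓ MulAction.stabilizer (Equiv.Perm (Fin 12)) (2 : Fin 12) := by
  classical
  have hgmem : ∀ i, gen i ∈ M₁₂ := fun i => hM₁₂ ▸ Subgroup.subset_closure ⟨i, rfl⟩
  have h11mem : ∀ i : Fin 8, i ≠ 7 → gen i ∈ M₁₁ := fun i hi => hM₁₁ ▸ Subgroup.subset_closure ⟨i, hi, rfl⟩
  have hle : M₁₁ ≤ M₁₂ := by
    rw [hM₁₁, hM₁₂]; exact Subgroup.closure_mono (Set.image_subset_range _ _)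
  have haut : M₁₂ ≤ setSystemAut blocks := by
    rw [hM₁₂, Subgroup.closure_le]; rintro _ ⟨i, rfl⟩; exact mem_aut (hgen i)
  obtain ⟨-, -, hsharp⟩ := aut12 (by simp) isSteiner
  have hstab : ∀ y : Fin 5 ↪ Fin 12, MulAction.stabilizer M₁₂ y = ⊥ := fun y => by
    refine (Subgroup.eq_bot_iff_forall _).2 fun g hg => ?_
    have : (⟨g, haut g.2⟩ : setSystemAut blocks) ∈ MulAction.stabilizer (setSystemAut blocks) y := hg
    rw [hsharp y, Subgroup.mem_bot] at this
    exact Subtype.ext (congrArg Subtype.val this :)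
  -- words
  let ev : List (Fin 8) → Equiv.Perm (Fin 12) := fun l => (l.map gen).prod
  have hev : ∀ l y, ev l y = l.foldr tab y := by
    intro l y
    induction l with
    | nil => rfl
    | cons i l ih => simp [ev, ← hgen, ← ih]
  have hev12 : ∀ l, ev l ∈ M₁₂ := fun l => Subgroup.list_prod_mem _ fun x hx => by
    obtain ⟨i, -, rfl⟩ := List.mem_map.1 hx; exact hgmem i
  have h11fix : ∀ g ∈ M₁₁, g 2 = 2 := by
    intro g hg
    rw [hM₁₁] at hg
    induction hg using Subgroup.closure_induction with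
    | mem g hg =>
      obtain ⟨i, hi, rfl⟩ := hg
      rw [hgen]; exact fix_two i hi
    | one => rfl
    | mul a b _ _ ha hb => rw [Equiv.Perm.mul_apply, hb, ha]
    | inv a _ ha => rw [Equiv.Perm.inv_eq_iff_eq, ha]
  -- moving a tuple to the base tuple, one point after the other
  have hmove : ∀ (k : ℕ) (hk : k ≤ 5) (x : Fin 5 ↪ Fin 12), ∃ g ∈ M₁₂,
      (∀ j : Fin 5, j.val < k → g (x j) = base j) ∧ (x 0 = 2 → g ∈ M₁₁) := by
    intro k
    induction k with
    | zero => exact fun _ x => ⟨1, one_mem _, fun j hj => absurd hj (by omega), fun _ => one_mem _⟩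
    | succ k ih =>
      intro hk x
      obtain ⟨g, hg, hgx, hg11⟩ := ih (by omega) x
      let K : Fin 5 := ⟨k, by omega⟩
      have hne : ∀ j : Fin 5, j < K → base j ≠ g (x K) := fun j hj e => by
        rw [← hgx j hj] at e
        exact (ne_of_lt hj) (x.injective (g.injective e))
      refine ⟨ev (wordsTab K (g (x K))) * g, mul_mem (hev12 _) hg, fun j hj => ?_, fun h2 => ?_⟩
      · rw [Equiv.Perm.mul_apply, hev]
        rcases Nat.lt_succ_iff_lt_or_eq.1 hj with hj | hj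
        · rw [hgx j hj]
          have hfix := word_level K (g (x K))
          generalize wordsTab K (g (x K)) = l at hfix ⊢
          induction l with
          | nil => rfl
          | cons i l ih2 =>
            rw [List.foldr_cons, ih2 fun i' hi' => hfix i' (List.mem_cons_of_mem _ hi')]
            exact (hfix i (List.mem_cons_self ..)).1 j hj
        · obtain rfl : j = K := Fin.ext hj
          exact word_check K _ hne
      · refine mul_mem ?_ (hg11 h2)
        rcases Nat.eq_zero_or_pos k with rfl | hk0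
        · have hK : K = 0 := rfl
          rw [hK, h2, h11fix g (hg11 h2)]
          exact one_mem _
        · refine Subgroup.list_prod_mem _ fun y hy => ?_
          obtain ⟨i, hi, rfl⟩ := List.mem_map.1 hy
          exact h11mem i ((word_level K _ i hi).2 hk0)
  let b₀ : Fin 5 ↪ Fin 12 := ⟨base, by decide +kernel⟩
  have htrans : MulAction.IsMultiplyPretransitive M₁₂ (Fin 12) 5 := by
    rw [MulAction.isMultiplyPretransitive_iff]
    intro x y
    obtain ⟨g, hg, hgx, -⟩ := hmove 5 le_rfl x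
    obtain ⟨h, hh, hhy, -⟩ := hmove 5 le_rfl y
    refine ⟨⟨h⁻¹ * g, mul_mem (inv_mem hh) hg⟩, DFunLike.ext _ _ fun i => ?_⟩
    show (h⁻¹ * g) (x i) = y i
    rw [Equiv.Perm.mul_apply, hgx i i.2, Equiv.Perm.inv_eq_iff_eq, hhy i i.2]
  have h12 : Nat.card M₁₂ = 95040 := by
    haveI := htrans
    rw [(CfsgLib.Spor.Sharp.isSharp_of_stabilizer M₁₂ hstab).natCard_eq (by simp), Fintype.card_fin]
    decide +kernel
  have heq : M₁₁ = M₁₂ ⊓ MulAction.stabilizer (Equiv.Perm (Fin 12)) (2 : Fin 12) := by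
    refine le_antisymm (le_inf hle fun g hg => h11fix g hg) fun g hg => ?_
    obtain ⟨hg12, hg2⟩ := Subgroup.mem_inf.1 hg
    have hg2' : g 2 = 2 := hg2
    obtain ⟨h, hh, hhx, hh11⟩ := hmove 5 le_rfl (b₀.trans g.toEmbedding)
    have h11 : h ∈ M₁₁ := hh11 (by show g (base 0) = 2; exact hg2')
    have hm : (⟨h * g, mul_mem hh hg12⟩ : M₁₂) ∈ MulAction.stabilizer M₁₂ b₀ :=
      DFunLike.ext _ _ fun i => hhx i i.2
    rw [hstab, Subgroup.mem_bot] at hm
    have hm' : h * g = 1 := congrArg Subtype.val hm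
    rw [eq_inv_of_mul_eq_one_right hm']
    exact inv_mem h11
  refine ⟨htrans, hstab, h12, ?_, heq⟩
  have hS : MulAction.stabilizer M₁₂ (2 : Fin 12) = M₁₁.subgroupOf M₁₂ := by
    ext g
    rw [heq, Subgroup.mem_subgroupOf, Subgroup.mem_inf]
    exact ⟨fun h => ⟨g.2, h⟩, fun h => h.2⟩
  have horb : MulAction.orbit M₁₂ (2 : Fin 12) = Set.univ := by
    refine Set.eq_univ_of_forall fun y => ?_
    obtain ⟨g, hg, hgx, -⟩ := hmove 5 le_rfl (b₀.trans (Equiv.swap 2 y).toEmbedding)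
    refine ⟨⟨g⁻¹, inv_mem hg⟩, ?_⟩
    show g⁻¹ 2 = y
    rw [Equiv.Perm.inv_eq_iff_eq]
    have h0 := hgx 0 (by decide)
    have e : (b₀.trans (Equiv.swap 2 y).toEmbedding) 0 = y := Equiv.swap_apply_left 2 y
    rw [e] at h0
    exact h0.symm
  have hidx := MulAction.index_stabilizer (G := M₁₂) (x := (2 : Fin 12))
  rw [horb, Set.ncard_univ, Nat.card_eq_fintype_card, Fintype.card_fin, hS] at hidx
  have hm := (M₁₁.subgroupOf M₁₂).card_mul_index
  rw [hidx, h12, Nat.card_congr (Subgroup.subgroupOfEquivOfLe hle).toEquiv] at hm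
  omega

end CfsgLib.Rec.M12Gens
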