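import Cfsg.Agent.Lib.Recog.SocleFactors
import Cfsg.Agent.Lib.FgsC.FrobeniusEven
import Cfsg.Agent.Lib.FT.Interface

/-!
Irreducible linear groups in characteristic two all of whose vector stabilisers are maximal.
-/

set_option autoImplicit false
set_option maxHeartbeats 800000

open scoped Pointwise

namespace CfsgLib.Rec.MaxVecStab

open MulAction CfsgLib.Base CfsgLib.Recog

universe u v

variable {H : Type u} [Group H] [Finite H] {V : Type v} [CommGroup V] [Finite V]
  [MulDistribMulAction H V]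

omit [Finite H] [Finite V] in
/-- An element fixing a whole orbit of a non-trivial vector is trivial. -/
theorem eq_one_of_fixes_orbit [FaithfulSMul H V]
    (hirr : ∀ W : Subgroup V, (∀ h : H, ∀ w ∈ W, h • w ∈ W) → W = ⊥ ∨ W = ⊤)
    {v : V} (hv : v ≠ 1) {x : H} (hx : ∀ h : H, x • (h • v) = h • v) : x = 1 := by
  let W : Subgroup V :=
    { carrier := {w | ∀ h : H, x • (h • w) = h • w}
      one_mem' := fun h => by simp
      mul_mem' := fun {a b} ha hb h => by simp only [smul_mul', ha h, hb h]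
      inv_mem' := fun {a} ha h => by simp only [smul_inv', ha h] }
  rcases hirr W (fun h w hw k => by rw [smul_smul k]; exact hw (k * h)) with hW | hW
  · exact absurd (Subgroup.mem_bot.1 (hW ▸ (hx : v ∈ W))) hv
  · refine FaithfulSMul.eq_of_smul_eq_smul (α := V) fun w => ?_
    have := (hW ▸ Subgroup.mem_top w : w ∈ W) 1
    rw [one_smul] at this
    rwa [one_smul]

omit [Finite V] in
/-- A commutative elementary abelian group acting without fixed points is cyclic. -/
theorem exists_zpowers_of_fpf (M : Subgroup H) (hM : IsMulCommutative M) {r : ℕ} (hr : r.Prime)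
    (hexp : ∀ x ∈ M, x ^ r = 1) (hMne : M ≠ ⊥) (h2 : ∀ v : V, v * v = 1) {v : V} (hv : v ≠ 1)
    (hf : ∀ x ∈ M, x ≠ 1 → ∀ w : V, x • w = w → w = 1) : ∃ a ∈ M, M = Subgroup.zpowers a := by
  obtain ⟨a, ha, ha1⟩ := (Subgroup.bot_or_exists_ne_one M).resolve_left hMne
  refine ⟨a, ha, le_antisymm (fun b hb => ?_) (Subgroup.zpowers_le.2 ha)⟩
  by_contra hbn
  haveI := Fact.mk hr
  have hcomm : Commute a b := congrArg Subtype.val (hM.is_comm.comm ⟨a, ha⟩ ⟨b, hb⟩)
  have norm : ∀ (x : H), x ∈ M → x ≠ 1 → ∀ w : V,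
      ∏ j ∈ Finset.range r, (x ^ j) • w = 1 := by
    intro x hx hx1 w
    refine hf x hx hx1 _ ?_
    rw [Finset.smul_prod']
    simp only [smul_smul, ← pow_succ']
    have e1 := Finset.prod_range_succ' (fun j => (x ^ j) • w) r
    rw [Finset.prod_range_succ, hexp x hx, pow_zero] at e1
    exact mul_right_cancel e1.symm
  have hab : ∀ i : ℕ, a * b ^ i ≠ 1 := by
    intro i hi
    have hai : a ∈ Subgroup.zpowers b :=
      (eq_inv_of_mul_eq_one_left hi).symm ▸ inv_mem (Subgroup.npow_mem_zpowers b i)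
    have hb1 : b ≠ 1 := fun h => hbn (h ▸ one_mem _)
    have hob : orderOf b = r := orderOf_eq_prime (hexp b hb) hb1
    have hoa : orderOf a = r := orderOf_eq_prime (hexp a ha) ha1
    have : Subgroup.zpowers a = Subgroup.zpowers b :=
      Subgroup.eq_of_le_of_card_ge (Subgroup.zpowers_le.2 hai)
        (by rw [Nat.card_zpowers, Nat.card_zpowers, hoa, hob])
    exact hbn (this ▸ Subgroup.mem_zpowers b)
  have hb1 : b ≠ 1 := fun h => hbn (h ▸ one_mem _)
  have e : ∏ i ∈ Finset.range r, ∏ j ∈ Finset.range r, ((a * b ^ i) ^ j) • v = 1 :=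
    Finset.prod_eq_one fun i _ => norm _ (mul_mem ha (pow_mem hb i)) (hab i) v
  rw [Finset.prod_comm] at e
  have hterm : ∀ j ∈ Finset.range r, j ≠ 0 →
      ∏ i ∈ Finset.range r, ((a * b ^ i) ^ j) • v = 1 := by
    intro j hj hj0
    have hbj : b ^ j ≠ 1 := by
      intro h
      have hob : orderOf b = r := orderOf_eq_prime (hexp b hb) hb1
      have := orderOf_dvd_of_pow_eq_one h
      rw [hob] at this
      exact absurd (Nat.le_of_dvd (by omega) this) (by have := Finset.mem_range.1 hj; omega)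
    have : ∀ i, ((a * b ^ i) ^ j) • v = (a ^ j) • (((b ^ j) ^ i) • v) := fun i => by
      rw [(hcomm.pow_right i).mul_pow, mul_smul, ← pow_mul, ← pow_mul, mul_comm i j]
    simp only [this]
    rw [← Finset.smul_prod', norm _ (pow_mem hb j) hbj v, smul_one]
  rw [Finset.prod_eq_single 0 hterm (fun h => absurd (Finset.mem_range.2 hr.pos) h)] at e
  simp only [pow_zero, one_smul, Finset.prod_const, Finset.card_range] at e
  rcases hr.eq_two_or_odd' with rfl | ⟨m, rfl⟩
  · refine hv (hf a ha ha1 v ?_)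
    have haa : a * a = 1 := by rw [← pow_two]; exact hexp a ha
    have hw : v * a • v = 1 := hf a ha ha1 _ (by rw [smul_mul', smul_smul, haa, one_smul, mul_comm])
    exact (mul_right_inj v).1 (hw.trans (h2 v).symm)
  · rw [pow_succ, pow_mul, pow_two, h2, one_pow, one_mul] at e
    exact hv e

omit [Finite V] in
theorem mem_normalizer_of_conj {S : Subgroup H} {x : H} (h : ∀ y ∈ S, x * y * x⁻¹ ∈ S) :
    x ∈ Subgroup.normalizer (S : Set H) := by
  let f : S → S := fun y => ⟨x * y * x⁻¹, h y y.2⟩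
  have hf : Function.Surjective f := Finite.surjective_of_injective fun y z e => Subtype.ext <| by
    simpa [f] using congrArg Subtype.val e
  refine Subgroup.mem_normalizer_iff.2 fun y => ⟨h y, fun hy => ?_⟩
  obtain ⟨z, hz⟩ := hf ⟨_, hy⟩
  have : (z : H) = y := by simpa [f] using congrArg Subtype.val hz
  exact this ▸ z.2

variable [FaithfulSMul H V] [Nontrivial V]

theorem almostSimple (hFT : CfsgLib.FT.OddOrderThm.{u}) (h2 : ∀ v : V, v * v = 1)
    (hirr : ∀ W : Subgroup V, (∀ h : H, ∀ w ∈ W, h • w ∈ W) → W = ⊥ ∨ W = ⊤)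
    (hmax : ∀ v : V, v ≠ 1 → IsCoatom (stabilizer H v)) (hns : ¬ Group.IsSolvable H) :
    ∃ T : Subgroup H, T.Normal ∧ IsSimpleGroup T ∧ ¬ IsMulCommutative T ∧
      Subgroup.centralizer (T : Set H) = ⊥ := by
  classical
  haveI : Nontrivial H := by
    by_contra h
    rw [not_nontrivial_iff_subsingleton] at h
    exact hns inferInstance
  obtain ⟨M, hMmin⟩ := exists_isMinimalNormal (G := H)
  haveI := hMmin.normal
  -- a normal subgroup fixing a vector is trivial
  have hnormalfix : ∀ (K : Subgroup H), K.Normal → ∀ v : V, v ≠ 1 → K ≤ stabilizer H v → K = ⊥ := by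
    intro K hK v hv hle
    refine (Subgroup.eq_bot_iff_forall _).2 fun x hx => eq_one_of_fixes_orbit hirr hv fun h => ?_
    have : (h⁻¹ * x * h) • v = v := hle (by simpa using hK.conj_mem x hx h⁻¹)
    rw [mul_smul, mul_smul, inv_smul_eq_iff] at this
    exact this
  have hprod : ∀ (K : Subgroup H), K.Normal → K ≠ ⊥ → ∀ v : V, v ≠ 1 →
      ∀ h : H, ∃ k ∈ K, ∃ s ∈ stabilizer H v, h = k * s := by
    intro K hK hKne v hv h
    haveI := hK
    have htop : K ⊔ stabilizer H v = ⊤ := by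
      rcases (hmax v hv).le_iff.1 (le_sup_right : stabilizer H v ≤ K ⊔ stabilizer H v) with h1 | h1
      · exact h1
      · exact absurd (hnormalfix K hK v hv (le_sup_left.trans h1.le)) hKne
    obtain ⟨k, hk, s, hs, rfl⟩ := Subgroup.mem_sup_of_normal_left.1 (htop ▸ Subgroup.mem_top h)
    exact ⟨k, hk, s, hs, rfl⟩
  -- commuting normal subgroups act semiregularly
  have hsemi : ∀ (K L : Subgroup H), L.Normal → L ≠ ⊥ →
      K ≤ Subgroup.centralizer (L : Set H) → ∀ x ∈ K, ∀ v : V, v ≠ 1 → x • v = v → x = 1 := by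
    intro K L hL hLne hKL x hx v hv hxv
    refine eq_one_of_fixes_orbit hirr hv fun h => ?_
    obtain ⟨l, hl, s, hs, rfl⟩ := hprod L hL hLne v hv h
    rw [mul_smul, show s • v = v from hs, smul_smul,
      ← Subgroup.mem_centralizer_iff.1 (hKL hx) l hl, mul_smul, hxv]
  -- no minimal normal abelian subgroup
  have hnab : ∀ K : Subgroup H, IsMinimalNormal K → ¬ Group.IsSolvable K := by
    intro K hK hKs
    haveI := hK.normal
    obtain ⟨r, hr, hel⟩ : ∃ r : ℕ, r.Prime ∧ ∀ x ∈ K, x ^ r = 1 := by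
      obtain ⟨r, hr, h⟩ := hK.exists_prime hKs
      exact ⟨r, hr, h.2.1⟩
    have hKc := hK.isMulCommutative hKs
    obtain ⟨v, hv⟩ := exists_ne (1 : V)
    have hKK : K ≤ Subgroup.centralizer (K : Set H) :=
      Subgroup.le_centralizer_iff_isMulCommutative.2 hKc
    obtain ⟨a, ha, hKa⟩ := exists_zpowers_of_fpf K hKc hr hel hK.ne_bot h2 hv
      fun x hx hx1 w hw => by_contra fun hw1 => hx1 (hsemi K K hK.normal hK.ne_bot hKK x hx w hw1 hw)
    refine hns ?_
    -- the stabiliser of `v` is abelian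
    have hSc : ∀ s ∈ stabilizer H v, ∀ t ∈ stabilizer H v, s * t = t * s := by
      intro s hs t ht
      have key : ∀ g : H, ∃ n : ℤ, g * a * g⁻¹ = a ^ n := fun g => by
        obtain ⟨n, hn⟩ := Subgroup.mem_zpowers_iff.1 (hKa ▸ Subgroup.Normal.conj_mem inferInstance a ha g)
        exact ⟨n, hn.symm⟩
      obtain ⟨n, hn⟩ := key s
      obtain ⟨m, hm⟩ := key t
      have hst : (s * t) * a * (s * t)⁻¹ = a ^ (n * m) := by
        rw [show (s * t) * a * (s * t)⁻¹ = s * (t * a * t⁻¹) * s⁻¹ by group, hm, ← conj_zpow, hn,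
          ← zpow_mul]
      have hts : (t * s) * a * (t * s)⁻¹ = a ^ (n * m) := by
        rw [show (t * s) * a * (t * s)⁻¹ = t * (s * a * s⁻¹) * t⁻¹ by group, hn, ← conj_zpow, hm,
          ← zpow_mul, mul_comm m n]
      have hc : (t * s)⁻¹ * (s * t) ∈ Subgroup.centralizer (K : Set H) := by
        rw [Subgroup.mem_centralizer_iff]
        intro y hy
        rw [SetLike.mem_coe, hKa, Subgroup.mem_zpowers_iff] at hy
        obtain ⟨i, rfl⟩ := hy
        refine (Commute.zpow_left ?_ i).eq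
        refine Commute.symm ?_
        show _ = _
        have := hst.trans hts.symm
        calc (t * s)⁻¹ * (s * t) * a
            = (t * s)⁻¹ * ((s * t) * a * (s * t)⁻¹) * (s * t) := by group
          _ = (t * s)⁻¹ * ((t * s) * a * (t * s)⁻¹) * (s * t) := by rw [this]
          _ = a * ((t * s)⁻¹ * (s * t)) := by group
      have := hsemi (Subgroup.centralizer (K : Set H)) K hK.normal hK.ne_bot le_rfl _ hc v hv
        (show (t * s)⁻¹ * (s * t) ∈ stabilizer H v from
          mul_mem (inv_mem (mul_mem ht hs)) (mul_mem hs ht))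
      exact (inv_mul_eq_one.1 this).symm
    have hq : Group.IsSolvable (H ⧸ K) := by
      refine isSolvable_of_comm fun x y => ?_
      induction x using QuotientGroup.induction_on with | H x => ?_
      induction y using QuotientGroup.induction_on with | H y => ?_
      obtain ⟨k, hk, s, hs, rfl⟩ := hprod K hK.normal hK.ne_bot v hv x
      obtain ⟨l, hl, t, ht, rfl⟩ := hprod K hK.normal hK.ne_bot v hv y
      have e1 : ((k : H) : H ⧸ K) = 1 := (QuotientGroup.eq_one_iff k).2 hk
      have e2 : ((l : H) : H ⧸ K) = 1 := (QuotientGroup.eq_one_iff l).2 hl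
      rw [QuotientGroup.mk_mul, QuotientGroup.mk_mul, e1, e2, one_mul, one_mul,
        ← QuotientGroup.mk_mul, ← QuotientGroup.mk_mul, hSc s hs t ht]
    haveI := hKs
    exact (Group.isSolvable_iff_subgroup_quotient K).2 ⟨hKs, hq⟩
  have hMns := hnab M hMmin
  -- even order of non-solvable subgroups
  have heven : ∀ K : Subgroup H, ¬ Group.IsSolvable K → ∃ t ∈ K, orderOf t = 2 := by
    intro K hK
    have hd : 2 ∣ Nat.card K := by
      by_contra hd
      exact hK (hFT K (Nat.odd_iff.2 (Nat.two_dvd_ne_zero.1 hd)))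
    obtain ⟨t, ht⟩ := exists_prime_orderOf_dvd_card' 2 hd
    exact ⟨t, t.2, by rw [Subgroup.orderOf_coe]; exact ht⟩
  have hinvfix : ∀ t : H, orderOf t = 2 → ∃ v : V, v ≠ 1 ∧ t • v = v := by
    intro t ht
    have htt : t * t = 1 := by
      have := pow_orderOf_eq_one t; rwa [ht, pow_two] at this
    obtain ⟨v, hv⟩ := exists_ne (1 : V)
    by_cases h : v * t • v = 1
    · exact ⟨v, hv, (mul_right_inj v).1 (h.trans (h2 v).symm)⟩
    · exact ⟨_, h, by rw [smul_mul', smul_smul, htt, one_smul, mul_comm]⟩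
  have hC : Subgroup.centralizer (M : Set H) = ⊥ := by
    by_contra hC
    obtain ⟨L, hLC, hLmin⟩ := exists_isMinimalNormal_le (N := Subgroup.centralizer (M : Set H)) hC
    have hML : M ≤ Subgroup.centralizer (L : Set H) := Subgroup.le_centralizer_iff.1 hLC
    obtain ⟨t, htM, ht⟩ := heven M hMns
    obtain ⟨v, hv, htv⟩ := hinvfix t ht
    have := hsemi M L hLmin.normal hLmin.ne_bot hML t htM v hv htv
    simp [this] at ht
  obtain ⟨T₀, hT₀⟩ := exists_isSocleFactor hMmin hMns
  by_cases hTM : T₀ = M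
  · subst hTM
    exact ⟨T₀, hMmin.normal, hT₀.isSimpleGroup, hT₀.not_comm, hC⟩
  exfalso
  -- choose factor and vector with largest intersection
  haveI : Nonempty (H × {v : V // v ≠ 1}) := ⟨(1, ⟨_, (exists_ne (1 : V)).choose_spec⟩)⟩
  obtain ⟨⟨g₀, v₀, hv₀⟩, hbest⟩ := Finite.exists_max (fun p : H × {v : V // v ≠ 1} =>
    Nat.card ↥(conjSub p.1 T₀ ⊓ stabilizer H p.2.1))
  set T := conjSub g₀ T₀ with hTdef
  have hT : IsSocleFactor M T := hT₀.map_conj g₀
  have hbest' : ∀ (g : H) (v : V), v ≠ 1 →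
      Nat.card ↥(conjSub g T ⊓ stabilizer H v) ≤ Nat.card ↥(T ⊓ stabilizer H v₀) := fun g v hv => by
    rw [hTdef, ← conjSub_mul]
    exact hbest (g * g₀, ⟨v, hv⟩)
  have hTMne : T ≠ M := by
    intro h
    have : conjSub g₀⁻¹ T = conjSub g₀⁻¹ M := by rw [h]
    rw [hTdef, ← conjSub_mul, inv_mul_cancel, conjSub_one] at this
    refine hTM (this.trans ?_)
    ext x
    rw [mem_conjSub, inv_inv]
    refine ⟨fun hx => ?_, fun hx => Subgroup.Normal.conj_mem inferInstance x hx g₀⟩
    simpa [mul_assoc] using Subgroup.Normal.conj_mem inferInstance _ hx g₀⁻¹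
  obtain ⟨g₁, hg₁⟩ : ∃ g, conjSub g T ≠ T := by
    by_contra h
    push Not at h
    exact hTMne (hT.iSup_conj_eq ▸ le_antisymm (le_iSup_of_le 1 (h 1).ge) (iSup_le fun g => (h g).le))
  -- consequences of a non-trivial intersection
  have hstep : ∀ (g : H) (v : V), v ≠ 1 → conjSub g T ⊓ stabilizer H v ≠ ⊥ →
      (∀ g', conjSub g' T ⊓ stabilizer H v ≠ ⊥) ∧
      (∀ g', ∃ k ∈ stabilizer H v, conjSub g' T = conjSub k (conjSub g T)) ∧
      (∀ x ∈ conjSub g T, (∀ y ∈ conjSub g T ⊓ stabilizer H v,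
          x * y * x⁻¹ ∈ conjSub g T ⊓ stabilizer H v) → x • v = v) := by
    intro g v hv hne
    have hTg := hT.map_conj g
    haveI : IsPreprimitive H (orbit H v) := by
      haveI : Nontrivial (orbit H v) := by
        by_contra hsub
        rw [not_nontrivial_iff_subsingleton] at hsub
        refine (hmax v hv).1 ((Subgroup.eq_top_iff' _).2 fun h => ?_)
        exact congrArg Subtype.val
          (Subsingleton.elim (⟨h • v, mem_orbit v h⟩ : orbit H v) ⟨v, mem_orbit_self v⟩)
      refine (isCoatom_stabilizer_iff_preprimitive H (⟨v, mem_orbit_self v⟩ : orbit H v)).1 ?_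
      convert hmax v hv using 1
      ext h; simp [mem_stabilizer_iff, Subtype.ext_iff]
    haveI : FaithfulSMul H (orbit H v) := ⟨fun {x y} h => by
      refine (inv_mul_eq_one.1 (eq_one_of_fixes_orbit (x := x⁻¹ * y) hirr hv fun k => ?_))
      have := congrArg Subtype.val (h ⟨k • v, mem_orbit v k⟩)
      simp only [orbit.coe_smul] at this
      rw [mul_smul, ← this, inv_smul_smul]⟩
    have hst : ∀ x : H, x • (⟨v, mem_orbit_self v⟩ : orbit H v) = ⟨v, mem_orbit_self v⟩ ↔ x • v = v :=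
      fun x => by simp [Subtype.ext_iff]
    have hstab : stabilizer H (⟨v, mem_orbit_self v⟩ : orbit H v) = stabilizer H v :=
      Subgroup.ext hst
    have hall : ∀ g', conjSub g' T ⊓ stabilizer H v ≠ ⊥ := by
      intro g'
      obtain ⟨k, hk, hkT⟩ := hTg.exists_conjSub_eq_stabilizer (Ω := orbit H v) (g' * g⁻¹)
        ⟨v, mem_orbit_self v⟩
      rw [← conjSub_mul, inv_mul_cancel_right] at hkT
      rw [hstab] at hk
      obtain ⟨x, hx, hx1⟩ := (Subgroup.bot_or_exists_ne_one _).resolve_left hne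
      refine fun hbot => hx1 ?_
      have hm : k * x * k⁻¹ ∈ conjSub g' T ⊓ stabilizer H v :=
        Subgroup.mem_inf.2 ⟨hkT ▸ conj_mem_conjSub hx.1, mul_mem (mul_mem hk hx.2) (inv_mem hk)⟩
      rw [hbot, Subgroup.mem_bot, conj_eq_one_iff] at hm
      exact hm
    refine ⟨hall, fun g' => ?_, ?_⟩
    · obtain ⟨k, hk, hkT⟩ := hTg.exists_conjSub_eq_stabilizer (Ω := orbit H v) (g' * g⁻¹)
        ⟨v, mem_orbit_self v⟩
      rw [← conjSub_mul, inv_mul_cancel_right] at hkT
      exact ⟨k, hstab ▸ hk, hkT⟩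
    have hprojs : ∀ x ∈ M, x • v = v → ∀ g', IsSocleFactor.comp (conjSub g' (conjSub g T)) x • v = v := by
      rcases hTg.diagonal_or_product (Ω := orbit H v) ⟨v, mem_orbit_self v⟩ with ⟨h1, -⟩ | h1
      · exact absurd (hstab ▸ h1) hne
      · exact fun x hx hxv g' => (hst _).1 (h1 x hx ((hst x).2 hxv) g')
    -- the largest subgroup of M normalising all intersections
    let L : Subgroup H :=
      M ⊓ ⨅ g', Subgroup.normalizer ((conjSub g' T ⊓ stabilizer H v : Subgroup H) : Set H)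
    have hconjnorm : ∀ k ∈ stabilizer H v, ∀ y ∈ L, k * y * k⁻¹ ∈ L := by
      intro k hk y hy
      refine ⟨Subgroup.Normal.conj_mem inferInstance y hy.1 k, Subgroup.mem_iInf.2 fun g' => ?_⟩
      have hy2 := Subgroup.mem_iInf.1 hy.2 (k⁻¹ * g')
      rw [Subgroup.mem_normalizer_iff] at hy2 ⊢
      intro z
      have hiff : ∀ w : H, w ∈ conjSub g' T ⊓ stabilizer H v ↔
          k⁻¹ * w * k ∈ conjSub (k⁻¹ * g') T ⊓ stabilizer H v := by
        intro w
        constructor
        · rintro ⟨hw1, hw2⟩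
          refine Subgroup.mem_inf.2 ⟨?_, mul_mem (mul_mem (inv_mem hk) hw2) hk⟩
          rw [conjSub_mul]
          simpa using conj_mem_conjSub (g := k⁻¹) hw1
        · rintro ⟨hw1, hw2⟩
          refine Subgroup.mem_inf.2 ⟨?_, ?_⟩
          · rw [mem_conjSub]
            have := mem_conjSub.1 hw1
            simpa [mul_assoc] using this
          · simpa [mul_assoc] using mul_mem (mul_mem hk hw2) (inv_mem hk)
      rw [hiff z, hiff, hy2 (k⁻¹ * z * k)]
      simp [mul_assoc]
    have hLH : L ≤ stabilizer H v := by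
      rcases (hmax v hv).le_iff.1 (le_sup_left : stabilizer H v ≤ stabilizer H v ⊔ L) with h1 | h1
      · exfalso
        have hLn : L.Normal := by
          rw [← Subgroup.normalizer_eq_top_iff, eq_top_iff, ← h1, sup_le_iff]
          refine ⟨fun k hk => Subgroup.mem_normalizer_iff.2 fun y =>
            ⟨hconjnorm k hk y, fun hy => ?_⟩, Subgroup.le_normalizer⟩
          simpa [mul_assoc] using hconjnorm k⁻¹ (inv_mem hk) _ hy
        have hLM : L = M := by
          refine (hMmin.eq_bot_or_eq hLn inf_le_left).resolve_left fun hb => ?_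
          refine hne ((Subgroup.eq_bot_iff_forall _).2 fun x hx => Subgroup.mem_bot.1 (hb ▸ ?_))
          refine ⟨hTg.le hx.1, Subgroup.mem_iInf.2 fun g' => ?_⟩
          have hkey : ∀ x' ∈ M ⊓ stabilizer H v, ∀ y ∈ conjSub g' T ⊓ stabilizer H v,
              x' * y * x'⁻¹ ∈ conjSub g' T ⊓ stabilizer H v := fun x' hx' y hy =>
            Subgroup.mem_inf.2 ⟨(hT.map_conj g').conj_mem x' hx'.1 y hy.1, mul_mem (mul_mem hx'.2 hy.2) (inv_mem hx'.2)⟩
          refine Subgroup.mem_normalizer_iff.2 fun y =>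
            ⟨hkey x (Subgroup.mem_inf.2 ⟨hTg.le hx.1, hx.2⟩) y, fun hy => ?_⟩
          simpa [mul_assoc] using hkey x⁻¹ (Subgroup.mem_inf.2 ⟨inv_mem (hTg.le hx.1), inv_mem hx.2⟩) _ hy
        have hTfix : ∀ g', conjSub g' T ≤ stabilizer H v := fun g' => by
          refine (((hT.map_conj g').eq_bot_or_eq_of_conj_mem
            (K := conjSub g' T ⊓ stabilizer H v) fun t ht y hy => ?_).resolve_left
              (by rw [← inf_assoc, inf_idem]; exact hall g')).trans inf_le_right
          have htL : t ∈ L := hLM ▸ (hT.map_conj g').le ht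
          exact (Subgroup.mem_normalizer_iff.1 (Subgroup.mem_iInf.1 htL.2 g') y).1 hy
        exact hMmin.ne_bot (hnormalfix M inferInstance v hv (hT.iSup_conj_eq ▸ iSup_le hTfix))
      · exact le_sup_right.trans h1.le
    intro x hx hxn
    refine hLH ⟨hTg.le hx, Subgroup.mem_iInf.2 fun g' => ?_⟩
    by_cases hgg : conjSub g' T = conjSub g T
    · rw [hgg]
      exact mem_normalizer_of_conj hxn
    · refine Subgroup.mem_normalizer_iff.2 fun y => ?_
      have hc := hTg.commute_of_ne (hT.map_conj g') (Ne.symm hgg) hx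
      constructor
      · intro hy
        rwa [← Subgroup.mem_centralizer_iff.1 hc y hy.1, mul_inv_cancel_right]
      · intro hy
        have := Subgroup.mem_centralizer_iff.1 hc _ hy.1
        rw [mul_assoc x y x⁻¹] at this
        have e : x * y * x⁻¹ = y := by
          have h3 : x * y * x⁻¹ * x = x * (x * y * x⁻¹) := by simpa [mul_assoc] using this
          simpa [mul_assoc] using h3.symm
        rwa [e] at hy
  -- the best vector
  set R := T ⊓ stabilizer H v₀ with hR
  have hT1 : conjSub 1 T = T := conjSub_one T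
  have hTns := hT.not_isSolvable
  obtain ⟨t₁, ht₁T, ht₁⟩ := heven T hTns
  obtain ⟨v₁, hv₁, htv₁⟩ := hinvfix t₁ ht₁
  have hRne : R ≠ ⊥ := by
    intro hb
    have hle := hbest' 1 v₁ hv₁
    rw [hT1, hb, Subgroup.card_bot] at hle
    have := Subgroup.eq_bot_of_card_le _ hle
    have hm : t₁ ∈ T ⊓ stabilizer H v₁ := ⟨ht₁T, htv₁⟩
    rw [this, Subgroup.mem_bot] at hm
    simp [hm] at ht₁
  obtain ⟨hall₀, htrans₀, hnorm₀⟩ := hstep 1 v₀ hv₀ (by rwa [hT1])
  rw [hT1] at hnorm₀ htrans₀
  set T' := conjSub g₁ T with hT'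
  set R' := T' ⊓ stabilizer H v₀ with hR'
  have hR'ne : R' ≠ ⊥ := hall₀ g₁
  have hnorm₀' := (hstep g₁ v₀ hv₀ hR'ne).2.2
  have hcardR' : Nat.card R' = Nat.card R := by
    apply le_antisymm (hbest' g₁ v₀ hv₀)
    obtain ⟨k, hk', hkT⟩ := htrans₀ g₁
    exact Nat.card_le_card_of_injective (fun x : R => (⟨k * x * k⁻¹, Subgroup.mem_inf.2
      ⟨by rw [hT', hkT]; exact conj_mem_conjSub x.2.1,
      mul_mem (mul_mem hk' x.2.2) (inv_mem hk')⟩⟩ : R')) fun x y h => by
        have := congrArg Subtype.val h; exact Subtype.ext (by simpa using this)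
  have hcT : ∀ a ∈ T, ∀ b ∈ T', b * a = a * b := fun a ha b hb =>
    Subgroup.mem_centralizer_iff.1 (hT.le_centralizer_of_ne (Ne.symm hg₁) ha) b hb
  -- no element moves R off itself while normalising it
  have hselfT : ∀ s ∈ T, (∀ y ∈ R, s * y * s⁻¹ ∈ R) → s ∈ R := fun s hs h =>
    ⟨hs, hnorm₀ s hs h⟩
  have hselfT' : ∀ s ∈ T', (∀ y ∈ R', s * y * s⁻¹ ∈ R') → s ∈ R' := fun s hs h =>
    ⟨hs, hnorm₀' s hs h⟩
  -- the two element vectors
  have hfix : ∀ t ∈ T, ∀ t' ∈ T', t' ∉ R' → ∀ a ∈ T,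
      a • (v₀ * t • t' • v₀) = v₀ * t • t' • v₀ → a ∈ R ∧ t⁻¹ * a * t ∈ R := by
    intro t ht t' ht' ht'R a ha hau
    have hcm : ∀ x ∈ T, x • t' • v₀ = t' • x • v₀ := fun x hx => by
      rw [smul_smul, smul_smul, hcT x hx t' ht']
    rw [smul_mul', hcm t ht, ← mul_smul a, ← hcT a ha t' ht', mul_smul] at hau
    -- hau : a•v₀ * t'•(a•t•v₀) = v₀ * t'•(t•v₀)
    set w := (a • v₀) * v₀ with hw
    have hw2 : w = t' • ((t • v₀) * (a • t • v₀)) := by
      rw [hw, smul_mul']
      have e : (a • v₀ * t' • a • t • v₀) * (v₀ * t' • a • t • v₀) =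
          (v₀ * t' • t • v₀) * (v₀ * t' • a • t • v₀) := by rw [hau]
      rwa [mul_mul_mul_comm, h2, mul_one, mul_mul_mul_comm, h2, one_mul] at e
    have hw1 : w = 1 := by
      by_contra hwne
      have hb1 : ∀ b ∈ R', b • w = w := fun b hb => by
        rw [hw, smul_mul', show b • v₀ = v₀ from hb.2, smul_smul, hcT a ha b hb.1, mul_smul,
          show b • v₀ = v₀ from hb.2]
      have hb2 : ∀ b ∈ R', (t' * b * t'⁻¹) • w = w := fun b hb => by
        rw [hw2, smul_smul, inv_mul_cancel_right, mul_smul, smul_mul' b, smul_smul b t,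
          hcT t ht b hb.1, mul_smul t b, show b • v₀ = v₀ from hb.2, smul_smul b a,
          hcT a ha b hb.1, mul_smul a b, smul_smul b t, hcT t ht b hb.1, mul_smul t b,
          show b • v₀ = v₀ from hb.2]
      have hle : R' ≤ T' ⊓ stabilizer H w := fun b hb => ⟨hb.1, hb1 b hb⟩
      have heq : R' = T' ⊓ stabilizer H w := Subgroup.eq_of_le_of_card_ge hle
        (hcardR' ▸ hbest' g₁ w hwne)
      refine ht'R (hselfT' t' ht' fun b hb => ?_)
      rw [heq]
      exact Subgroup.mem_inf.2 ⟨mul_mem (mul_mem ht' hb.1) (inv_mem ht'), hb2 b hb⟩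
    have e1 : a • v₀ = v₀ := by
      rw [hw] at hw1
      exact mul_right_cancel (hw1.trans (h2 v₀).symm)
    have e2 : a • t • v₀ = t • v₀ := by
      rw [hw2, smul_eq_iff_eq_inv_smul, smul_one] at hw1
      exact (mul_left_cancel (hw1.trans (h2 (t • v₀)).symm))
    refine ⟨Subgroup.mem_inf.2 ⟨ha, e1⟩, Subgroup.mem_inf.2 ⟨mul_mem (mul_mem (inv_mem ht) ha) ht, ?_⟩⟩
    show (t⁻¹ * a * t) • v₀ = v₀
    rw [mul_smul, mul_smul, e2, inv_smul_smul]
  have hconv : ∀ t ∈ T, ∀ t' ∈ T', ∀ a ∈ R, t⁻¹ * a * t ∈ R →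
      a • (v₀ * t • t' • v₀) = v₀ * t • t' • v₀ := by
    intro t ht t' ht' a ha hat
    rw [smul_mul', show a • v₀ = v₀ from ha.2, smul_smul a t,
      show a * t = t * (t⁻¹ * a * t) by group, mul_smul t, smul_smul _ t',
      ← hcT _ hat.1 t' ht', mul_smul t', show (t⁻¹ * a * t) • v₀ = v₀ from hat.2]
  -- `R` is proper
  have hRT : ¬ T ≤ stabilizer H v₀ := fun hle => by
    refine hMmin.ne_bot (hnormalfix M inferInstance v₀ hv₀ (hT.iSup_conj_eq ▸ iSup_le fun g x hx => ?_))
    obtain ⟨k, hk, hkT⟩ := htrans₀ g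
    rw [hkT, mem_conjSub] at hx
    have := mul_mem (mul_mem hk (hle hx)) (inv_mem hk)
    simpa [mul_assoc] using this
  -- an involution outside `R`
  obtain ⟨t, htT, htR, ht2⟩ : ∃ t ∈ T, t ∉ R ∧ orderOf t = 2 := by
    by_contra hcon
    push Not at hcon
    let S : Subgroup H := Subgroup.closure {x | x ∈ T ∧ orderOf x = 2}
    have hS : ∀ x ∈ T, ∀ y ∈ S, x * y * x⁻¹ ∈ S := by
      intro x hx y hy
      induction hy using Subgroup.closure_induction with
      | mem y hy =>
        refine Subgroup.subset_closure ⟨mul_mem (mul_mem hx hy.1) (inv_mem hx), ?_⟩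
        rw [← hy.2]
        exact orderOf_injective (MulAut.conj x).toMonoidHom (MulAut.conj x).injective y
      | one => simp
      | mul a b _ _ ha hb => simpa [mul_assoc] using mul_mem ha hb
      | inv a _ ha => simpa [mul_assoc] using inv_mem ha
    rcases hT.eq_bot_or_eq_of_conj_mem hS with h1 | h1
    · have : t₁ ∈ T ⊓ S := Subgroup.mem_inf.2 ⟨ht₁T, Subgroup.subset_closure ⟨ht₁T, ht₁⟩⟩
      rw [h1, Subgroup.mem_bot] at this
      simp [this] at ht₁
    · refine hRT (h1.trans (((Subgroup.closure_le _).2 fun x hx => ?_).trans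
        (inf_le_right : R ≤ stabilizer H v₀)))
      by_contra hxR
      exact hcon x hx.1 hxR hx.2
  -- the intersection in the other factor
  obtain ⟨t', ht'T, ht'R, a', ha'R, ha'1, ha'c⟩ : ∃ t' ∈ T', t' ∉ R' ∧
      ∃ a ∈ R', a ≠ 1 ∧ t'⁻¹ * a * t' ∈ R' := by
    by_contra hcon
    push Not at hcon
    have hT'f := hT.map_conj g₁
    haveI := hT'f.isSimpleGroup
    have hfc : Cfsg.IsFrobeniusComplement (R'.subgroupOf T') := by
      refine ⟨fun h => ?_, fun h => ?_, fun g hg => ?_⟩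
      · obtain ⟨x, hx, hx1⟩ := (Subgroup.bot_or_exists_ne_one _).resolve_left hR'ne
        have hx' : (⟨x, hx.1⟩ : T') ∈ R'.subgroupOf T' := hx
        rw [h, Subgroup.mem_bot] at hx'
        exact hx1 (congrArg Subtype.val hx')
      · obtain ⟨k, hk, hkT⟩ := htrans₀ g₁
        refine hRT fun x hx => ?_
        have hx' : k * x * k⁻¹ ∈ T' := by rw [hT', hkT]; exact conj_mem_conjSub hx
        have h3 : (⟨_, hx'⟩ : T') ∈ R'.subgroupOf T' := h ▸ Subgroup.mem_top _
        have h4 := mul_mem (mul_mem (inv_mem hk) (Subgroup.mem_subgroupOf.1 h3).2) hk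
        simpa [mul_assoc] using h4
      · refine (Subgroup.eq_bot_iff_forall _).2 fun x hx => ?_
        obtain ⟨hx1, hx2⟩ := Subgroup.mem_inf.1 hx
        rw [Subgroup.mem_pointwise_smul_iff_inv_smul_mem, ← map_inv, MulAut.smul_def, MulAut.conj_apply,
          inv_inv] at hx2
        by_contra hne
        exact hcon g g.2 (fun h => hg (Subgroup.mem_subgroupOf.2 h)) x hx1
          (fun h => hne (Subtype.ext h)) hx2
    obtain ⟨N, hN, -, hNcard, hNne, -⟩ := CfsgLib.FgsC.exists_kernel _ hfc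
    rcases IsSimpleGroup.eq_bot_or_eq_top_of_normal N hN with h | h
    · exact hNne h
    · rw [h, Subgroup.card_top] at hNcard
      refine hfc.1 (Subgroup.eq_bot_of_card_eq _ ?_)
      have h5 := (R'.subgroupOf T').card_mul_index
      rw [← hNcard] at h5
      exact (Nat.mul_eq_right (Nat.card_pos (α := T')).ne').1 h5
  set u := v₀ * t • t' • v₀ with hu
  have hu1 : u ≠ 1 := by
    intro h
    have e : t • t' • v₀ = v₀ := (mul_left_cancel ((h2 v₀).trans h.symm)).symm
    rw [smul_smul] at e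
    refine htR (hselfT t htT fun y hy => ?_)
    have hm := Subgroup.mem_inf.1 hy
    refine Subgroup.mem_inf.2 ⟨mul_mem (mul_mem htT hm.1) (inv_mem htT), ?_⟩
    have e2 : t * y * t⁻¹ = (t * t') * y * (t * t')⁻¹ := by
      rw [show (t * t') * y * (t * t')⁻¹ = t * (t' * y * t'⁻¹) * t⁻¹ by group,
        hcT y hm.1 t' ht'T, mul_inv_cancel_right]
    rw [e2]
    exact mul_mem (mul_mem (show t * t' ∈ stabilizer H v₀ from e) hm.2) (inv_mem e)
  have ha'u : a' • u = u := by
    rw [hu, smul_mul', show a' • v₀ = v₀ from ha'R.2, smul_smul a' t, hcT t htT a' ha'R.1,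
      mul_smul t, smul_smul a' t', show a' * t' = t' * (t'⁻¹ * a' * t') by group, mul_smul t',
      show (t'⁻¹ * a' * t') • v₀ = v₀ from ha'c.2]
  have hne : conjSub g₁ T ⊓ stabilizer H u ≠ ⊥ := fun hb => ha'1 (by
    have : a' ∈ conjSub g₁ T ⊓ stabilizer H u := Subgroup.mem_inf.2 ⟨ha'R.1, ha'u⟩
    rwa [hb, Subgroup.mem_bot] at this)
  obtain ⟨hallu, -, -⟩ := hstep g₁ u hu1 hne
  obtain ⟨-, -, hnormu⟩ := hstep 1 u hu1 (hallu 1)
  rw [hT1] at hnormu
  have htt : t⁻¹ = t := inv_eq_of_mul_eq_one_right (by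
    have := pow_orderOf_eq_one t; rwa [ht2, pow_two] at this)
  refine htR (hfix t htT t' ht'T ht'R t htT (hnormu t htT fun a ha => ?_)).1
  obtain ⟨haR, hatR⟩ := hfix t htT t' ht'T ht'R a ha.1 ha.2
  rw [htt] at hatR
  refine Subgroup.mem_inf.2 ⟨mul_mem (mul_mem htT ha.1) (inv_mem htT), ?_⟩
  rw [htt]
  refine hconv t htT t' ht'T _ hatR ?_
  rw [htt, show t * (t * a * t) * t = (t * t) * a * (t * t) by group,
    show t * t = 1 by nth_rewrite 1 [← htt]; exact inv_mul_cancel t, one_mul, mul_one]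
  exact haR

end CfsgLib.Rec.MaxVecStab
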