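import Mathlib

/-!
The group `3 ≀ Sym(3)` of order 162.
-/

set_option autoImplicit false

namespace CfsgLib.Rec.Order162

open Subgroup

/-- Normal forms. -/
abbrev NF : Type := (ZMod 3 × ZMod 3 × ZMod 3) × ZMod 3 × ZMod 2

variable {H : Type*} [Group H]

/-- Generators with the defining relations. -/
structure Rels (a x t : H) : Prop where
  a3 : a ^ 3 = 1
  x3 : x ^ 3 = 1
  t2 : t * t = 1
  comm : Commute a (x * a * x⁻¹)
  ta : t * a * t⁻¹ = a
  tx : t * x * t⁻¹ = x⁻¹

/-- the conjugates of `a` -/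
def cj (a x : H) (i : ZMod 3) : H := x ^ i.val * a * (x ^ i.val)⁻¹

/-- the element with given normal form -/
def ev (a x t : H) (n : NF) : H :=
  cj a x 0 ^ n.1.1.val * cj a x 1 ^ n.1.2.1.val * cj a x 2 ^ n.1.2.2.val * x ^ n.2.1.val *
    t ^ n.2.2.val

variable {a x t : H}

theorem pow_val_add {g : H} {m : ℕ} [NeZero m] (hg : g ^ m = 1) (i j : ZMod m) :
    g ^ (i + j).val = g ^ i.val * g ^ j.val := by
  rw [← pow_add, ZMod.val_add, pow_mod_natCast_self hg]
where
  pow_mod_natCast_self {k : ℕ} (hg : g ^ m = 1) : g ^ (k % m) = g ^ k := by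
    conv_rhs => rw [← Nat.mod_add_div k m, pow_add, pow_mul, hg, one_pow, mul_one]

theorem cj_shift (h : Rels a x t) (i j : ZMod 3) :
    x ^ j.val * cj a x i * (x ^ j.val)⁻¹ = cj a x (j + i) := by
  simp only [cj, pow_val_add h.x3]; group

theorem cj_comm (h : Rels a x t) (i j : ZMod 3) : Commute (cj a x i) (cj a x j) := by
  have key : ∀ k : ZMod 3, Commute (cj a x k) (cj a x (k + 1)) := fun k => by
    have h0 : Commute (cj a x 0) (cj a x 1) := by
      simpa [cj, show ((1 : ZMod 3).val) = 1 from rfl] using h.comm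
    have h1 := h0.map (MulAut.conj (x ^ k.val)).toMonoidHom
    simp only [MulEquiv.toMonoidHom_eq_coe, MonoidHom.coe_coe, MulAut.conj_apply, cj_shift h,
      add_zero] at h1
    exact h1
  rcases (show ∀ i j : ZMod 3, j = i ∨ j = i + 1 ∨ i = j + 1 by decide) i j with rfl | rfl | rfl
  · exact Commute.refl _
  · exact key i
  · exact (key j).symm

theorem cj_three (h : Rels a x t) (i : ZMod 3) : cj a x i ^ 3 = 1 := by
  simp [cj, conj_pow, h.a3]

theorem t_x (h : Rels a x t) (i : ZMod 3) : t * x ^ i.val * t⁻¹ = x ^ (-i).val := by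
  rw [← conj_pow, h.tx, inv_pow, inv_eq_iff_mul_eq_one, ← pow_val_add h.x3, add_neg_cancel, ZMod.val_zero, pow_zero]

theorem t_cj (h : Rels a x t) (i : ZMod 3) : t * cj a x i * t⁻¹ = cj a x (-i) := by
  have e : t * cj a x i * t⁻¹ =
      (t * x ^ i.val * t⁻¹) * (t * a * t⁻¹) * (t * x ^ i.val * t⁻¹)⁻¹ := by simp [cj]; group
  rw [e, t_x h, h.ta]; rfl

/-- `v = a₀ ^ v₀ a₁ ^ v₁ a₂ ^ v₂` -/
def vec (a x : H) (v : ZMod 3 × ZMod 3 × ZMod 3) : H :=
  cj a x 0 ^ v.1.val * cj a x 1 ^ v.2.1.val * cj a x 2 ^ v.2.2.val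

theorem vec_add (h : Rels a x t) (v w : ZMod 3 × ZMod 3 × ZMod 3) :
    vec a x (v + w) = vec a x v * vec a x w := by
  simp only [vec, Prod.fst_add, Prod.snd_add, pow_val_add (cj_three h _)]
  have c : ∀ i j : ZMod 3, ∀ m k : ℕ, cj a x i ^ m * cj a x j ^ k = cj a x j ^ k * cj a x i ^ m :=
    fun i j m k => ((cj_comm h i j).pow_pow m k).eq
  simp only [mul_assoc]
  congr 1
  rw [← mul_assoc (cj a x 0 ^ w.1.val), c 0 1 w.1.val v.2.1.val]
  simp only [mul_assoc]
  congr 1
  rw [← mul_assoc (cj a x 1 ^ w.2.1.val), c 1 2 w.2.1.val v.2.2.val]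
  simp only [mul_assoc]
  rw [← mul_assoc (cj a x 0 ^ w.1.val), c 0 2 w.1.val v.2.2.val]
  simp only [mul_assoc]

/-- cyclic shift -/
def shift (l : ZMod 3) (v : ZMod 3 × ZMod 3 × ZMod 3) : ZMod 3 × ZMod 3 × ZMod 3 :=
  if l = 0 then v else if l = 1 then (v.2.2, v.1, v.2.1) else (v.2.1, v.2.2, v.1)

/-- reflection -/
def refl' (m : ZMod 2) (v : ZMod 3 × ZMod 3 × ZMod 3) : ZMod 3 × ZMod 3 × ZMod 3 :=
  if m = 0 then v else (v.1, v.2.2, v.2.1)

theorem vec_conj_x (h : Rels a x t) (l : ZMod 3) (v : ZMod 3 × ZMod 3 × ZMod 3) :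
    x ^ l.val * vec a x v * (x ^ l.val)⁻¹ = vec a x (shift l v) := by
  have e : x ^ l.val * vec a x v * (x ^ l.val)⁻¹ =
      (x ^ l.val * cj a x 0 * (x ^ l.val)⁻¹) ^ v.1.val *
      (x ^ l.val * cj a x 1 * (x ^ l.val)⁻¹) ^ v.2.1.val *
      (x ^ l.val * cj a x 2 * (x ^ l.val)⁻¹) ^ v.2.2.val := by
    simp only [vec, conj_pow]; group
  rw [e, cj_shift h, cj_shift h, cj_shift h]
  have c : ∀ i j : ZMod 3, ∀ m k : ℕ, cj a x i ^ m * cj a x j ^ k = cj a x j ^ k * cj a x i ^ m :=
    fun i j m k => ((cj_comm h i j).pow_pow m k).eq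
  rcases (show ∀ l : ZMod 3, l = 0 ∨ l = 1 ∨ l = 2 by decide) l with rfl | rfl | rfl
  · simp [shift, vec]
  · rw [show (1 : ZMod 3) + 0 = 1 from rfl, show (1 : ZMod 3) + 1 = 2 from rfl,
      show (1 : ZMod 3) + 2 = 0 from rfl]
    simp only [shift, vec, show ¬ (1 : ZMod 3) = 0 by decide, if_false, if_true]
    rw [c 1 2, mul_assoc, c 1 0, ← mul_assoc, c 2 0, mul_assoc, c 2 1, ← mul_assoc]
  · rw [show (2 : ZMod 3) + 0 = 2 from rfl, show (2 : ZMod 3) + 1 = 0 from rfl,
      show (2 : ZMod 3) + 2 = 1 from rfl]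
    simp only [shift, vec, show ¬ (2 : ZMod 3) = 0 by decide, show ¬ (2 : ZMod 3) = 1 by decide,
      if_false]
    rw [c 2 0, mul_assoc, c 2 1, ← mul_assoc]

theorem vec_conj_t (h : Rels a x t) (m : ZMod 2) (v : ZMod 3 × ZMod 3 × ZMod 3) :
    t ^ m.val * vec a x v * (t ^ m.val)⁻¹ = vec a x (refl' m v) := by
  rcases (show ∀ m : ZMod 2, m = 0 ∨ m = 1 by decide) m with rfl | rfl
  · simp [refl']
  · rw [show (1 : ZMod 2).val = 1 from rfl, pow_one]
    have e : t * vec a x v * t⁻¹ = (t * cj a x 0 * t⁻¹) ^ v.1.val * (t * cj a x 1 * t⁻¹) ^ v.2.1.val *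
        (t * cj a x 2 * t⁻¹) ^ v.2.2.val := by
      simp only [vec, conj_pow]; group
    rw [e, t_cj h, t_cj h, t_cj h, neg_zero, show -(1 : ZMod 3) = 2 from rfl,
      show -(2 : ZMod 3) = 1 from rfl]
    simp only [refl', vec, show ¬ (1 : ZMod 2) = 0 by decide, if_false, mul_assoc]
    rw [((cj_comm h 2 1).pow_pow _ _).eq]

theorem span_all : ∀ d : ZMod 3 × ZMod 3 × ZMod 3, d ≠ 0 → ∃ c0 c1 c2 : ZMod 3,
    c0 • d + c1 • (d.2.2, d.1, d.2.1) + c2 • (d.2.1, d.2.2, d.1) =
      ((1, 1, 1) : ZMod 3 × ZMod 3 × ZMod 3) := by decide +kernel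

theorem three_cases : ∀ c : ZMod 3, c = 0 ∨ c = 1 ∨ c = 1 + 1 := by decide

/-- The product of normal forms. -/
def op (n m : NF) : NF :=
  (n.1 + shift n.2.1 (refl' n.2.2 m.1), n.2.1 + (if n.2.2 = 0 then m.2.1 else -m.2.1), n.2.2 + m.2.2)

theorem ev_mul (h : Rels a x t) (n m : NF) : ev a x t n * ev a x t m = ev a x t (op n m) := by
  obtain ⟨v, l, e⟩ := n
  obtain ⟨w, k, f⟩ := m
  show vec a x v * x ^ l.val * t ^ e.val * (vec a x w * x ^ k.val * t ^ f.val) =
    vec a x (v + shift l (refl' e w)) * x ^ (l + if e = 0 then k else -k).val * t ^ (e + f).val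
  rw [vec_add h, ← vec_conj_x h, ← vec_conj_t h, pow_val_add h.x3,
    pow_val_add (show t ^ 2 = 1 by rw [pow_two]; exact h.t2)]
  rcases (show ∀ m : ZMod 2, m = 0 ∨ m = 1 by decide) e with rfl | rfl
  · simp; group
  · simp only [show ¬ (1 : ZMod 2) = 0 by decide, if_false, show (1 : ZMod 2).val = 1 from rfl, pow_one]
    rw [← t_x h]; group

/-- A group of order 162 with such generators is determined. -/
theorem exists_iso [Finite H] {K : Type*} [Group K] [Finite K] {b y s : K} (h : Rels a x t)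
    (hk : Rels b y s) (hH : Function.Bijective (ev a x t)) (hK : Function.Bijective (ev b y s)) :
    Nonempty (H ≃* K) := by
  let e : H ≃ K := (Equiv.ofBijective _ hH).symm.trans (Equiv.ofBijective _ hK)
  refine ⟨{ e with map_mul' := fun g g' => ?_ }⟩
  obtain ⟨n, rfl⟩ := hH.2 g
  obtain ⟨m, rfl⟩ := hH.2 g'
  have he : ∀ n, e (ev a x t n) = ev b y s n := fun n => by
    show (Equiv.ofBijective _ hK) ((Equiv.ofBijective _ hH).symm _) = _
    rw [show ev a x t n = Equiv.ofBijective _ hH n from rfl, Equiv.symm_apply_apply]; rfl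
  show e (_ * _) = e _ * e _
  rw [ev_mul h, he, he, he, ev_mul hk]

theorem exists_rels [Finite H] (hG : Nat.card H = 162)
    (S : Sylow 3 H) (T : Sylow 2 H) (J : Subgroup H) [hJn : J.Normal] (hJcomm : IsMulCommutative J)
    (hJexp : ∀ a ∈ J, a ^ 3 = 1) (hJcard : Nat.card J = 27)
    (Z : Subgroup H) (hZ : Z = (S : Subgroup H) ⊓ centralizer ((S : Subgroup H) : Set H))
    (hZcard : Nat.card Z = 3) (hZT : Z ≤ centralizer ((T : Subgroup H) : Set H))
    (hST : (S : Subgroup H) ⊓ centralizer ((T : Subgroup H) : Set H) ≠ S) :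
    ∃ a x t : H, Rels a x t ∧ Function.Bijective (ev a x t) := by
  classical
  haveI : Fact (Nat.Prime 3) := ⟨Nat.prime_three⟩
  haveI : Fact (Nat.Prime 2) := ⟨Nat.prime_two⟩
  have hScard : Nat.card (S : Subgroup H) = 81 := by
    rw [Sylow.card_eq_multiplicity, hG, show Nat.factorization 162 3 = 4 by
      rw [Nat.factorization_def _ Nat.prime_three, show (162 : ℕ) = 3 ^ 4 * 2 from rfl,
        padicValNat.mul (by norm_num) (by norm_num), padicValNat.prime_pow,
        padicValNat.eq_zero_of_not_dvd (by norm_num)]]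
    rfl
  have hTcard : Nat.card (T : Subgroup H) = 2 := by
    rw [Sylow.card_eq_multiplicity, hG, show Nat.factorization 162 2 = 1 by
      rw [Nat.factorization_def _ Nat.prime_two, show (162 : ℕ) = 2 ^ 1 * 81 from rfl,
        padicValNat.mul (by norm_num) (by norm_num), padicValNat.prime_pow,
        padicValNat.eq_zero_of_not_dvd (by norm_num)]]
    rfl
  have hSidx : (S : Subgroup H).index = 2 := by
    have := (S : Subgroup H).card_mul_index; rw [hScard, hG] at this; omega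
  haveI hSn : (S : Subgroup H).Normal := Subgroup.normal_of_index_eq_two hSidx
  have hJS : J ≤ S := by
    have hJp : IsPGroup 3 J := IsPGroup.of_card (n := 3) (by rw [hJcard]; rfl)
    obtain ⟨S', hS'⟩ := hJp.exists_le_sylow
    haveI : Subsingleton (Sylow 3 H) := Sylow.unique_of_normal S hSn |>.instSubsingleton
    exact (Subsingleton.elim S' S) ▸ hS'
  obtain ⟨⟨t, htT⟩, ht1⟩ : ∃ t : (T : Subgroup H), orderOf t = 2 :=
    exists_prime_orderOf_dvd_card' 2 (by rw [hTcard])
  rw [Subgroup.orderOf_mk] at ht1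
  have ht2 : t * t = 1 := by have := pow_orderOf_eq_one t; rwa [ht1, pow_two] at this
  have htinv : t⁻¹ = t := inv_eq_of_mul_eq_one_right ht2
  have hTeq : (T : Subgroup H) = zpowers t :=
    (eq_of_le_of_card_ge (zpowers_le.2 htT) (by rw [Nat.card_zpowers, ht1, hTcard])).symm
  obtain ⟨y, hyS, hyJ⟩ : ∃ y ∈ (S : Subgroup H), y ∉ J := SetLike.not_le_iff_exists.1 fun hle => by
    have := Subgroup.card_le_of_le hle; omega
  have hJy : J ⊔ zpowers y = (S : Subgroup H) := by
    refine eq_of_le_of_card_ge (sup_le hJS (zpowers_le.2 hyS)) ?_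
    have hd : Nat.card ↥(J ⊔ zpowers y) ∣ 3 ^ 4 := by
      rw [show (3 : ℕ) ^ 4 = 81 from rfl, ← hScard]
      exact Subgroup.card_dvd_of_le (sup_le hJS (zpowers_le.2 hyS))
    obtain ⟨k, hk, hk'⟩ := (Nat.dvd_prime_pow Nat.prime_three).1 hd
    have hlt : J < J ⊔ zpowers y := lt_of_le_of_ne le_sup_left fun e =>
      hyJ (e ▸ mem_sup_right (mem_zpowers y))
    have h27 : 27 < 3 ^ k := by
      rw [← hk', ← hJcard]
      by_contra hh
      exact hlt.ne (eq_of_le_of_card_ge hlt.le (by omega))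
    have hk4 : 4 ≤ k := by
      by_contra hh
      have : 3 ^ k ≤ 3 ^ 3 := Nat.pow_le_pow_right (by norm_num) (by omega)
      omega
    rw [hScard, hk', show (81 : ℕ) = 3 ^ 4 from rfl]
    exact Nat.pow_le_pow_right (by norm_num) hk4
  have hJc : ∀ u ∈ J, ∀ v ∈ J, u * v = v * u := fun u hu v hv =>
    congrArg Subtype.val (hJcomm.is_comm.comm ⟨u, hu⟩ ⟨v, hv⟩)
  -- an element of J commuting with y is central in S
  have hcentral : ∀ u ∈ J, u * y = y * u → u ∈ Z := by
    intro u hu huy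
    rw [hZ]
    refine mem_inf.2 ⟨hJS hu, ?_⟩
    rw [mem_centralizer_iff]
    intro w hw
    have hle : (S : Subgroup H) ≤ centralizer {u} := by
      rw [← hJy, sup_le_iff, zpowers_le]
      exact ⟨fun v hv => mem_centralizer_singleton_iff.2 (hJc v hv u hu),
        mem_centralizer_singleton_iff.2 huy.symm⟩
    exact mem_centralizer_singleton_iff.1 (hle hw)
  have hZJ : Z ≤ J := by
    intro z hz
    by_contra hzJ
    rw [hZ, mem_inf, mem_centralizer_iff] at hz
    have hyz : ∀ u ∈ J, u ∈ Z := fun u hu => hcentral u hu (by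
      have hJz : J ⊔ zpowers z = (S : Subgroup H) := by
        refine le_antisymm (sup_le hJS (zpowers_le.2 hz.1)) ?_
        have hd : Nat.card ↥(J ⊔ zpowers z) ∣ 3 ^ 4 := by
          rw [show (3 : ℕ) ^ 4 = 81 from rfl, ← hScard]
          exact Subgroup.card_dvd_of_le (sup_le hJS (zpowers_le.2 hz.1))
        obtain ⟨k, hk, hk'⟩ := (Nat.dvd_prime_pow Nat.prime_three).1 hd
        have hlt : J < J ⊔ zpowers z := lt_of_le_of_ne le_sup_left fun e =>
          hzJ (e ▸ mem_sup_right (mem_zpowers z))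
        have h27 : 27 < 3 ^ k := by
          rw [← hk', ← hJcard]
          by_contra hh
          exact hlt.ne (eq_of_le_of_card_ge hlt.le (by omega))
        have hk4 : 4 ≤ k := by
          by_contra hh
          have : 3 ^ k ≤ 3 ^ 3 := Nat.pow_le_pow_right (by norm_num) (by omega)
          omega
        refine (eq_of_le_of_card_ge (sup_le hJS (zpowers_le.2 hz.1)) ?_).ge
        rw [hScard, hk', show (81 : ℕ) = 3 ^ 4 from rfl]
        exact Nat.pow_le_pow_right (by norm_num) hk4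
      have hle : (S : Subgroup H) ≤ centralizer {u} := by
        rw [← hJz, sup_le_iff, zpowers_le]
        exact ⟨fun v hv => mem_centralizer_singleton_iff.2 (hJc v hv u hu),
          mem_centralizer_singleton_iff.2 (hz.2 u (hJS hu)).symm⟩
      exact (mem_centralizer_singleton_iff.1 (hle hyS)).symm)
    have := Subgroup.card_le_of_le (show J ≤ Z from hyz)
    omega
  -- the norm
  have hconj : ∀ g : H, ∀ u ∈ J, g * u * g⁻¹ ∈ J := fun g u hu => hJn.conj_mem u hu g
  let D : J →* J := MonoidHom.mk' (fun u => ⟨y * u * y⁻¹ * (u : H)⁻¹, mul_mem (hconj y u u.2) (inv_mem u.2)⟩)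
    fun u v => Subtype.ext (by
      show y * (u * v : H) * y⁻¹ * (u * v : H)⁻¹ = _ * (y * v * y⁻¹ * (v : H)⁻¹)
      have := hJc _ (inv_mem u.2) _ (mul_mem (hconj y v v.2) (inv_mem v.2))
      rw [mul_assoc (y * ↑u * y⁻¹) ((u : H)⁻¹), this]
      group)
  have hker : Nat.card D.ker ≤ 3 := by
    rw [← hZcard]
    refine Nat.card_le_card_of_injective (fun u : D.ker => (⟨(u.1 : H), hcentral _ u.1.2 ?_⟩ : Z)) ?_
    · have h1 : y * (u.1 : H) * y⁻¹ * (u.1 : H)⁻¹ = 1 := congrArg Subtype.val (MonoidHom.mem_ker.1 u.2)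
      rw [mul_inv_eq_one, mul_inv_eq_iff_eq_mul] at h1
      exact h1.symm
    · intro u v e
      exact Subtype.ext (Subtype.ext (congrArg Subtype.val e :))
  let N : H → H := fun u => u * (y * u * y⁻¹) * (y * (y * u * y⁻¹) * y⁻¹)
  have hy3 : ∀ u ∈ J, y * (y * (y * u * y⁻¹) * y⁻¹) * y⁻¹ = u := by
    intro u hu
    have hy3J : y ^ 3 ∈ J := by
      by_contra hn
      have h9 : (J.subgroupOf S).index = 3 := by
        have := (J.subgroupOf (S : Subgroup H)).card_mul_index
        rw [Nat.card_congr (Subgroup.subgroupOfEquivOfLe hJS).toEquiv, hJcard, hScard] at this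
        omega
      have := Subgroup.pow_index_mem (J.subgroupOf (S : Subgroup H)) ⟨y, hyS⟩
      rw [h9] at this
      exact hn this
    calc y * (y * (y * u * y⁻¹) * y⁻¹) * y⁻¹ = y ^ 3 * u * (y ^ 3)⁻¹ := by
          simp only [pow_succ, pow_zero, one_mul]; group
      _ = u := by rw [hJc _ hy3J u hu, mul_inv_cancel_right]
  obtain ⟨v, hv, hNv⟩ : ∃ v ∈ J, N v ≠ 1 := by
    by_contra hall
    push Not at hall
    have hle : D.range ≤ D.ker := by
      rintro _ ⟨u, rfl⟩
      rw [MonoidHom.mem_ker]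
      have h0 := hall u u.2
      refine Subtype.ext ?_
      show y * (y * u * y⁻¹ * (u : H)⁻¹) * y⁻¹ * (y * u * y⁻¹ * (u : H)⁻¹)⁻¹ = 1
      set u1 := y * (u : H) * y⁻¹ with hu1
      set u2 := y * u1 * y⁻¹ with hu2
      have m1 : u1 ∈ J := hconj _ _ u.2
      have m2 : u2 ∈ J := hconj _ _ m1
      have e : y * (u1 * (u : H)⁻¹) * y⁻¹ * (u1 * (u : H)⁻¹)⁻¹ = u2 * (u1 ^ 2)⁻¹ * u := by
        have e1 : y * (u1 * (u : H)⁻¹) * y⁻¹ = u2 * u1⁻¹ := by simp only [hu2, hu1]; group
        rw [e1, show (u1 * (u : H)⁻¹)⁻¹ = (u : H) * u1⁻¹ by group, mul_assoc u2, ← mul_assoc u1⁻¹,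
          hJc _ (inv_mem m1) _ u.2, mul_assoc (u : H), hJc _ u.2 _ (mul_mem (inv_mem m1) (inv_mem m1)),
          ← mul_assoc]
        simp only [pow_two, mul_inv_rev, mul_assoc]
      rw [e, show (u1 ^ 2)⁻¹ = u1 from inv_eq_of_mul_eq_one_right (by rw [← pow_succ]; exact hJexp _ m1),
        mul_assoc, hJc _ m1 _ u.2, hJc _ m2 _ (mul_mem u.2 m1)]
      exact h0
    have h1 := Subgroup.card_le_of_le hle
    have h2 := D.ker.card_mul_index
    rw [Subgroup.index_ker, hJcard] at h2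
    nlinarith
  have hNmul : ∀ u ∈ J, ∀ w ∈ J, N (u * w) = N u * N w := by
    intro u hu w hw
    simp only [N]
    set u1 := y * u * y⁻¹ with hu1
    set w1 := y * w * y⁻¹ with hw1
    have a1 : u1 ∈ J := hconj _ _ hu
    have a2 : w1 ∈ J := hconj _ _ hw
    set u2 := y * u1 * y⁻¹ with hu2
    set w2 := y * w1 * y⁻¹ with hw2
    have b1 : u2 ∈ J := hconj _ _ a1
    rw [show y * (u * w) * y⁻¹ = u1 * w1 by rw [hu1, hw1]; group,
      show y * (u1 * w1) * y⁻¹ = u2 * w2 by rw [hu2, hw2]; group]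
    calc u * w * (u1 * w1) * (u2 * w2) = u * (w * u1) * (w1 * u2) * w2 := by group
      _ = u * (u1 * w) * (u2 * w1) * w2 := by rw [hJc w hw u1 a1, hJc w1 a2 u2 b1]
      _ = u * u1 * (w * u2) * (w1 * w2) := by group
      _ = u * u1 * (u2 * w) * (w1 * w2) := by rw [hJc w hw u2 b1]
      _ = u * u1 * u2 * (w * w1 * w2) := by group
  have hNy : ∀ u ∈ J, y * N u * y⁻¹ = N u := by
    intro u hu
    simp only [N]
    have e : y * (u * (y * u * y⁻¹) * (y * (y * u * y⁻¹) * y⁻¹)) * y⁻¹ =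
        (y * u * y⁻¹) * (y * (y * u * y⁻¹) * y⁻¹) * (y * (y * (y * u * y⁻¹) * y⁻¹) * y⁻¹) := by group
    rw [e, hy3 u hu, hJc _ (mul_mem (hconj y u hu) (hconj y _ (hconj y u hu))) u hu, ← mul_assoc]
  have hNJ : ∀ u ∈ J, N u ∈ J := fun u hu =>
    mul_mem (mul_mem hu (hconj y u hu)) (hconj y _ (hconj y u hu))
  have hNZ : ∀ u ∈ J, N u ∈ Z := fun u hu => hcentral _ (hNJ u hu) (by
    have := hNy u hu; rw [mul_inv_eq_iff_eq_mul] at this; exact this.symm)
  have htz : ∀ z ∈ Z, t * z * t⁻¹ = z := fun z hz => by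
    rw [mem_centralizer_iff.1 (hZT hz) t htT, mul_inv_cancel_right]
  -- action of t on S / J
  set y' := t * y * t⁻¹ with hy'
  have hy'S : y' ∈ (S : Subgroup H) := hSn.conj_mem y hyS t
  obtain ⟨j, hj, i, hi⟩ : ∃ j ∈ J, ∃ i : ℤ, j * y ^ i = y' := by
    obtain ⟨j, hj, w, hw, e⟩ := mem_sup_of_normal_left.1 (hJy.symm ▸ hy'S)
    obtain ⟨i, rfl⟩ := mem_zpowers_iff.1 hw
    exact ⟨j, hj, i, e⟩
  -- conjugation by a coset representative
  have hconjy' : ∀ u ∈ J, y' * u * y'⁻¹ = y ^ i * u * (y ^ i)⁻¹ := fun u hu => by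
    rw [← hi, mul_inv_rev, show j * y ^ i * u * ((y ^ i)⁻¹ * j⁻¹) = j * (y ^ i * u * (y ^ i)⁻¹) * j⁻¹ by group,
      hJc j hj _ (hconj _ u hu), mul_inv_cancel_right]
  have hi3 : ∀ u ∈ J, y ^ i * u * (y ^ i)⁻¹ = y ^ ((i % 3).toNat) * u * (y ^ ((i % 3).toNat))⁻¹ := by
    intro u hu
    have hy3J : y ^ (3 : ℤ) ∈ J := by
      have h9 : (J.subgroupOf S).index = 3 := by
        have := (J.subgroupOf (S : Subgroup H)).card_mul_index
        rw [Nat.card_congr (Subgroup.subgroupOfEquivOfLe hJS).toEquiv, hJcard, hScard] at this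
        omega
      have := Subgroup.pow_index_mem (J.subgroupOf (S : Subgroup H)) ⟨y, hyS⟩
      rw [h9] at this
      rw [show (3 : ℤ) = ((3 : ℕ) : ℤ) from rfl, zpow_natCast]; exact this
    have hsplit : y ^ i = y ^ ((i % 3).toNat) * (y ^ (3 : ℤ)) ^ (i / 3) := by
      rw [← zpow_natCast, Int.toNat_of_nonneg (Int.emod_nonneg _ (by norm_num)), ← zpow_mul, ← zpow_add,
        Int.emod_add_mul_ediv]
    rw [hsplit, mul_assoc (y ^ ((i % 3).toNat)), hJc _ (zpow_mem hy3J _) u hu]
    group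
  have hcases : (i % 3).toNat = 0 ∨ (i % 3).toNat = 1 ∨ (i % 3).toNat = 2 := by omega
  have hmove : ∀ u ∈ J, y' * u * y'⁻¹ = y * u * y⁻¹ ∨ y' * u * y'⁻¹ = y * (y * u * y⁻¹) * y⁻¹ := by
    rcases hcases with h | h | h
    · -- `t` would make `y` centralise `J`
      exfalso
      have hid : ∀ u ∈ J, y * u * y⁻¹ = u := fun u hu => by
        have hu' : t * u * t⁻¹ ∈ J := hconj t u hu
        have h1 : y' * (t * u * t⁻¹) * y'⁻¹ = t * u * t⁻¹ := by
          rw [hconjy' _ hu', hi3 _ hu', h, pow_zero, one_mul, inv_one, mul_one]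
        have h2 : t * (y * u * y⁻¹) * t⁻¹ = t * u * t⁻¹ := by rw [← h1, hy']; group
        exact mul_left_cancel (mul_right_cancel h2)
      have := Subgroup.card_le_of_le (show J ≤ Z from fun u hu => hcentral u hu (by
        have := hid u hu; rw [mul_inv_eq_iff_eq_mul] at this; exact this.symm))
      omega
    · exact fun u hu => Or.inl (by rw [hconjy' u hu, hi3 u hu, h, pow_one])
    · exact fun u hu => Or.inr (by rw [hconjy' u hu, hi3 u hu, h, pow_two]; group)
  have hNt : ∀ u ∈ J, t * N u * t⁻¹ = N (t * u * t⁻¹) := by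
    intro u hu
    have hu' : t * u * t⁻¹ ∈ J := hconj t u hu
    have e : t * N u * t⁻¹ = (t * u * t⁻¹) * (y' * (t * u * t⁻¹) * y'⁻¹) *
        (y' * (y' * (t * u * t⁻¹) * y'⁻¹) * y'⁻¹) := by simp only [N, hy']; group
    rw [e]
    rcases hcases with h | h | h
    · have : ∀ w ∈ J, y' * w * y'⁻¹ = w := fun w hw => by
        rw [hconjy' w hw, hi3 w hw, h, pow_zero, one_mul, inv_one, mul_one]
      have hy0 : ∀ w ∈ J, y * w * y⁻¹ = w := fun w hw => by
        rcases hmove w hw with e1 | e1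
        · rw [← e1, this w hw]
        · rw [this w hw] at e1
          have := hy3 w hw
          rw [← e1] at this
          exact this
      simp only [N, this _ hu', hy0 _ hu']
    · have : ∀ w ∈ J, y' * w * y'⁻¹ = y * w * y⁻¹ := fun w hw => by
        rw [hconjy' w hw, hi3 w hw, h, pow_one]
      simp only [N, this _ hu', this _ (hconj y _ hu')]
    · have : ∀ w ∈ J, y' * w * y'⁻¹ = y * (y * w * y⁻¹) * y⁻¹ := fun w hw => by
        rw [hconjy' w hw, hi3 w hw, h, pow_two]; group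
      set w := t * u * t⁻¹
      have m1 := hconj y w hu'
      have m2 := hconj y _ m1
      simp only [N, this _ hu', this _ m2, hy3 _ hu']
      rw [mul_assoc w, hJc _ m2 _ m1, ← mul_assoc]
  -- the element a
  set a := v * (t * v * t⁻¹) with ha
  have haJ : a ∈ J := mul_mem hv (hconj t v hv)
  have hta : t * a * t⁻¹ = a := by
    rw [ha, show t * (v * (t * v * t⁻¹)) * t⁻¹ = (t * v * t⁻¹) * ((t * t) * v * (t * t)⁻¹) by group, ht2,
      one_mul, inv_one, mul_one, hJc _ (hconj t v hv) v hv]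
  have hNa : N a ≠ 1 := by
    rw [ha, hNmul v hv _ (hconj t v hv), ← hNt v hv, htz _ (hNZ v hv)]
    intro h
    refine hNv ?_
    have h3 := hJexp _ (hNJ v hv)
    rwa [pow_succ, pow_two, h, one_mul] at h3
  -- `J` is spanned by the conjugates of `a`
  have ha3 : a ^ 3 = 1 := hJexp a haJ
  set a1 := y * a * y⁻¹ with ha1
  set a2 := y * a1 * y⁻¹ with ha2
  have ha1J : a1 ∈ J := hconj _ _ haJ
  have ha2J : a2 ∈ J := hconj _ _ ha1J
  let f : ZMod 3 × ZMod 3 × ZMod 3 → J := fun w =>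
    ⟨a ^ w.1.val * a1 ^ w.2.1.val * a2 ^ w.2.2.val,
      mul_mem (mul_mem (pow_mem haJ _) (pow_mem ha1J _)) (pow_mem ha2J _)⟩
  have hfadd : ∀ w w', f (w + w') = f w * f w' := fun w w' => Subtype.ext (by
    show a ^ (w.1 + w'.1).val * a1 ^ (w.2.1 + w'.2.1).val * a2 ^ (w.2.2 + w'.2.2).val =
      (a ^ w.1.val * a1 ^ w.2.1.val * a2 ^ w.2.2.val) * (a ^ w'.1.val * a1 ^ w'.2.1.val * a2 ^ w'.2.2.val)
    rw [pow_val_add ha3, pow_val_add (hJexp _ ha1J), pow_val_add (hJexp _ ha2J)]
    have c1 := hJc _ (mul_mem (pow_mem ha1J w.2.1.val) (pow_mem ha2J w.2.2.val)) _ (pow_mem haJ w'.1.val)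
    have c2 := hJc _ (pow_mem ha2J w.2.2.val) _ (pow_mem ha1J w'.2.1.val)
    calc a ^ w.1.val * a ^ w'.1.val * (a1 ^ w.2.1.val * a1 ^ w'.2.1.val) *
          (a2 ^ w.2.2.val * a2 ^ w'.2.2.val)
        = a ^ w.1.val * a ^ w'.1.val * a1 ^ w.2.1.val * (a1 ^ w'.2.1.val * a2 ^ w.2.2.val) *
          a2 ^ w'.2.2.val := by group
      _ = a ^ w.1.val * a ^ w'.1.val * a1 ^ w.2.1.val * (a2 ^ w.2.2.val * a1 ^ w'.2.1.val) *
          a2 ^ w'.2.2.val := by rw [c2]
      _ = a ^ w.1.val * (a ^ w'.1.val * (a1 ^ w.2.1.val * a2 ^ w.2.2.val)) * a1 ^ w'.2.1.val *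
          a2 ^ w'.2.2.val := by group
      _ = a ^ w.1.val * (a1 ^ w.2.1.val * a2 ^ w.2.2.val * a ^ w'.1.val) * a1 ^ w'.2.1.val *
          a2 ^ w'.2.2.val := by rw [c1]
      _ = _ := by group)
  have hfy : ∀ w, y * (f w : H) * y⁻¹ = f (w.2.2, w.1, w.2.1) := by
    intro w
    show y * (a ^ w.1.val * a1 ^ w.2.1.val * a2 ^ w.2.2.val) * y⁻¹ =
      a ^ w.2.2.val * a1 ^ w.1.val * a2 ^ w.2.1.val
    rw [show y * (a ^ w.1.val * a1 ^ w.2.1.val * a2 ^ w.2.2.val) * y⁻¹ =
      (y * a * y⁻¹) ^ w.1.val * (y * a1 * y⁻¹) ^ w.2.1.val * (y * a2 * y⁻¹) ^ w.2.2.val by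
        simp only [conj_pow]; group, ← ha1, ← ha2, ha2, ha1, hy3 a haJ, ← ha1, ← ha2,
      hJc _ (mul_mem (pow_mem ha1J _) (pow_mem ha2J _)) _ (pow_mem haJ _), ← mul_assoc]
  have hfinj : Function.Injective f := by
    intro w w' e
    by_contra hne
    have hd : f (w - w') = 1 := by
      have := hfadd (w - w') w'
      rw [sub_add_cancel, e] at this
      exact mul_eq_right.1 this.symm
    set d := w - w' with hdd
    have hd0 : d ≠ 0 := sub_ne_zero.2 hne
    have h1 : f (d.2.2, d.1, d.2.1) = 1 := Subtype.ext (by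
      rw [← hfy, hd]; simp)
    have h2 : f (d.2.1, d.2.2, d.1) = 1 := Subtype.ext (by
      have := hfy (d.2.2, d.1, d.2.1)
      rw [h1] at this
      rw [← this]; simp)
    have hsmul : ∀ (c : ZMod 3) u, f u = 1 → f (c • u) = 1 := fun c u hu => by
      rcases three_cases c with rfl | rfl | rfl
      · rw [zero_smul]; exact Subtype.ext (by simp [f])
      · rwa [one_smul]
      · rw [add_smul, one_smul, hfadd, hu, one_mul]
    obtain ⟨c0, c1, c2, hc⟩ := span_all d hd0
    have h3 : f (1, 1, 1) = 1 := by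
      rw [← hc, hfadd, hfadd, hsmul _ _ hd, hsmul _ _ h1, hsmul _ _ h2, one_mul, one_mul]
    refine hNa ?_
    have h4 : a ^ (1 : ZMod 3).val * a1 ^ (1 : ZMod 3).val * a2 ^ (1 : ZMod 3).val = 1 :=
      congrArg Subtype.val h3
    rw [show (1 : ZMod 3).val = 1 from rfl, pow_one, pow_one, pow_one] at h4
    exact h4
  have hfsurj : Function.Surjective f := by
    refine ((Nat.bijective_iff_injective_and_card f).2 ⟨hfinj, ?_⟩).2
    rw [hJcard, Nat.card_prod, Nat.card_prod, Nat.card_zmod]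
  -- the element x
  have htJ : (∀ u ∈ J, y' * u * y'⁻¹ = y * u * y⁻¹) → False := by
    intro hsame
    have hfix : ∀ u ∈ J, t * u * t⁻¹ = u := by
      intro u hu
      have e1 : t * a1 * t⁻¹ = a1 := by
        rw [ha1, show t * (y * a * y⁻¹) * t⁻¹ = y' * (t * a * t⁻¹) * y'⁻¹ by rw [hy']; group, hta,
          hsame a haJ]
      have e2 : t * a2 * t⁻¹ = a2 := by
        rw [ha2, show t * (y * a1 * y⁻¹) * t⁻¹ = y' * (t * a1 * t⁻¹) * y'⁻¹ by rw [hy']; group, e1,
          hsame a1 ha1J]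
      obtain ⟨w, hw⟩ := hfsurj ⟨u, hu⟩
      rw [show u = (f w : H) from (congrArg Subtype.val hw).symm]
      show t * (a ^ w.1.val * a1 ^ w.2.1.val * a2 ^ w.2.2.val) * t⁻¹ = _
      rw [show t * (a ^ w.1.val * a1 ^ w.2.1.val * a2 ^ w.2.2.val) * t⁻¹ =
        (t * a * t⁻¹) ^ w.1.val * (t * a1 * t⁻¹) ^ w.2.1.val * (t * a2 * t⁻¹) ^ w.2.2.val by
          simp only [conj_pow]; group, hta, e1, e2]
    have hyy : y' * y⁻¹ ∈ J := by
      rcases hcases with h | h | h
      all_goals
        by_contra hcon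
        obtain ⟨u, hu, hne⟩ : ∃ u ∈ J, y * u * y⁻¹ ≠ u := by
          by_contra hall
          push Not at hall
          have := Subgroup.card_le_of_le (show J ≤ Z from fun u hu => hcentral u hu (by
            have := hall u hu; rw [mul_inv_eq_iff_eq_mul] at this; exact this.symm))
          omega
      · have := hsame u hu
        rw [hconjy' u hu, hi3 u hu, h, pow_zero, one_mul, inv_one, mul_one] at this
        exact hne this.symm
      · refine hcon ?_
        rw [← hi]
        have hy3J : y ^ (3 : ℤ) ∈ J := by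
          have h9 : (J.subgroupOf S).index = 3 := by
            have := (J.subgroupOf (S : Subgroup H)).card_mul_index
            rw [Nat.card_congr (Subgroup.subgroupOfEquivOfLe hJS).toEquiv, hJcard, hScard] at this
            omega
          have := Subgroup.pow_index_mem (J.subgroupOf (S : Subgroup H)) ⟨y, hyS⟩
          rw [h9] at this
          rw [show (3 : ℤ) = ((3 : ℕ) : ℤ) from rfl, zpow_natCast]; exact this
        rw [mul_assoc, ← zpow_neg_one, ← zpow_add]
        refine mul_mem hj ?_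
        rw [show i + -1 = 3 * (i / 3) by omega, zpow_mul]
        exact zpow_mem hy3J _
      · have := hsame u hu
        rw [hconjy' u hu, hi3 u hu, h] at this
        refine hne ?_
        have e3 : y * (y * u * y⁻¹) * y⁻¹ = y * u * y⁻¹ := by
          refine Eq.trans ?_ this; rw [pow_two]; group
        exact mul_left_cancel (mul_right_cancel e3)
    have hsq : y' = y := by
      set k := y' * y⁻¹ with hk
      have e1 : t * y * t⁻¹ = k * y := by rw [hk, inv_mul_cancel_right]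
      have e2 : y = k * (k * y) := by
        calc y = (t * t) * y * (t * t)⁻¹ := by rw [ht2]; group
          _ = t * (t * y * t⁻¹) * t⁻¹ := by group
          _ = t * (k * y) * t⁻¹ := by rw [e1]
          _ = (t * k * t⁻¹) * (t * y * t⁻¹) := by group
          _ = _ := by rw [hfix k hyy, e1]
      have hk2 : k * k = 1 := by
        rw [← mul_assoc] at e2
        exact mul_eq_right.1 e2.symm
      have hk3 := hJexp k hyy
      rw [pow_succ, pow_two, hk2, one_mul] at hk3
      rw [hk3, one_mul] at e1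
      exact e1
    refine hST (inf_eq_left.2 ?_)
    rw [hTeq, ← hJy, sup_le_iff, zpowers_le]
    constructor
    · intro u hu
      rw [Subgroup.mem_centralizer_iff]
      intro g hg
      obtain ⟨k, rfl⟩ := mem_zpowers_iff.1 hg
      exact ((show Commute t u from mul_inv_eq_iff_eq_mul.1 (hfix u hu)).zpow_left k).eq
    · rw [Subgroup.mem_centralizer_iff]
      intro g hg
      obtain ⟨k, rfl⟩ := mem_zpowers_iff.1 hg
      exact ((show Commute t y from mul_inv_eq_iff_eq_mul.1 (hy'.symm.trans hsq)).zpow_left k).eq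
  set x := y'⁻¹ * y with hx
  have hxS : x ∈ (S : Subgroup H) := mul_mem (inv_mem hy'S) hyS
  have htx : t * x * t⁻¹ = x⁻¹ := by
    have e : t * ((t * y * t⁻¹)⁻¹ * y) * t⁻¹ = (t * t) * y⁻¹ * (t * t)⁻¹ * (t * y * t⁻¹) := by group
    rw [ht2, inv_one, one_mul, mul_one] at e
    rw [hx, hy', e]
    group
  have h2m : (i % 3).toNat = 2 := by
    rcases hcases with h | h | h
    · exfalso
      have hid : ∀ w ∈ J, y' * w * y'⁻¹ = w := fun w hw => by
        rw [hconjy' w hw, hi3 w hw, h, pow_zero, one_mul, inv_one, mul_one]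
      refine htJ fun w hw => ?_
      rcases hmove w hw with e1 | e1
      · exact e1
      · rw [hid w hw] at e1
        have := hy3 w hw
        rw [← e1] at this
        rw [hid w hw, this]
    · exact (htJ fun u hu => by rw [hconjy' u hu, hi3 u hu, h, pow_one]).elim
    · exact h
  -- `x` acts as `y ^ 2`
  have hxact : ∀ u ∈ J, x * u * x⁻¹ = y * (y * u * y⁻¹) * y⁻¹ := by
    intro u hu
    have hyy : ∀ w ∈ J, y' * w * y'⁻¹ = y * (y * w * y⁻¹) * y⁻¹ := fun w hw => by
      rw [hconjy' w hw, hi3 w hw, h2m, pow_two]; group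
    have e1 := hyy _ (hconj y _ (hconj y u hu))
    rw [hy3 u hu] at e1
    calc x * u * x⁻¹ = y'⁻¹ * (y * u * y⁻¹) * y' := by rw [hx]; group
      _ = y'⁻¹ * (y' * (y * (y * u * y⁻¹) * y⁻¹) * y'⁻¹) * y' := by rw [e1]
      _ = _ := by group
  have hxJ : x ∉ J := fun h => by
    obtain ⟨u, hu, hne⟩ : ∃ u ∈ J, y * u * y⁻¹ ≠ u := by
      by_contra hall
      push Not at hall
      have := Subgroup.card_le_of_le (show J ≤ Z from fun u hu => hcentral u hu (by
        have := hall u hu; rw [mul_inv_eq_iff_eq_mul] at this; exact this.symm))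
      omega
    have e := hxact u hu
    rw [hJc x h u hu, mul_inv_cancel_right] at e
    refine hne ?_
    have := hy3 u hu
    rw [← e] at this
    exact this
  have hx3 : x ^ 3 = 1 := by
    have h9 : (J.subgroupOf S).index = 3 := by
      have := (J.subgroupOf (S : Subgroup H)).card_mul_index
      rw [Nat.card_congr (Subgroup.subgroupOfEquivOfLe hJS).toEquiv, hJcard, hScard] at this
      omega
    have hmem := Subgroup.pow_index_mem (J.subgroupOf (S : Subgroup H)) ⟨x, hxS⟩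
    rw [h9] at hmem
    have hm : x ^ 3 ∈ J := hmem
    have hc : y * x ^ 3 * y⁻¹ = x ^ 3 := by
      have e := hxact _ hm
      rw [show x * x ^ 3 * x⁻¹ = x ^ 3 by group] at e
      have := hy3 _ hm
      rw [← e] at this
      exact this
    have hz := htz _ (hcentral _ hm (by rw [mul_inv_eq_iff_eq_mul] at hc; exact hc.symm))
    rw [← conj_pow, htx, inv_pow, inv_eq_iff_mul_eq_one] at hz
    have h3 := hJexp _ hm
    rw [pow_succ, pow_two, hz, one_mul] at h3
    exact h3
  have hrel : Rels a x t := ⟨ha3, hx3, ht2, hJc a haJ _ (by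
    rw [hxact a haJ]; exact ha2J), hta, htx⟩
  refine ⟨a, x, t, hrel, (Nat.bijective_iff_surjective_and_card _).2 ⟨?_, ?_⟩⟩
  · -- the image is a subgroup containing generators
    let M : Submonoid H :=
      { carrier := Set.range (ev a x t)
        one_mem' := ⟨((0, 0, 0), 0, 0), by simp [ev]⟩
        mul_mem' := by rintro _ _ ⟨n, rfl⟩ ⟨m, rfl⟩; exact ⟨op n m, (ev_mul hrel n m).symm⟩ }
    let R : Subgroup H :=
      { M with
        inv_mem' := fun {g} hg => by
          have e : g⁻¹ = g ^ (orderOf g - 1) := inv_eq_of_mul_eq_one_right (by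
            rw [← pow_succ', Nat.sub_add_cancel (orderOf_pos g), pow_orderOf_eq_one])
          rw [e]
          exact M.pow_mem hg _ }
    intro g
    have hJR : J ≤ R := by
      intro u hu
      obtain ⟨w, hw⟩ := hfsurj ⟨u, hu⟩
      show u ∈ Set.range (ev a x t)
      refine ⟨((w.1, w.2.2, w.2.1), 0, 0), ?_⟩
      have e1 : cj a x 1 = a2 := by
        show x ^ 1 * a * (x ^ 1)⁻¹ = a2
        rw [pow_one, hxact a haJ]
      have e2 : cj a x 2 = a1 := by
        show x ^ 2 * a * (x ^ 2)⁻¹ = a1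
        rw [show x ^ 2 * a * (x ^ 2)⁻¹ = x * (x * a * x⁻¹) * x⁻¹ by rw [pow_two]; group, hxact a haJ, ← ha1, ← ha2,
          hxact _ ha2J]
        exact hy3 a1 ha1J
      show cj a x 0 ^ w.1.val * cj a x 1 ^ w.2.2.val * cj a x 2 ^ w.2.1.val * x ^ (0 : ZMod 3).val *
        t ^ (0 : ZMod 2).val = u
      rw [e1, e2, show cj a x 0 = a by simp [cj], mul_assoc (a ^ w.1.val),
        hJc _ (pow_mem ha2J _) _ (pow_mem ha1J _), ← mul_assoc]
      simpa [f] using congrArg Subtype.val hw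
    have hxR : x ∈ R := (⟨(0, 1, 0), by simp [ev, show (1 : ZMod 3).val = 1 from rfl]⟩ : x ∈ Set.range (ev a x t))
    have htR : t ∈ R := (⟨(0, 0, 1), by simp [ev, show (1 : ZMod 2).val = 1 from rfl]⟩ : t ∈ Set.range (ev a x t))
    have hRtop : R = ⊤ := by
      refine Subgroup.eq_top_of_card_eq _ ?_
      have hdR := Subgroup.card_subgroup_dvd_card R
      rw [hG] at hdR ⊢
      have hbig : 81 < Nat.card R := by
        have hlt : J < J ⊔ zpowers x := lt_of_le_of_ne le_sup_left fun e =>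
          hxJ (e ▸ mem_sup_right (mem_zpowers x))
        have h81 : J ⊔ zpowers x = (S : Subgroup H) := by
          refine eq_of_le_of_card_ge (sup_le hJS (zpowers_le.2 hxS)) ?_
          have hd : Nat.card ↥(J ⊔ zpowers x) ∣ 3 ^ 4 := by
            rw [show (3 : ℕ) ^ 4 = 81 from rfl, ← hScard]
            exact Subgroup.card_dvd_of_le (sup_le hJS (zpowers_le.2 hxS))
          obtain ⟨k, hk, hk'⟩ := (Nat.dvd_prime_pow Nat.prime_three).1 hd
          have h27 : 27 < 3 ^ k := by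
            rw [← hk', ← hJcard]
            by_contra hh
            exact hlt.ne (eq_of_le_of_card_ge hlt.le (by omega))
          have hk4 : 4 ≤ k := by
            by_contra hh
            have : 3 ^ k ≤ 3 ^ 3 := Nat.pow_le_pow_right (by norm_num) (by omega)
            omega
          rw [hScard, hk', show (81 : ℕ) = 3 ^ 4 from rfl]
          exact Nat.pow_le_pow_right (by norm_num) hk4
        have hSR : (S : Subgroup H) < R := by
          refine lt_of_le_of_ne (h81 ▸ sup_le hJR (zpowers_le.2 hxR)) fun e => ?_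
          have := Subgroup.orderOf_dvd_natCard _ (e ▸ htR : t ∈ (S : Subgroup H))
          rw [ht1, hScard] at this
          omega
        rw [← hScard]
        by_contra hh
        exact hSR.ne (eq_of_le_of_card_ge hSR.le (by omega))
      obtain ⟨c, hc⟩ := hdR
      rcases c with _ | _ | c
      · omega
      · omega
      · nlinarith
    exact (show g ∈ R from hRtop ▸ Subgroup.mem_top g)
  · rw [hG, Nat.card_prod, Nat.card_prod, Nat.card_prod, Nat.card_prod, Nat.card_zmod, Nat.card_zmod]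

end CfsgLib.Rec.Order162
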