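import Cfsg.Agent.Lib.Rec.Order162

/-!
The centraliser of `(012)(345)(678)` in `Sym(9)`.
-/

set_option autoImplicit false

namespace CfsgLib.Rec.Order162Target

open CfsgLib.Rec.Order162

/-- `(012)(345)(678)` -/
def sig : Equiv.Perm (Fin 9) :=
  Equiv.swap (0 : Fin 9) 1 * Equiv.swap 1 2 * Equiv.swap 3 4 * Equiv.swap 4 5 * Equiv.swap 6 7 * Equiv.swap 7 8

/-- `(012)` -/
def pa : Equiv.Perm (Fin 9) := Equiv.swap (0 : Fin 9) 1 * Equiv.swap 1 2
/-- `(036)(147)(258)` -/
def px : Equiv.Perm (Fin 9) :=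
  Equiv.swap (0 : Fin 9) 3 * Equiv.swap 3 6 * Equiv.swap 1 4 * Equiv.swap 4 7 * Equiv.swap 2 5 * Equiv.swap 5 8
/-- `(36)(47)(58)` -/
def pt : Equiv.Perm (Fin 9) := Equiv.swap (3 : Fin 9) 6 * Equiv.swap 4 7 * Equiv.swap 5 8

theorem commutes : pa * sig = sig * pa ∧ px * sig = sig * px ∧ pt * sig = sig * pt := by decide +kernel

theorem rels : Rels pa px pt :=
  ⟨by decide +kernel, by decide +kernel, by decide +kernel, by unfold Commute SemiconjBy; decide +kernel,
    by decide +kernel, by decide +kernel⟩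

theorem ev_injective : ∀ n : NF, ev pa px pt n = 1 → n = ((0, 0, 0), 0, 0) := by decide +kernel

/-- the values of a centralising permutation -/
def row (i j k : Fin 9) : List (Fin 9) :=
  [i, sig i, sig (sig i), j, sig j, sig (sig j), k, sig k, sig (sig k)]

theorem cover : ∀ i j k : Fin 9, (row i j k).Nodup →
    ∃ n : NF, ev pa px pt n 0 = i ∧ ev pa px pt n 3 = j ∧ ev pa px pt n 6 = k := by decide +kernel

theorem iso {G : Type*} [Group G] [Finite G] (hG : Nat.card G = 162)
    (S : Sylow 3 G) (T : Sylow 2 G) (J : Subgroup G) [J.Normal] (hJcomm : IsMulCommutative J)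
    (hJexp : ∀ a ∈ J, a ^ 3 = 1) (hJcard : Nat.card J = 27)
    (Z : Subgroup G) (hZ : Z = (S : Subgroup G) ⊓ Subgroup.centralizer ((S : Subgroup G) : Set G))
    (hZcard : Nat.card Z = 3) (hZT : Z ≤ Subgroup.centralizer ((T : Subgroup G) : Set G))
    (hST : (S : Subgroup G) ⊓ Subgroup.centralizer ((T : Subgroup G) : Set G) ≠ S) :
    Nonempty (G ≃* Subgroup.centralizer ({sig} : Set (Equiv.Perm (Fin 9)))) := by
  obtain ⟨a, x, t, hrel, hbij⟩ := exists_rels hG S T J hJcomm hJexp hJcard Z hZ hZcard hZT hST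
  set C := Subgroup.centralizer ({sig} : Set (Equiv.Perm (Fin 9))) with hC
  let b : C := ⟨pa, Subgroup.mem_centralizer_singleton_iff.2 commutes.1⟩
  let y : C := ⟨px, Subgroup.mem_centralizer_singleton_iff.2 commutes.2.1⟩
  let s : C := ⟨pt, Subgroup.mem_centralizer_singleton_iff.2 commutes.2.2⟩
  have hr : Rels b y s := ⟨Subtype.ext rels.a3, Subtype.ext rels.x3, Subtype.ext rels.t2,
    Subtype.ext rels.comm.eq, Subtype.ext rels.ta, Subtype.ext rels.tx⟩
  have hev : ∀ n, ((ev b y s n : C) : Equiv.Perm (Fin 9)) = ev pa px pt n := fun n => by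
    simp [ev, cj, b, y, s]
  refine exists_iso hrel hr hbij ⟨fun n m e => ?_, fun g => ?_⟩
  · have e' : ev pa px pt n = ev pa px pt m := by rw [← hev, ← hev, e]
    -- compare through a left inverse
    obtain ⟨n', hn'⟩ : ∃ n', op n' n = ((0, 0, 0), 0, 0) := by
      have : ∀ n : NF, ∃ n', op n' n = ((0, 0, 0), 0, 0) := fun n =>
        ⟨((-(shift (-(if n.2.2 = 0 then n.2.1 else -n.2.1)) (refl' n.2.2 n.1))),
          -(if n.2.2 = 0 then n.2.1 else -n.2.1), n.2.2), by revert n; decide +kernel⟩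
      exact this n
    have h1 : ev pa px pt (op n' m) = 1 := by
      rw [← ev_mul rels, ← e', ev_mul rels, hn']; simp [ev]
    exact inj_of_op n' n m (hn'.trans (ev_injective _ h1).symm)
  · have hg : (g : Equiv.Perm (Fin 9)) * sig = sig * g := Subgroup.mem_centralizer_singleton_iff.1 g.2
    have hgs : ∀ p, (g : Equiv.Perm (Fin 9)) (sig p) = sig ((g : Equiv.Perm (Fin 9)) p) := fun p => by
      rw [← Equiv.Perm.mul_apply, hg]; rfl
    set g0 := (g : Equiv.Perm (Fin 9))
    have hrow : row (g0 0) (g0 3) (g0 6) = [(0 : Fin 9), 1, 2, 3, 4, 5, 6, 7, 8].map g0 := by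
      simp only [row, ← hgs, List.map_cons, List.map_nil]; rfl
    obtain ⟨n, h0, h3, h6⟩ := cover _ _ _ (hrow ▸ List.Nodup.map g0.injective (by decide))
    refine ⟨n, Subtype.ext (Equiv.ext fun p => ?_)⟩
    rw [hev]
    set e := ev pa px pt n
    have he : ∀ p, e (sig p) = sig (e p) := fun p => by
      have := Subgroup.mem_centralizer_singleton_iff.1 (ev b y s n).2
      rw [hev] at this
      rw [← Equiv.Perm.mul_apply, this]; rfl
    have key : ∀ p, e p = g0 p → e (sig p) = g0 (sig p) := fun p h => by rw [he, hgs, h]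
    have hp : ∀ p : Fin 9, p = 0 ∨ p = sig 0 ∨ p = sig (sig 0) ∨ p = 3 ∨ p = sig 3 ∨ p = sig (sig 3) ∨
        p = 6 ∨ p = sig 6 ∨ p = sig (sig 6) := by decide +kernel
    rcases hp p with rfl | rfl | rfl | rfl | rfl | rfl | rfl | rfl | rfl
    exacts [h0, key _ h0, key _ (key _ h0), h3, key _ h3, key _ (key _ h3), h6, key _ h6, key _ (key _ h6)]
where
  inj_of_op (k n m : NF) (h : op k n = op k m) : n = m := by
    obtain ⟨v, l, e⟩ := k
    obtain ⟨n1, n2, n3⟩ := n
    obtain ⟨m1, m2, m3⟩ := m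
    simp only [op, Prod.mk.injEq, add_right_inj] at h
    obtain ⟨h1, h2, h3⟩ := h
    have hs : Function.Injective fun w => shift l (refl' e w) := by
      clear h1 h2
      intro a b
      revert a b
      revert l e
      decide +kernel
    refine Prod.ext (hs h1) (Prod.ext ?_ h3)
    split_ifs at h2 with he
    · exact h2
    · exact neg_injective h2

end CfsgLib.Rec.Order162Target
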