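import Mathlib
import Cfsg.Prelude.Def_Classical
import Cfsg.Agent.Lib.Classical.SympSimple
import Cfsg.Agent.Lib.Classical.SympOrder

/-!
The centraliser of a 3-central element of order three in `PSp₄(3)`.
-/

set_option autoImplicit false

namespace CfsgLib.Rec.PSpCentralThree

open Matrix

variable {R : Type*} [CommRing R]

/-- Element of the stabiliser of the first basis vector. -/
def mat (v₁ v₂ a p q r s : R) : Matrix (Fin 2 ⊕ Fin 2) (Fin 2 ⊕ Fin 2) R :=
  fromBlocks !![1, r * v₁ - p * v₂; 0, p] !![-a, s * v₁ - q * v₂; v₁, q] !![0, 0; 0, r] !![1, 0; v₂, s]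

theorem mat_one : mat (0 : R) 0 0 1 0 0 1 = 1 := by
  ext i j
  fin_cases i <;> fin_cases j <;> simp [mat]

theorem mat_mul (v₁ v₂ a p q r s w₁ w₂ b p' q' r' s' : R) (h : p * s - q * r = 1) :
    mat v₁ v₂ a p q r s * mat w₁ w₂ b p' q' r' s' =
      mat (v₁ + (p * w₁ + q * w₂)) (v₂ + (r * w₁ + s * w₂))
        (a + b - (v₁ * (r * w₁ + s * w₂) - v₂ * (p * w₁ + q * w₂)))
        (p * p' + q * r') (p * q' + q * s') (r * p' + s * r') (r * q' + s * s') := by
  ext i j
  fin_cases i <;> fin_cases j <;> simp [mat, Matrix.mul_apply, Fintype.sum_sum_type, Fin.sum_univ_two]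
  all_goals (first | ring1 | linear_combination (p' * w₂ - r' * w₁) * h | linear_combination (q' * w₂ - s' * w₁) * h)

theorem mat_mem (v₁ v₂ a p q r s : R) (h : p * s - q * r = 1) :
    mat v₁ v₂ a p q r s ∈ Matrix.symplecticGroup (Fin 2) R := by
  rw [SymplecticGroup.mem_iff]
  ext i j
  fin_cases i <;> fin_cases j <;>
    simp [mat, Matrix.J, Matrix.mul_apply, Fintype.sum_sum_type, Fin.sum_univ_two, Matrix.transpose_apply]
  all_goals (first | ring1 | linear_combination h | linear_combination -h | linear_combination v₁ * h |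
    linear_combination -v₁ * h | linear_combination v₂ * h | linear_combination -v₂ * h)

/-- Symplectic matrices fixing the first basis vector. -/
theorem eq_mat_of_fix {g : Matrix (Fin 2 ⊕ Fin 2) (Fin 2 ⊕ Fin 2) R}
    (hg : g ∈ Matrix.symplecticGroup (Fin 2) R)
    (h0 : ∀ i, g i (.inl 0) = if i = .inl 0 then 1 else 0) :
    ∃ v₁ v₂ a p q r s : R, p * s - q * r = 1 ∧ g = mat v₁ v₂ a p q r s := by
  have hJ := SymplecticGroup.mem_iff'.1 hg
  have e : ∀ i j, (gᵀ * Matrix.J (Fin 2) R * g) i j = Matrix.J (Fin 2) R i j := fun i j => by rw [hJ]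
  have e0 := e (.inl 0)
  have h00 : g (.inl 0) (.inl 0) = 1 := by simpa using h0 (.inl 0)
  have h10 : g (.inl 1) (.inl 0) = 0 := by simpa using h0 (.inl 1)
  have h20 : g (.inr 0) (.inl 0) = 0 := by simpa using h0 (.inr 0)
  have h30 : g (.inr 1) (.inl 0) = 0 := by simpa using h0 (.inr 1)
  have r1 : g (.inr 0) (.inl 1) = 0 := by
    have := e (.inl 0) (.inl 1)
    simpa [Matrix.J, Matrix.mul_apply, Fintype.sum_sum_type, Fin.sum_univ_two, h00, h10, h20, h30] using this
  have r2 : g (.inr 0) (.inr 0) = 1 := by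
    have := e (.inl 0) (.inr 0)
    simpa [Matrix.J, Matrix.mul_apply, Fintype.sum_sum_type, Fin.sum_univ_two, h00, h10, h20, h30] using this
  have r3 : g (.inr 0) (.inr 1) = 0 := by
    have := e (.inl 0) (.inr 1)
    simpa [Matrix.J, Matrix.mul_apply, Fintype.sum_sum_type, Fin.sum_univ_two, h00, h10, h20, h30] using this
  have q1 := e (.inl 1) (.inr 0)
  have q2 := e (.inr 1) (.inr 0)
  have q3 := e (.inl 1) (.inr 1)
  simp [Matrix.J, Matrix.mul_apply, Fintype.sum_sum_type, Fin.sum_univ_two, r1, r2, r3] at q1 q2 q3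
  refine ⟨g (.inl 1) (.inr 0), g (.inr 1) (.inr 0), -g (.inl 0) (.inr 0), g (.inl 1) (.inl 1),
    g (.inl 1) (.inr 1), g (.inr 1) (.inl 1), g (.inr 1) (.inr 1), by linear_combination -q3, ?_⟩
  ext i j
  fin_cases i <;> fin_cases j <;> simp [mat, h00, h10, h20, h30, r1, r2, r3]
  · linear_combination -q1
  · linear_combination -q2

section Field

universe u

variable {F : Type u} [Field F]

/-- The stabiliser of the first basis vector. -/
def stab (F : Type u) [Field F] : Set (Matrix.symplecticGroup (Fin 2) F) :=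
  {g | ∀ i, g.1 i (.inl 0) = if i = .inl 0 then 1 else 0}

theorem three_eq_zero [Fintype F] (hF : Fintype.card F = 3) : (3 : F) = 0 := by
  have := FiniteField.cast_card_eq_zero F
  rw [hF] at this
  exact_mod_cast this

theorem commute_cases {g : Matrix.symplecticGroup (Fin 2) F}
    (hcom : g.1 * mat (0 : F) 0 1 1 0 0 1 = mat (0 : F) 0 1 1 0 0 1 * g.1) :
    g ∈ stab F ∨ (⟨-g.1, SymplecticGroup.neg_mem g.2⟩ : Matrix.symplecticGroup (Fin 2) F) ∈ stab F := by
  set l := g.1 (.inr 0) (.inr 0) with hl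
  have hcol : ∀ i, g.1 i (.inl 0) = if i = .inl 0 then l else 0 := by
    intro i
    have h := congrArg (fun M => M i (.inr 0)) hcom
    fin_cases i <;>
      simp [mat, Matrix.mul_apply, Fintype.sum_sum_type, Fin.sum_univ_two, hl] at h ⊢ <;>
      first | exact h | linear_combination -h | linear_combination h
  have hJ := SymplecticGroup.mem_iff'.1 g.2
  have h2 := congrArg (fun M => M (.inl 0) (.inr 0)) hJ
  simp [Matrix.J, Matrix.mul_apply, Fintype.sum_sum_type, Fin.sum_univ_two, hcol, ← hl] at h2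
  have hl1 : l = 1 ∨ l = -1 := mul_self_eq_one_iff.1 h2
  rcases hl1 with h1 | h1
  · exact Or.inl fun i => by rw [hcol, h1]
  · refine Or.inr fun i => ?_
    show (-g.1) i (.inl 0) = _
    rw [Matrix.neg_apply, hcol, h1]
    split <;> simp

theorem centralizer_iso [Fintype F] (hF : Fintype.card F = 3) {X : Type*} [Group X] [Finite X]
    (hX : Nat.card X = 648) (φ : X →* Matrix.symplecticGroup (Fin 2) F) (hφ : Function.Injective φ)
    (hrange : ∀ g, g ∈ φ.range ↔ g ∈ stab F) :
    ∃ (c : Cfsg.PSp 2 F) (S : Sylow 3 (Cfsg.PSp 2 F)), orderOf c = 3 ∧ c ∈ (S : Subgroup (Cfsg.PSp 2 F)) ∧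
      c ∈ Subgroup.centralizer ((S : Subgroup (Cfsg.PSp 2 F)) : Set (Cfsg.PSp 2 F)) ∧
      Nonempty (X ≃* Subgroup.centralizer ({c} : Set (Cfsg.PSp 2 F))) := by
  classical
  haveI : Fact (Nat.Prime 3) := ⟨Nat.prime_three⟩
  have h3 := three_eq_zero hF
  have h2 : (2 : F) ≠ 0 := fun h => one_ne_zero (show (1 : F) = 0 by linear_combination h3 - h)
  let t : Matrix.symplecticGroup (Fin 2) F :=
    ⟨mat (0 : F) 0 1 1 0 0 1, mat_mem _ _ _ _ _ _ _ (by ring)⟩
  set π := QuotientGroup.mk' (Subgroup.center (Matrix.symplecticGroup (Fin 2) F))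
  have hcomm : ∀ g : Matrix.symplecticGroup (Fin 2) F, g ∈ stab F → g * t = t * g := by
    intro g hg
    obtain ⟨v₁, v₂, a, p, q, r, s, hdet, hgm⟩ := eq_mat_of_fix g.2 hg
    refine Subtype.ext ?_
    rw [Submonoid.coe_mul, Submonoid.coe_mul, hgm, show t.1 = mat (0 : F) 0 1 1 0 0 1 from rfl,
      mat_mul _ _ _ _ _ _ _ _ _ _ _ _ _ _ hdet, mat_mul _ _ _ _ _ _ _ _ _ _ _ _ _ _ (by ring)]
    congr 1 <;> ring
  let ψ : X →* Subgroup.centralizer ({π t} : Set (Cfsg.PSp 2 F)) :=
    (π.comp φ).codRestrict _ fun x => Subgroup.mem_centralizer_singleton_iff.2 (by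
      rw [MonoidHom.comp_apply, ← map_mul, ← map_mul, hcomm _ ((hrange _).1 ⟨x, rfl⟩)])
  have hψi : Function.Injective ψ := by
    rw [injective_iff_map_eq_one]
    intro x hx
    have hx' : π (φ x) = 1 := congrArg Subtype.val hx
    rw [QuotientGroup.mk'_apply, QuotientGroup.eq_one_iff, CfsgLib.Classical.mem_center_sp_iff] at hx'
    rcases hx' with h | h
    · exact hφ ((Subtype.ext h).trans (map_one φ).symm)
    · exfalso
      have := (hrange _).1 ⟨x, rfl⟩ (.inl 0)
      simp [h] at this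
      exact h2 (by linear_combination -this)
  have hψs : Function.Surjective ψ := by
    rintro ⟨y, hy⟩
    obtain ⟨g, rfl⟩ := QuotientGroup.mk'_surjective _ y
    rw [Subgroup.mem_centralizer_singleton_iff, ← map_mul, ← map_mul, eq_comm, QuotientGroup.mk'_eq_mk'] at hy
    obtain ⟨z, hz, hz'⟩ := hy
    have hz2 : t.1 * g.1 * z.1 = g.1 * t.1 := congrArg Subtype.val hz'
    rcases CfsgLib.Classical.mem_center_sp_iff.1 hz with h | h
    · rw [h, mul_one] at hz2
      rcases commute_cases hz2.symm with hg | hg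
      · obtain ⟨x, hx⟩ := (hrange _).2 hg
        exact ⟨x, Subtype.ext (show π (φ x) = π g by rw [hx])⟩
      · obtain ⟨x, hx⟩ := (hrange _).2 hg
        refine ⟨x, Subtype.ext (show π (φ x) = π g from ?_)⟩
        rw [hx, QuotientGroup.mk'_eq_mk']
        exact ⟨⟨-1, SymplecticGroup.neg_mem (one_mem _)⟩, CfsgLib.Classical.mem_center_sp_iff.2 (Or.inr rfl),
          Subtype.ext (by simp)⟩
    · exfalso
      rw [h, mul_neg, mul_one] at hz2
      have hgi : g.1 * (g⁻¹).1 = 1 := congrArg Subtype.val (mul_inv_cancel g)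
      have hgi' : (g⁻¹).1 * g.1 = 1 := congrArg Subtype.val (inv_mul_cancel g)
      have htr := congrArg (fun M => Matrix.trace ((g⁻¹).1 * M)) hz2
      simp only [mul_neg, ← mul_assoc, hgi', one_mul, Matrix.trace_neg] at htr
      rw [Matrix.trace_mul_cycle, hgi, one_mul] at htr
      have ht : t.1.trace = 4 := by
        simp [t, mat, Matrix.trace, Fintype.sum_sum_type, Fin.sum_univ_two]; ring
      rw [ht] at htr
      exact h2 (by linear_combination -htr - 2 * h3)
  let e := MulEquiv.ofBijective ψ ⟨hψi, hψs⟩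
  have hC : Nat.card (Subgroup.centralizer ({π t} : Set (Cfsg.PSp 2 F))) = 648 := by
    rw [← Nat.card_congr e.toEquiv, hX]
  have hG : Nat.card (Cfsg.PSp 2 F) = 25920 := by
    have h := Subgroup.card_eq_card_quotient_mul_card_subgroup
      (Subgroup.center (Matrix.symplecticGroup (Fin 2) F))
    rw [CfsgLib.Classical.card_symplecticGroup, CfsgLib.Classical.card_center_sp,
      Nat.card_eq_fintype_card (α := F), hF] at h
    norm_num [Finset.prod_range_succ] at h
    simp only [Cfsg.PSp, Nat.card_eq_fintype_card]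
    omega
  set C := Subgroup.centralizer ({π t} : Set (Cfsg.PSp 2 F))
  obtain ⟨P⟩ : Nonempty (Sylow 3 C) := inferInstance
  have hP : Nat.card P = 81 := by
    rw [P.card_eq_multiplicity, hC, show (648 : ℕ) = 3 ^ 4 * 8 by norm_num,
      Nat.factorization_mul (by norm_num) (by norm_num), Finsupp.add_apply,
      Nat.Prime.factorization_pow Nat.prime_three, Finsupp.single_eq_same,
      Nat.factorization_eq_zero_of_not_dvd (by norm_num)]
    norm_num
  let T : Subgroup (Cfsg.PSp 2 F) := (P : Subgroup C).map C.subtype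
  have hTc : Nat.card T = 81 := by rw [Subgroup.card_map_of_injective C.subtype_injective, hP]
  have hTi : ¬ 3 ∣ T.index := by
    have := T.card_mul_index
    rw [hTc, hG] at this
    omega
  let S : Sylow 3 (Cfsg.PSp 2 F) := (P.isPGroup'.map C.subtype).toSylow hTi
  have hπt : orderOf (π t) = 3 := by
    refine orderOf_eq_prime ?_ ?_
    · rw [← map_pow]
      have : t ^ 3 = 1 := Subtype.ext (by
        rw [pow_succ, pow_two, Submonoid.coe_mul, Submonoid.coe_mul, show t.1 = mat (0 : F) 0 1 1 0 0 1 from rfl,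
          mat_mul _ _ _ _ _ _ _ _ _ _ _ _ _ _ (by ring), mat_mul _ _ _ _ _ _ _ _ _ _ _ _ _ _ (by ring),
          Submonoid.coe_one, ← mat_one]
        congr 1 <;> first | ring1 | linear_combination h3)
      rw [this, map_one]
    · intro h
      rw [QuotientGroup.mk'_apply, QuotientGroup.eq_one_iff, CfsgLib.Classical.mem_center_sp_iff] at h
      rcases h with h | h <;>
        · have := congrArg (fun M => M (.inl 0) (.inr 0)) h
          simp [t, mat] at this
  refine ⟨π t, S, hπt, ?_, ?_, ⟨e⟩⟩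
  · refine Subgroup.mem_map.2 ⟨⟨π t, Subgroup.mem_centralizer_singleton_iff.2 rfl⟩, ?_, rfl⟩
    have hz : ⟨π t, Subgroup.mem_centralizer_singleton_iff.2 rfl⟩ ∈ Subgroup.center C :=
      Subgroup.mem_center_iff.2 fun g => Subtype.ext (Subgroup.mem_centralizer_singleton_iff.1 g.2)
    have hp : IsPGroup 3 (Subgroup.zpowers (⟨π t, Subgroup.mem_centralizer_singleton_iff.2 rfl⟩ : C)) :=
      IsPGroup.of_card (n := 1) (by rw [Nat.card_zpowers, ← Subgroup.orderOf_coe, pow_one]; exact hπt)
    haveI : (Subgroup.zpowers (⟨π t, Subgroup.mem_centralizer_singleton_iff.2 rfl⟩ : C)).Normal :=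
      ⟨fun a ha g => by rwa [Subgroup.mem_center_iff.1 (Subgroup.zpowers_le.2 hz ha) g, mul_inv_cancel_right]⟩
    exact hp.le_sylow_of_normal P (Subgroup.mem_zpowers _)
  · refine Subgroup.mem_centralizer_iff.2 fun y hy => ?_
    obtain ⟨w, -, rfl⟩ := Subgroup.mem_map.1 hy
    exact Subgroup.mem_centralizer_singleton_iff.1 w.2

end Field

end CfsgLib.Rec.PSpCentralThree
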